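import Groth.Agent.L24.Split.SchemeChart
import Groth.Agent.S1477
import Groth.Agent.L19.GenericFinite
import Mathlib.AlgebraicGeometry.ZariskisMainTheorem
import Mathlib.RingTheory.Ideal.Operations

/-!
# The chart of finite open pieces over an affine scheme
-/

set_option autoImplicit false
set_option linter.style.haveILetI false
set_option backward.isDefEq.respectTransparency.types false

universe u

open CategoryTheory CategoryTheory.Limits AlgebraicGeometry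

noncomputable section

namespace Groth.L24.Split

variable {R U : Scheme.{u}} (s : R ⟶ U) [IsAffine U] [IsSeparated s] [LocallyOfFinitePresentation s]

/-- Finitely many points in an open of an affine scheme lie in an affine basic open inside it. -/
theorem exists_basicOpen_le {B : Type u} [CommRing B] (O : TopologicalSpace.Opens (PrimeSpectrum B))
    {F : Set (PrimeSpectrum B)} (hF : F.Finite) (hFO : F ⊆ O) :
    ∃ h : B, F ⊆ (PrimeSpectrum.basicOpen h : Set (PrimeSpectrum B)) ∧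
      (PrimeSpectrum.basicOpen h : Set (PrimeSpectrum B)) ⊆ O := by
  classical
  obtain ⟨I, hI⟩ : ∃ I : Ideal B, ((O : Set (PrimeSpectrum B))ᶜ) = PrimeSpectrum.zeroLocus I :=
    (PrimeSpectrum.isClosed_iff_zeroLocus_ideal _).1 O.isOpen.isClosed_compl
  rcases F.eq_empty_or_nonempty with rfl | ⟨p₀, hp₀⟩
  · exact ⟨0, Set.empty_subset _, by simp⟩
  have h1 : ¬ (I : Set B) ⊆ ⋃ p ∈ (↑hF.toFinset : Set _), ((p : PrimeSpectrum B).asIdeal : Set B) := by
    intro h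
    obtain ⟨p, hp, hIp⟩ := (Ideal.subset_union_prime (f := fun p : PrimeSpectrum B => p.asIdeal)
      p₀ p₀ (fun p _ _ _ => p.isPrime)).1 h
    have : p ∈ PrimeSpectrum.zeroLocus (I : Set B) := hIp
    rw [← hI] at this
    exact this (hFO (hF.mem_toFinset.1 hp))
  obtain ⟨h, hhI, hh⟩ := Set.not_subset.1 h1
  refine ⟨h, fun p hp hc => hh ?_, fun p hp => ?_⟩
  · exact Set.mem_iUnion₂.2 ⟨p, Finset.mem_coe.2 (hF.mem_toFinset.2 hp), hc⟩
  · by_contra hc
    have : p ∈ PrimeSpectrum.zeroLocus (I : Set B) := hI ▸ hc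
    exact hp (this hhI)

/-- Finitely many quasi-finite points lie in an affine open. -/
theorem exists_affine_open_of_quasiFiniteAt {F : Set R} (hF : F.Finite) (hqf : ∀ r ∈ F, s.QuasiFiniteAt r) :
    ∃ R₀ : R.Opens, IsAffineOpen R₀ ∧ F ⊆ R₀ := by
  classical
  choose V hV hFV hVq using fun r : F => R.isBasis_affineOpens.exists_subset_of_mem_open
    (a := (r : R)) (ou := s.quasiFiniteLocus.isOpen) (hqf r r.2)
  choose V' hV' hVV' using hV
  haveI := hF.to_subtype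
  let Ω : R.Opens := ⨆ r : F, V' r
  have hΩc : IsCompact (Ω : Set R) := by
    rw [TopologicalSpace.Opens.coe_iSup]
    exact isCompact_iUnion fun r => (hV' r).isCompact
  haveI : CompactSpace Ω.toScheme := isCompact_iff_compactSpace.mp hΩc
  haveI : QuasiCompact (Ω.ι ≫ s) := (quasiCompact_iff_compactSpace _).2 inferInstance
  haveI : LocallyQuasiFinite (Ω.ι ≫ s) := by
    refine Groth.L19.GenericFinite.locallyQuasiFinite_of_forall (Ω.ι ≫ s) fun x => ?_
    rw [Scheme.Hom.quasiFiniteAt_comp_iff_of_isOpenImmersion]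
    obtain ⟨r, hr⟩ := TopologicalSpace.Opens.mem_iSup.1 (show Ω.ι x ∈ Ω from x.2)
    exact hVq r (show Ω.ι x ∈ V r from hVV' r ▸ hr)
  obtain ⟨Z, j, π, hj, -, hπ, -, -⟩ := Groth.Agent.S1477.result (Ω.ι ≫ s)
  haveI := hj
  haveI := hπ
  haveI : IsAffine Z := isAffine_of_isAffineHom π
  let j' : Ω.toScheme ⟶ Spec (CommRingCat.of Γ(Z, ⊤)) := j ≫ Z.isoSpec.hom
  have hmem : ∀ r ∈ F, r ∈ Ω := fun r hr =>
    TopologicalSpace.Opens.mem_iSup.2 ⟨⟨r, hr⟩, by
      rw [← SetLike.mem_coe, show (V' ⟨r, hr⟩ : Set R) = V ⟨r, hr⟩ from hVV' ⟨r, hr⟩]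
      exact hFV ⟨r, hr⟩⟩
  let F' : Set ↥(Spec (CommRingCat.of Γ(Z, ⊤))) := Set.range fun r : F => j' ⟨r, hmem r r.2⟩
  obtain ⟨h, hFh, hhO⟩ := exists_basicOpen_le j'.opensRange (F := F') (Set.finite_range _)
    (by rintro _ ⟨r, rfl⟩; exact ⟨_, rfl⟩)
  let D : (Spec (CommRingCat.of Γ(Z, ⊤))).Opens := PrimeSpectrum.basicOpen h
  have hD : IsAffineOpen D := by
    have h2 := (isAffineOpen_top (Spec (CommRingCat.of Γ(Z, ⊤)))).basicOpen
      ((Scheme.ΓSpecIso (CommRingCat.of Γ(Z, ⊤))).inv h)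
    rwa [basicOpen_eq_of_affine] at h2
  refine ⟨Ω.ι ''ᵁ (j' ⁻¹ᵁ D), ?_, fun r hr => ⟨⟨r, hmem r hr⟩, hFh ⟨⟨r, hr⟩, rfl⟩, rfl⟩⟩
  exact (hD.preimage_of_isOpenImmersion j' hhO).image_of_isOpenImmersion Ω.ι

omit [IsSeparated s] [LocallyOfFinitePresentation s] in
theorem iso_w {T : Scheme.{u}} (b : T ⟶ U) :
    pullback.fst s b ≫ s ≫ U.isoSpec.hom = pullback.snd s b ≫ b ≫ U.isoSpec.hom := by
  rw [pullback.condition_assoc]

/-- Comparison with the base changes over the spectrum. -/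
def toSpec {T : Scheme.{u}} (b : T ⟶ U) : pullback s b ⟶ pullback (s ≫ U.isoSpec.hom) (b ≫ U.isoSpec.hom) :=
  pullback.lift (pullback.fst s b) (pullback.snd s b) (iso_w s b)

omit [IsSeparated s] [LocallyOfFinitePresentation s] in
@[reassoc (attr := simp)] theorem toSpec_fst {T : Scheme.{u}} (b : T ⟶ U) :
    toSpec s b ≫ pullback.fst _ _ = pullback.fst s b := pullback.lift_fst _ _ _

omit [IsSeparated s] [LocallyOfFinitePresentation s] in
@[reassoc (attr := simp)] theorem toSpec_snd {T : Scheme.{u}} (b : T ⟶ U) :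
    toSpec s b ≫ pullback.snd _ _ = pullback.snd s b := pullback.lift_snd _ _ _

instance {T : Scheme.{u}} (b : T ⟶ U) : IsIso (toSpec s b) := by
  refine ⟨pullback.lift (pullback.fst _ _) (pullback.snd _ _) ?_, ?_, ?_⟩
  · rw [← cancel_mono U.isoSpec.hom, Category.assoc, Category.assoc, pullback.condition]
  · apply pullback.hom_ext
    · rw [Category.assoc, Category.id_comp]; erw [pullback.lift_fst]; exact toSpec_fst s b
    · rw [Category.assoc, Category.id_comp]; erw [pullback.lift_snd]; exact toSpec_snd s b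
  · apply pullback.hom_ext
    · rw [Category.assoc, Category.id_comp, toSpec_fst]; erw [pullback.lift_fst]
    · rw [Category.assoc, Category.id_comp, toSpec_snd]; erw [pullback.lift_snd]

omit [IsSeparated s] [LocallyOfFinitePresentation s] in
theorem toSpec_preimage_inj {T : Scheme.{u}} (b : T ⟶ U)
    {O O' : (pullback (s ≫ U.isoSpec.hom) (b ≫ U.isoSpec.hom)).Opens}
    (h : toSpec s b ⁻¹ᵁ O = toSpec s b ⁻¹ᵁ O') : O = O' := by
  refine TopologicalSpace.Opens.ext (Set.ext fun z => ?_)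
  obtain ⟨z', rfl⟩ := (toSpec s b).surjective z
  exact Iff.of_eq (congrArg (z' ∈ ·) h)

omit [IsSeparated s] [LocallyOfFinitePresentation s] in
theorem pull_toSpec {T T' : Scheme.{u}} {b : T ⟶ U} {b' : T' ⟶ U} (c : T' ⟶ T) (hc : c ≫ b = b')
    (hc' : c ≫ b ≫ U.isoSpec.hom = b' ≫ U.isoSpec.hom)
    (O : (pullback (s ≫ U.isoSpec.hom) (b ≫ U.isoSpec.hom)).Opens) :
    toSpec s b' ⁻¹ᵁ pull (s ≫ U.isoSpec.hom) c hc' O = pull s c hc (toSpec s b ⁻¹ᵁ O) := by
  rw [pull, pull, ← Scheme.Hom.comp_preimage, ← Scheme.Hom.comp_preimage]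
  refine congrArg (· ⁻¹ᵁ O) ?_
  apply pullback.hom_ext <;> simp

omit [IsSeparated s] [LocallyOfFinitePresentation s] in
theorem isFinite_toSpec {T : Scheme.{u}} (b : T ⟶ U) (O : (pullback (s ≫ U.isoSpec.hom) (b ≫ U.isoSpec.hom)).Opens) :
    IsFinite ((toSpec s b ⁻¹ᵁ O).ι ≫ pullback.snd s b) ↔ IsFinite (O.ι ≫ pullback.snd _ _) := by
  rw [← toSpec_snd s b, ← Category.assoc, ← morphismRestrict_ι, Category.assoc,
    MorphismProperty.cancel_left_of_respectsIso @IsFinite]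

/-- The chart over an affine scheme. -/
theorem exists_chart_affine [Flat s] (R₀ : R.Opens) (hR₀ : IsAffineOpen R₀) {κ : Type u} [Field κ]
    (b₀ : Spec (CommRingCat.of κ) ⟶ U) (O₀ : (pullback s b₀).Opens)
    (hfin₀ : IsFinite (O₀.ι ≫ pullback.snd s b₀)) (hle₀ : O₀ ≤ pullback.fst s b₀ ⁻¹ᵁ R₀) :
    ∃ (W : Scheme.{u}) (a : W ⟶ U) (O : (pullback s a).Opens) (w₀ : Spec (CommRingCat.of κ) ⟶ W)
      (hw₀ : w₀ ≫ a = b₀),
      IsAffine W ∧ IsFinite (O.ι ≫ pullback.snd s a) ∧ O ≤ pullback.fst s a ⁻¹ᵁ R₀ ∧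
      pull s w₀ hw₀ O = O₀ ∧
      (∀ {T : Scheme.{u}} (b : T ⟶ U) (c c' : T ⟶ W) (hc : c ≫ a = b) (hc' : c' ≫ a = b),
        pull s c hc O = pull s c' hc' O → c = c') ∧
      ∀ {T : Scheme.{u}} (b : T ⟶ U) (O' : (pullback s b).Opens), IsFinite (O'.ι ≫ pullback.snd s b) →
        ∀ {L : Type u} [Field L] (ρ : Spec (CommRingCat.of L) ⟶ T) (ψ : Spec (CommRingCat.of L) ⟶ W)
          (hψ : ψ ≫ a = ρ ≫ b), pull s ρ rfl O' = pull s ψ hψ O →
          ∃ V : T.Opens, ρ default ∈ V ∧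
            ∃ (c : V.toScheme ⟶ W) (hc : c ≫ a = V.ι ≫ b), pull s c hc O = pull s V.ι rfl O' := by
  let A : Type u := Γ(U, ⊤)
  let C : Type u := Γ(R, R₀)
  letI : Algebra A C := (s.appLE ⊤ R₀ (by simp)).hom.toAlgebra
  let s' : R ⟶ Spec (CommRingCat.of A) := s ≫ U.isoSpec.hom
  let j : Spec (CommRingCat.of C) ⟶ R := hR₀.fromSpec
  have hj : j ≫ s' = Spec.map (CommRingCat.ofHom (algebraMap A C)) := by
    show hR₀.fromSpec ≫ s ≫ U.isoSpec.hom = Spec.map (s.appLE ⊤ R₀ (by simp))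
    rw [← IsAffineOpen.SpecMap_appLE_fromSpec_assoc s (isAffineOpen_top U) hR₀ (by simp),
      IsAffineOpen.fromSpec_top, Iso.inv_hom_id, Category.comp_id]
  haveI : Algebra.FinitePresentation A C := RingHom.finitePresentation_algebraMap.1
    (HasRingHomProperty.appLE @LocallyOfFinitePresentation s inferInstance ⟨⊤, isAffineOpen_top U⟩ ⟨R₀, hR₀⟩ (by simp))
  have hr : j.opensRange = R₀ := hR₀.opensRange_fromSpec
  let O₀' := inv (toSpec s b₀) ⁻¹ᵁ O₀
  have hO₀' : toSpec s b₀ ⁻¹ᵁ O₀' = O₀ := by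
    rw [← Scheme.Hom.comp_preimage, IsIso.hom_inv_id]
    rfl
  haveI : IsFinite (O₀'.ι ≫ pullback.snd _ _) := by
    rw [← isFinite_toSpec, hO₀']
    exact hfin₀
  have hle₀' : O₀' ≤ pullback.fst s' (b₀ ≫ U.isoSpec.hom) ⁻¹ᵁ j.opensRange := fun z hz => by
    have h1 : pullback.fst s b₀ (inv (toSpec s b₀) z) ∈ R₀ := hle₀ hz
    have h2 : inv (toSpec s b₀) ≫ pullback.fst s b₀ = pullback.fst _ _ := by
      rw [IsIso.inv_comp_eq, toSpec_fst]
    rw [← Scheme.Hom.comp_apply, h2] at h1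
    show pullback.fst s' _ z ∈ j.opensRange
    rw [hr]
    exact h1
  obtain ⟨W, a', O, w₀, hw₀, hW, hfin, hle, hpull, huniq, hex⟩ :=
    exists_scheme_chart s' j hj (b₀ ≫ U.isoSpec.hom) O₀' hle₀'
  obtain ⟨a, rfl⟩ : ∃ a : W ⟶ U, a ≫ U.isoSpec.hom = a' := ⟨a' ≫ U.isoSpec.inv, by simp⟩
  have hw₀' : w₀ ≫ a = b₀ := (cancel_mono U.isoSpec.hom).1 (by rw [Category.assoc, hw₀])
  refine ⟨W, a, toSpec s a ⁻¹ᵁ O, w₀, hw₀', hW, (isFinite_toSpec s a O).2 hfin, ?_, ?_, ?_, ?_⟩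
  · intro z hz
    have h1 := hle hz
    change pullback.fst s' _ (toSpec s a z) ∈ j.opensRange at h1
    rw [hr, ← Scheme.Hom.comp_apply, toSpec_fst] at h1
    exact h1
  · rw [← pull_toSpec s w₀ hw₀' hw₀, hpull, hO₀']
  · intro T b c c' hc hc' h
    have e : ∀ {x : T ⟶ W}, x ≫ a = b → x ≫ a ≫ U.isoSpec.hom = b ≫ U.isoSpec.hom := fun h => by
      rw [reassoc_of% h]
    refine huniq (b ≫ U.isoSpec.hom) c c' (e hc) (e hc') (toSpec_preimage_inj s b ?_)
    rw [pull_toSpec s c hc (e hc), pull_toSpec s c' hc' (e hc'), h]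
  · intro T b O' hO' L _ ρ ψ hψ h
    let O'' := inv (toSpec s b) ⁻¹ᵁ O'
    have hO'' : toSpec s b ⁻¹ᵁ O'' = O' := by
      rw [← Scheme.Hom.comp_preimage, IsIso.hom_inv_id]
      rfl
    have hψ' : ψ ≫ a ≫ U.isoSpec.hom = ρ ≫ b ≫ U.isoSpec.hom := by rw [reassoc_of% hψ]
    obtain ⟨V, hV, c, hc, he⟩ := hex (b ≫ U.isoSpec.hom) O'' ((isFinite_toSpec s b O'').1 (by rw [hO'']; exact hO'))
      ρ ψ hψ' (by
        have k1 := pull_toSpec s ρ (rfl : ρ ≫ b = ρ ≫ b) (Category.assoc _ _ _).symm O''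
        have k2 := pull_toSpec s ψ hψ (hψ'.trans (Category.assoc _ _ _).symm) O
        rw [hO'', h, ← k2] at k1
        have k3 := toSpec_preimage_inj s (ρ ≫ b) k1
        exact cast_pull s _ _ _ _ (Category.assoc _ _ _) k3)
    have hc' : c ≫ a = V.ι ≫ b := (cancel_mono U.isoSpec.hom).1 (by rw [Category.assoc, Category.assoc, hc])
    refine ⟨V, hV, c, hc', ?_⟩
    have k1 := pull_toSpec s V.ι (rfl : V.ι ≫ b = V.ι ≫ b) (Category.assoc _ _ _).symm O''
    have k2 := pull_toSpec s c hc' (hc.trans (Category.assoc _ _ _).symm) O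
    rw [hO''] at k1
    rw [← k1, ← k2]
    exact congrArg _ (cast_pull s _ _ _ _ (Category.assoc _ _ _).symm he)
where
  cast_pull {R U : Scheme.{u}} (s : R ⟶ U) [IsAffine U] {T₁ T₂ L : Scheme.{u}} {b₁ : T₁ ⟶ Spec Γ(U, ⊤)}
      {b₂ : T₂ ⟶ Spec Γ(U, ⊤)} {b b' : L ⟶ Spec Γ(U, ⊤)}
      {O₁ : (pullback (s ≫ U.isoSpec.hom) b₁).Opens} {O₂ : (pullback (s ≫ U.isoSpec.hom) b₂).Opens}
      (x : L ⟶ T₁) (y : L ⟶ T₂) (hx : x ≫ b₁ = b) (hy : y ≫ b₂ = b) (hb : b = b')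
      (h : pull _ x hx O₁ = pull _ y hy O₂) :
      pull _ x (hx.trans hb) O₁ = pull _ y (hy.trans hb) O₂ := by
    subst hb; exact h

end Groth.L24.Split
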