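import Groth.Agent.L02.Grpd.Algebra

/-!
# Restriction of a groupoid along a morphism to the objects
-/

set_option autoImplicit false
set_option linter.style.haveILetI false
set_option backward.isDefEq.respectTransparency.types false

universe u

open CategoryTheory CategoryTheory.Limits AlgebraicGeometry
open L02.Grpd

noncomputable section

namespace Groth.L24.Split.Along

variable {S : Scheme.{u}} (G : Grpd.GroupoidScheme S) {U' : Scheme.{u}} (a : U' ⟶ G.U)

/-- The map on pairs. -/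
def pairMap : pullback (a ≫ G.pU) (a ≫ G.pU) ⟶ pullback G.pU G.pU :=
  pullback.map (a ≫ G.pU) (a ≫ G.pU) G.pU G.pU a a (𝟙 S) (Category.comp_id _) (Category.comp_id _)

/-- The arrows. -/
abbrev R' : Scheme.{u} := pullback G.j (pairMap G a)

/-- The arrow upstairs. -/
def φR : R' G a ⟶ G.R := pullback.fst _ _

/-- The target. -/
def t' : R' G a ⟶ U' := pullback.snd G.j (pairMap G a) ≫ pullback.fst _ _

/-- The source. -/
def s' : R' G a ⟶ U' := pullback.snd G.j (pairMap G a) ≫ pullback.snd _ _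

theorem φR_t : φR G a ≫ G.t = t' G a ≫ a := by
  have e1 : G.j ≫ pullback.fst G.pU G.pU = G.t := pullback.lift_fst _ _ _
  have e2 : pairMap G a ≫ pullback.fst G.pU G.pU = pullback.fst _ _ ≫ a := pullback.lift_fst _ _ _
  rw [t', φR, ← e1, ← Category.assoc, pullback.condition, Category.assoc, e2, Category.assoc]

theorem φR_s : φR G a ≫ G.s = s' G a ≫ a := by
  have e1 : G.j ≫ pullback.snd G.pU G.pU = G.s := pullback.lift_snd _ _ _
  have e2 : pairMap G a ≫ pullback.snd G.pU G.pU = pullback.snd _ _ ≫ a := pullback.lift_snd _ _ _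
  rw [s', φR, ← e1, ← Category.assoc, pullback.condition, Category.assoc, e2, Category.assoc]

theorem φR_t' {T : Scheme.{u}} (α : T ⟶ R' G a) : (α ≫ φR G a) ≫ G.t = (α ≫ t' G a) ≫ a := by
  rw [Category.assoc, φR_t, Category.assoc]

theorem φR_s' {T : Scheme.{u}} (α : T ⟶ R' G a) : (α ≫ φR G a) ≫ G.s = (α ≫ s' G a) ≫ a := by
  rw [Category.assoc, φR_s, Category.assoc]

theorem ext {T : Scheme.{u}} {α β : T ⟶ R' G a} (h : α ≫ φR G a = β ≫ φR G a) (ht : α ≫ t' G a = β ≫ t' G a)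
    (hs : α ≫ s' G a = β ≫ s' G a) : α = β :=
  pullback.hom_ext h (pullback.hom_ext (by simpa only [t', Category.assoc] using ht)
    (by simpa only [s', Category.assoc] using hs))

theorem exists_mk {T : Scheme.{u}} (g : T ⟶ G.R) (y₁ y₂ : T ⟶ U') (h₁ : g ≫ G.t = y₁ ≫ a) (h₂ : g ≫ G.s = y₂ ≫ a) :
    ∃ k : T ⟶ R' G a, k ≫ φR G a = g ∧ k ≫ t' G a = y₁ ∧ k ≫ s' G a = y₂ := by
  have e : y₁ ≫ a ≫ G.pU = y₂ ≫ a ≫ G.pU := by
    rw [← reassoc_of% h₁, ← reassoc_of% h₂, G.t_over, G.s_over]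
  refine ⟨pullback.lift g (pullback.lift y₁ y₂ e) ?_, pullback.lift_fst _ _ _, ?_, ?_⟩
  · apply pullback.hom_ext
    · simp only [Category.assoc, Grpd.GroupoidScheme.j, pairMap, pullback.map, pullback.lift_fst,
        pullback.lift_fst_assoc]
      exact h₁
    · simp only [Category.assoc, Grpd.GroupoidScheme.j, pairMap, pullback.map, pullback.lift_snd,
        pullback.lift_snd_assoc]
      exact h₂
  · exact (pullback.lift_snd_assoc _ _ _ _).trans (pullback.lift_fst _ _ _)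
  · exact (pullback.lift_snd_assoc _ _ _ _).trans (pullback.lift_snd _ _ _)

/-- An arrow from its data. -/
def mk {T : Scheme.{u}} (g : T ⟶ G.R) (y₁ y₂ : T ⟶ U') (h₁ : g ≫ G.t = y₁ ≫ a) (h₂ : g ≫ G.s = y₂ ≫ a) :
    T ⟶ R' G a := (exists_mk G a g y₁ y₂ h₁ h₂).choose

section
variable {T : Scheme.{u}} (g : T ⟶ G.R) (y₁ y₂ : T ⟶ U') (h₁ : g ≫ G.t = y₁ ≫ a) (h₂ : g ≫ G.s = y₂ ≫ a)

@[reassoc (attr := simp)] theorem mk_φR : mk G a g y₁ y₂ h₁ h₂ ≫ φR G a = g :=
  (exists_mk G a g y₁ y₂ h₁ h₂).choose_spec.1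

@[reassoc (attr := simp)] theorem mk_t : mk G a g y₁ y₂ h₁ h₂ ≫ t' G a = y₁ :=
  (exists_mk G a g y₁ y₂ h₁ h₂).choose_spec.2.1

@[reassoc (attr := simp)] theorem mk_s : mk G a g y₁ y₂ h₁ h₂ ≫ s' G a = y₂ :=
  (exists_mk G a g y₁ y₂ h₁ h₂).choose_spec.2.2
end

theorem comp_aux {T : Scheme.{u}} (α β : T ⟶ R' G a) (h : α ≫ s' G a = β ≫ t' G a) :
    (α ≫ φR G a) ≫ G.s = (β ≫ φR G a) ≫ G.t := by
  rw [φR_s', φR_t', h]

/-- Composition. -/
def c' : pullback (s' G a) (t' G a) ⟶ R' G a :=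
  mk G a (mul G (pullback.fst _ _ ≫ φR G a) (pullback.snd _ _ ≫ φR G a) (comp_aux G a _ _ pullback.condition))
    (pullback.fst _ _ ≫ t' G a) (pullback.snd _ _ ≫ s' G a)
    (by rw [mul_t, φR_t']) (by rw [mul_s, φR_s'])

theorem lift_c'_φR {T : Scheme.{u}} (α β : T ⟶ R' G a) (h : α ≫ s' G a = β ≫ t' G a) :
    (pullback.lift α β h ≫ c' G a) ≫ φR G a = mul G (α ≫ φR G a) (β ≫ φR G a) (comp_aux G a α β h) := by
  rw [Category.assoc, c', mk_φR, comp_mul]
  exact mul_congr G (pullback.lift_fst_assoc _ _ _ _) (pullback.lift_snd_assoc _ _ _ _) _ _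

theorem lift_c'_t {T : Scheme.{u}} (α β : T ⟶ R' G a) (h : α ≫ s' G a = β ≫ t' G a) :
    (pullback.lift α β h ≫ c' G a) ≫ t' G a = α ≫ t' G a := by
  rw [Category.assoc, c', mk_t, pullback.lift_fst_assoc]

theorem lift_c'_s {T : Scheme.{u}} (α β : T ⟶ R' G a) (h : α ≫ s' G a = β ≫ t' G a) :
    (pullback.lift α β h ≫ c' G a) ≫ s' G a = β ≫ s' G a := by
  rw [Category.assoc, c', mk_s, pullback.lift_snd_assoc]

/-- The restricted groupoid. -/
def groupoid : Grpd.GroupoidScheme S where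
  U := U'
  R := R' G a
  pU := a ≫ G.pU
  pR := φR G a ≫ G.pR
  s := s' G a
  t := t' G a
  e := mk G a (a ≫ G.e) (𝟙 _) (𝟙 _) (by simp [G.e_t]) (by simp [G.e_s])
  i := mk G a (φR G a ≫ G.i) (s' G a) (t' G a) (by rw [inv_t, φR_s]) (by rw [inv_s, φR_t])
  c := c' G a
  s_over := by rw [← reassoc_of% (φR_s G a), G.s_over]
  t_over := by rw [← reassoc_of% (φR_t G a), G.t_over]
  comp_s := lift_c'_s G a
  comp_t := lift_c'_t G a
  assoc α β γ h₁ h₂ := by
    refine ext G a ?_ (by rw [lift_c'_t, lift_c'_t, lift_c'_t]) (by rw [lift_c'_s, lift_c'_s, lift_c'_s])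
    refine (lift_c'_φR G a _ _ _).trans (Eq.trans ?_ (lift_c'_φR G a _ _ _).symm)
    exact (mul_congr G (lift_c'_φR G a α β h₁) rfl _ _).trans
      ((mul_assoc' G _ _ _ (comp_aux G a α β h₁) (comp_aux G a β γ h₂)).trans
        (mul_congr G rfl (lift_c'_φR G a β γ h₂).symm _ _))
  e_s := mk_s G a _ _ _ _ _
  e_t := mk_t G a _ _ _ _ _
  comp_e α := by
    refine ext G a ?_ (by rw [lift_c'_t]) (by rw [lift_c'_s]; simp)
    rw [lift_c'_φR]
    refine (mul_congr G rfl ?_ _ ?_).trans (G.comp_e (α ≫ φR G a))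
    · simp [reassoc_of% φR_s]
    · simp [G.e_t]
  e_comp α := by
    refine ext G a ?_ (by rw [lift_c'_t]; simp) (by rw [lift_c'_s])
    rw [lift_c'_φR]
    refine (mul_congr G ?_ rfl _ ?_).trans (G.e_comp (α ≫ φR G a))
    · simp [reassoc_of% φR_t]
    · simp [G.e_s]
  i_s := mk_s G a _ _ _ _ _
  i_t := mk_t G a _ _ _ _ _
  comp_i α := by
    refine ext G a ?_ (by rw [lift_c'_t]; simp) (by rw [lift_c'_s]; simp)
    rw [lift_c'_φR]
    refine (mul_congr G rfl ?_ _ ?_).trans ((G.comp_i (α ≫ φR G a)).trans ?_)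
    · simp
    · simp [G.i_t]
    · simp [reassoc_of% φR_t]
  i_comp α := by
    refine ext G a ?_ (by rw [lift_c'_t]; simp) (by rw [lift_c'_s]; simp)
    rw [lift_c'_φR]
    refine (mul_congr G ?_ rfl _ ?_).trans ((G.i_comp (α ≫ φR G a)).trans ?_)
    · simp
    · simp [G.i_s]
    · simp [reassoc_of% φR_s]

/-- The morphism to the original groupoid. -/
def hom : Grpd.GroupoidScheme.Hom (groupoid G a) G where
  fU := a
  fR := φR G a
  fU_over := rfl
  comm_s := φR_s G a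
  comm_t := φR_t G a
  comm_c := lift_c'_φR G a

theorem isPullback : IsPullback (hom G a).fR (groupoid G a).j G.j
    (pullback.map (groupoid G a).pU (groupoid G a).pU G.pU G.pU (hom G a).fU (hom G a).fU (𝟙 S)
      ((Category.comp_id _).trans (hom G a).fU_over.symm) ((Category.comp_id _).trans (hom G a).fU_over.symm)) := by
  have h : (groupoid G a).j = pullback.snd G.j (pairMap G a) := by
    apply pullback.hom_ext
    · exact pullback.lift_fst _ _ _
    · exact pullback.lift_snd _ _ _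
  rw [h]
  exact IsPullback.of_hasPullback _ _

end Groth.L24.Split.Along
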