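import Mathlib.RingTheory.TensorProduct.Maps
import Mathlib.RingTheory.TensorProduct.IsBaseChangePi
import Mathlib.RingTheory.LocalRing.Module
import Mathlib.RingTheory.Flat.FaithfullyFlat.Basic
import Mathlib.RingTheory.Spectrum.Prime.Topology
import Mathlib.LinearAlgebra.Matrix.Adjugate
import Mathlib.LinearAlgebra.Matrix.ToLin

/-!
# Idempotents of a base change with a prescribed basis
-/

set_option autoImplicit false
set_option linter.style.haveILetI false

universe u

open TensorProduct

namespace Groth.L24.Split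

section Kill

variable {T : Type u} [CommRing T] (N : Type u) [AddCommGroup N] [Module T N] [Module.Finite T N]

/-- A finite module vanishing at a field point vanishes near it. -/
theorem exists_notMem_smul_eq_zero {L : Type u} [Field L] [Algebra T L]
    (h : Subsingleton (L ⊗[T] N)) : ∃ g : T, algebraMap T L g ≠ 0 ∧ ∀ x : N, g • x = 0 := by
  let p : PrimeSpectrum T := ⟨RingHom.ker (algebraMap T L), RingHom.ker_isPrime _⟩
  haveI := p.2
  let κ := p.asIdeal.ResidueField
  letI : Algebra κ L := (Ideal.ResidueField.lift p.asIdeal (algebraMap T L) le_rfl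
    (fun x hx => Ne.isUnit hx)).toAlgebra
  haveI : IsScalarTower T κ L := IsScalarTower.of_algebraMap_eq fun x =>
    (Ideal.ResidueField.lift_algebraMap _ _ _ _ x).symm
  have hκ : Subsingleton (κ ⊗[T] N) := by
    by_contra hc
    rw [not_subsingleton_iff_nontrivial] at hc
    have h1 : Subsingleton (L ⊗[κ] (κ ⊗[T] N)) :=
      (AlgebraTensorModule.cancelBaseChange T κ κ L N).toEquiv.subsingleton
    rw [Module.FaithfullyFlat.subsingleton_tensorProduct_iff_right κ L] at h1
    exact not_subsingleton _ h1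
  have hp : p ∉ Module.support T N := by
    rw [Module.mem_support_iff_nontrivial_residueField_tensorProduct]
    exact not_nontrivial_iff_subsingleton.2 hκ
  rw [Module.support_eq_zeroLocus] at hp
  obtain ⟨g, hg, hgp⟩ := Set.not_subset.1 (show ¬ (Module.annihilator T N : Set T) ⊆ p.asIdeal from hp)
  exact ⟨g, hgp, fun x => Module.mem_annihilator.1 hg x⟩

end Kill

variable {A C : Type u} [CommRing A] [CommRing C] [Algebra A C] {n : ℕ} (c : Fin n → C)

section

variable (T : Type u) [CommRing T] [Algebra A T]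

/-- Combinations of the chosen elements. -/
noncomputable def comb : (Fin n → T) →ₗ[T] T ⊗[A] C :=
  Fintype.linearCombination T fun i => (1 : T) ⊗ₜ[A] c i

theorem comb_apply (a : Fin n → T) : comb (A := A) c T a = ∑ i, a i ⊗ₜ c i := by
  simp [comb, Fintype.linearCombination_apply, TensorProduct.smul_tmul']

theorem comb_single (i : Fin n) : comb (A := A) c T (Pi.single i 1) = (1 : T) ⊗ₜ c i := by
  simp [comb]

/-- The chosen elements form a basis of the direct factor cut out by `E`. -/
def IsBasis (E : T ⊗[A] C) : Prop :=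
  (∀ d, ∃ a, E * comb c T a = E * d) ∧ ∀ a, E * comb c T a = 0 → a = 0

end

/-- Base change of elements. -/
noncomputable def bc {T T' : Type u} [CommRing T] [CommRing T'] [Algebra A T] [Algebra A T'] (φ : T →ₐ[A] T') :
    T ⊗[A] C →ₐ[A] T' ⊗[A] C :=
  Algebra.TensorProduct.map φ (AlgHom.id A C)

@[simp] theorem bc_tmul {T T' : Type u} [CommRing T] [CommRing T'] [Algebra A T] [Algebra A T']
    (φ : T →ₐ[A] T') (t : T) (x : C) : bc φ (t ⊗ₜ[A] x) = φ t ⊗ₜ x := by simp [bc]

theorem bc_comb {T T' : Type u} [CommRing T] [CommRing T'] [Algebra A T] [Algebra A T']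
    (φ : T →ₐ[A] T') (a : Fin n → T) : bc φ (comb c T a) = comb c T' (fun i => φ (a i)) := by
  simp [comb_apply]

theorem bc_bc {T T' T'' : Type u} [CommRing T] [CommRing T'] [CommRing T''] [Algebra A T] [Algebra A T']
    [Algebra A T''] (φ : T →ₐ[A] T') (ψ : T' →ₐ[A] T'') (z : T ⊗[A] C) :
    bc ψ (bc φ z) = bc (ψ.comp φ) z := by
  induction z using TensorProduct.induction_on with
  | zero => simp
  | tmul t x => simp
  | add x y hx hy => simp only [map_add, hx, hy]

theorem bc_smul {T T' : Type u} [CommRing T] [CommRing T'] [Algebra A T] [Algebra A T']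
    (φ : T →ₐ[A] T') (s : T) (z : T ⊗[A] C) : bc φ (s • z) = φ s • bc φ z := by
  induction z using TensorProduct.induction_on with
  | zero => simp
  | tmul t x => simp [TensorProduct.smul_tmul']
  | add x y hx hy => simp only [smul_add, map_add, hx, hy]

variable {T T' : Type u} [CommRing T] [CommRing T'] [Algebra A T] [Algebra A T']

/-- Bases from approximate coordinates, after any base change inverting the error. -/
theorem isBasis_of_coord (φ : T →ₐ[A] T') (E : T ⊗[A] C) (G : T) (hG : IsUnit (φ G))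
    (Λ : T ⊗[A] C →ₗ[T] (Fin n → T)) (hΛ : ∀ d, Λ (E * d) = Λ d)
    (hl : ∀ a, Λ (E * comb c T a) = G • a) (hs : ∀ x : C, ∃ a, E * comb c T a = G • (E * ((1 : T) ⊗ₜ x))) :
    IsBasis c T' (bc φ E) := by
  refine ⟨fun d => ?_, fun a ha => ?_⟩
  · induction d using TensorProduct.induction_on with
    | zero => exact ⟨0, by simp⟩
    | tmul t x =>
      obtain ⟨a, ha⟩ := hs x
      obtain ⟨v, hv⟩ := hG
      refine ⟨(t * (↑v⁻¹ : T')) • fun i => φ (a i), ?_⟩
      rw [map_smul, ← bc_comb, mul_smul_comm, ← map_mul, ha, bc_smul, map_mul, bc_tmul, map_one,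
        ← hv, smul_smul, mul_assoc, Units.inv_mul, mul_one, ← mul_smul_comm, TensorProduct.smul_tmul']
      simp
    | add x y hx hy =>
      obtain ⟨a, ha⟩ := hx
      obtain ⟨b, hb⟩ := hy
      exact ⟨a + b, by rw [map_add, mul_add, mul_add, ha, hb]⟩
  · let g₀ : C →ₗ[A] (Fin n → T') :=
      ((φ.toLinearMap.compLeft (Fin n)).comp (Λ.restrictScalars A)).comp (TensorProduct.mk A T C 1)
    let Λ' : T' ⊗[A] C →ₗ[T'] (Fin n → T') :=
      AlgebraTensorModule.lift (LinearMap.toSpanSingleton T' (C →ₗ[A] (Fin n → T')) g₀)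
    have hΛ' : ∀ (t : T') (x : C), Λ' (t ⊗ₜ x) = t • fun i => φ (Λ ((1 : T) ⊗ₜ x) i) := fun t x => by
      simp [Λ', g₀, Function.comp_def]
      rfl
    have hnat : ∀ d : T ⊗[A] C, Λ' (bc φ d) = fun i => φ (Λ d i) := fun d => by
      induction d using TensorProduct.induction_on with
      | zero => simp [Pi.zero_def]
      | tmul t x =>
        rw [bc_tmul, hΛ', show t ⊗ₜ[A] x = t • ((1 : T) ⊗ₜ[A] x) by simp [TensorProduct.smul_tmul'], map_smul]
        ext i
        simp
      | add x y hx hy => ext i; simp [hx, hy]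
    have hE : ∀ d : T' ⊗[A] C, Λ' (bc φ E * d) = Λ' d := fun d => by
      induction d using TensorProduct.induction_on with
      | zero => simp
      | tmul t x =>
        rw [show t ⊗ₜ[A] x = t • bc φ ((1 : T) ⊗ₜ[A] x) by simp [TensorProduct.smul_tmul'], mul_smul_comm,
          ← map_mul, map_smul, map_smul, hnat, hnat, hΛ]
      | add x y hx hy => simp only [mul_add, map_add, hx, hy]
    have h1 : Λ' (comb c T' a) = φ G • a := by
      rw [comb_apply, map_sum]
      ext j
      have h2 : ∀ i, Λ ((1 : T) ⊗ₜ[A] c i) = G • (Pi.single i 1 : Fin n → T) := fun i => by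
        rw [← comb_single, ← hΛ, hl]
      simp [hΛ', h2, Pi.single_apply, Finset.sum_apply, mul_comm, apply_ite φ]
    rw [← hE, ha, map_zero] at h1
    exact hG.smul_eq_zero.1 h1.symm

/-- Coordinates with respect to a basis. -/
theorem IsBasis.exists_coord {E : T ⊗[A] C} (hE : IsBasis c T E) (hid : IsIdempotentElem E) :
    ∃ Λ : T ⊗[A] C →ₗ[T] (Fin n → T), (∀ d, E * comb c T (Λ d) = E * d) ∧ (∀ d, Λ (E * d) = Λ d) ∧
      ∀ a, Λ (E * comb c T a) = a := by
  choose f hf using hE.1
  have key : ∀ {a b}, E * comb c T a = E * comb c T b → a = b := fun {a b} h =>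
    sub_eq_zero.1 (hE.2 _ (by rw [map_sub, mul_sub, h, sub_self]))
  let Λ : T ⊗[A] C →ₗ[T] (Fin n → T) :=
    { toFun := f
      map_add' := fun x y => key (by rw [hf, map_add, mul_add, mul_add, hf, hf])
      map_smul' := fun r x => key (by rw [hf, RingHom.id_apply, map_smul, mul_smul_comm, mul_smul_comm, hf]) }
  refine ⟨Λ, hf, fun d => key ?_, fun a => key ?_⟩
  · show E * comb c T (f _) = E * comb c T (f _)
    rw [hf, hf, ← mul_assoc, hid.eq]
  · show E * comb c T (f _) = _
    rw [hf, ← mul_assoc, hid.eq]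

/-- Bases are stable under base change. -/
theorem IsBasis.bc {E : T ⊗[A] C} (hE : IsBasis c T E) (hid : IsIdempotentElem E) (φ : T →ₐ[A] T') :
    IsBasis c T' (Split.bc φ E) := by
  obtain ⟨Λ, h1, h2, h3⟩ := hE.exists_coord c hid
  exact isBasis_of_coord c φ E 1 (by simp) Λ h2 (fun a => by rw [h3, one_smul])
    fun x => ⟨Λ ((1 : T) ⊗ₜ x), by rw [h1, one_smul]⟩

/-- A basis at a field point is a basis near it. -/
theorem exists_isBasis_nbhd {E : T ⊗[A] C} (hid : IsIdempotentElem E)
    [Module.Finite T ((T ⊗[A] C) ⧸ Ideal.span {1 - E})]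
    [Module.Projective T ((T ⊗[A] C) ⧸ Ideal.span {1 - E})]
    {L : Type u} [Field L] [Algebra A L] (ρ : T →ₐ[A] L) (hL : IsBasis c L (Split.bc ρ E)) :
    ∃ g : T, ρ g ≠ 0 ∧ ∀ {T' : Type u} [CommRing T'] [Algebra A T'] (φ : T →ₐ[A] T'),
      IsUnit (φ g) → IsBasis c T' (Split.bc φ E) := by
  classical
  letI : Algebra T L := ρ.toRingHom.toAlgebra
  haveI : IsScalarTower A T L := IsScalarTower.of_algebraMap_eq fun a => (ρ.commutes a).symm
  let M := (T ⊗[A] C) ⧸ Ideal.span {1 - E}
  let π : T ⊗[A] C →ₗ[T] M := (Ideal.Quotient.mkₐ T (Ideal.span {1 - E})).toLinearMap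
  have hπ : ∀ z, π z = 0 ↔ E * z = 0 := fun z => by
    show Ideal.Quotient.mk _ z = 0 ↔ _
    rw [Ideal.Quotient.eq_zero_iff_mem, Ideal.mem_span_singleton']
    constructor
    · rintro ⟨w, rfl⟩
      rw [mul_left_comm, mul_sub, mul_one, hid.eq, sub_self, mul_zero]
    · intro h
      exact ⟨z, by rw [mul_sub, mul_one, mul_comm z, h, sub_zero]⟩
  have hπE : ∀ z, π (E * z) = π z := fun z => by
    rw [← sub_eq_zero, ← map_sub, hπ, mul_sub, ← mul_assoc, hid.eq, sub_self]
  have hπs : Function.Surjective π := Ideal.Quotient.mk_surjective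
  let l : (Fin n → T) →ₗ[T] M := π.comp (comb c T)
  -- surjectivity near the point
  let Q := M ⧸ LinearMap.range l
  let Φ : L ⊗[A] C →ₗ[L] L ⊗[T] Q :=
    AlgebraTensorModule.lift (LinearMap.toSpanSingleton L (C →ₗ[A] L ⊗[T] Q)
      (((TensorProduct.mk T L Q 1).comp ((LinearMap.range l).mkQ.comp π)).restrictScalars A ∘ₗ
        TensorProduct.mk A T C 1))
  have hΦ : ∀ d : T ⊗[A] C, Φ (Split.bc ρ d) = (1 : L) ⊗ₜ (LinearMap.range l).mkQ (π d) := fun d => by
    induction d using TensorProduct.induction_on with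
    | zero => simp
    | tmul t x =>
      rw [show t ⊗ₜ[A] x = t • ((1 : T) ⊗ₜ[A] x) by simp [TensorProduct.smul_tmul']]
      rw [bc_smul, map_smul, map_smul, map_smul, bc_tmul, map_one, TensorProduct.tmul_smul]
      simp only [Φ, AlgebraTensorModule.lift_tmul, LinearMap.toSpanSingleton_apply, one_smul,
        LinearMap.coe_comp, LinearMap.coe_restrictScalars, Function.comp_apply, TensorProduct.mk_apply,
        Submodule.mkQ_apply]
      rfl
    | add x y hx hy => simp only [map_add, hx, hy, tmul_add]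
  have hΦE : ∀ z, Φ (Split.bc ρ E * z) = Φ z := fun z => by
    induction z using TensorProduct.induction_on with
    | zero => simp
    | tmul a x =>
      rw [show a ⊗ₜ[A] x = a • Split.bc ρ ((1 : T) ⊗ₜ[A] x) by simp [TensorProduct.smul_tmul'],
        mul_smul_comm, ← map_mul, map_smul, map_smul, hΦ, hΦ, hπE]
    | add x y hx hy => simp only [mul_add, map_add, hx, hy]
  have hΦc : ∀ a, Φ (comb c L a) = 0 := fun a => by
    have h1 : ∀ i, Φ ((1 : L) ⊗ₜ[A] c i) = 0 := fun i => by
      rw [show (1 : L) ⊗ₜ[A] c i = Split.bc ρ ((1 : T) ⊗ₜ[A] c i) by simp, hΦ,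
        show (LinearMap.range l).mkQ (π ((1 : T) ⊗ₜ[A] c i)) = 0 from
          (Submodule.Quotient.mk_eq_zero _).2 ⟨Pi.single i 1, by simp [l, comb_single]⟩, tmul_zero]
    simp [comb, Fintype.linearCombination_apply, h1]
  have hQ : Subsingleton (L ⊗[T] Q) := by
    refine subsingleton_of_forall_eq 0 fun z => ?_
    induction z using TensorProduct.induction_on with
    | zero => rfl
    | tmul a q =>
      obtain ⟨m, rfl⟩ := (LinearMap.range l).mkQ_surjective q
      obtain ⟨d, rfl⟩ := hπs m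
      obtain ⟨b, hb⟩ := hL.1 (Split.bc ρ d)
      rw [show a ⊗ₜ[T] (LinearMap.range l).mkQ (π d) = a • Φ (Split.bc ρ d) by
        rw [hΦ, TensorProduct.smul_tmul', smul_eq_mul, mul_one], ← hΦE, ← hb, hΦE, hΦc, smul_zero]
    | add x y hx hy => rw [hx, hy, add_zero]
  obtain ⟨g₁, hg₁, hQ'⟩ := exists_notMem_smul_eq_zero Q hQ
  let f₁ : M →ₗ[T] LinearMap.range l :=
    LinearMap.codRestrict _ (g₁ • LinearMap.id) fun m =>
      (Submodule.Quotient.mk_eq_zero _).1 (by simpa using hQ' (Submodule.Quotient.mk m))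
  obtain ⟨s, hs⟩ := Module.projective_lifting_property l.rangeRestrict f₁ l.surjective_rangeRestrict
  have hls : ∀ m, l (s m) = g₁ • m := fun m => congrArg Subtype.val (congr($hs m))
  -- injectivity near the point
  let N := LinearMap.toMatrix' (s.comp l)
  have hN : N.map ρ = Matrix.diagonal fun _ => ρ g₁ := by
    ext i j
    let b : Fin n → T := s (l (Pi.single j 1))
    have h1 : E * comb c T b = E * comb c T (g₁ • Pi.single j 1) := by
      rw [← sub_eq_zero, ← mul_sub, ← hπ, map_sub, sub_eq_zero]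
      show l b = l _
      rw [hls, map_smul]
    have h2 : (fun k => ρ (b k)) = fun k => ρ ((g₁ • Pi.single j 1 : Fin n → T) k) := by
      refine sub_eq_zero.1 (hL.2 _ ?_)
      rw [map_sub, ← bc_comb, ← bc_comb, mul_sub, ← map_mul, ← map_mul, h1, sub_self]
    have h3 : N i j = b i := by
      simp [N, b, LinearMap.toMatrix'_apply]
    rw [Matrix.map_apply, h3, congr_fun h2 i, Matrix.diagonal_apply]
    rcases eq_or_ne i j with rfl | h
    · simp
    · simp [h, Pi.single_eq_of_ne h]
  have hdet : ρ N.det = ρ g₁ ^ n := by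
    rw [AlgHom.map_det, AlgHom.mapMatrix_apply, hN, Matrix.det_diagonal]
    simp
  let Λ : T ⊗[A] C →ₗ[T] (Fin n → T) := (g₁ • Matrix.mulVecLin N.adjugate).comp (s.comp π)
  refine ⟨g₁ * N.det, by rw [map_mul, hdet]; exact mul_ne_zero hg₁ (pow_ne_zero _ hg₁), fun {T'} _ _ φ hφ => ?_⟩
  refine isBasis_of_coord c φ E (g₁ * N.det) hφ Λ (fun d => by simp [Λ, hπE]) (fun a => ?_) (fun x => ?_)
  · have h1 : s (π (E * comb c T a)) = N.mulVec a := by
      rw [hπE, show N.mulVec a = (s.comp l) a from congr($(Matrix.toLin'_toMatrix' (s.comp l)) a)]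
      rfl
    show g₁ • N.adjugate.mulVec (s (π (E * comb c T a))) = _
    rw [h1, Matrix.mulVec_mulVec, Matrix.adjugate_mul, Matrix.smul_mulVec, Matrix.one_mulVec, smul_smul]
  · refine ⟨N.det • s (π ((1 : T) ⊗ₜ x)), ?_⟩
    rw [← sub_eq_zero, map_smul, mul_smul_comm, mul_comm g₁, mul_smul, ← smul_sub, ← mul_smul_comm, ← mul_sub,
      ← mul_smul_comm, (hπ _).1 ?_]
    rw [map_smul, map_sub, map_smul, show π (comb c T (s (π ((1 : T) ⊗ₜ x)))) = g₁ • π ((1 : T) ⊗ₜ x) from hls _,
      sub_self, smul_zero]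

end Groth.L24.Split
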