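import Groth.Agent.L24.Split.Basis
import Mathlib.RingTheory.Ideal.Cotangent
import Mathlib.RingTheory.Ideal.IdempotentFG
import Mathlib.RingTheory.FinitePresentation
import Mathlib.RingTheory.FiniteStability
import Mathlib.RingTheory.Finiteness.ModuleFinitePresentation
import Mathlib.RingTheory.Localization.Away.Basic

/-!
# The chart classifying idempotents with a prescribed basis
-/

set_option autoImplicit false
set_option linter.style.haveILetI false

universe u

open TensorProduct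

namespace Groth.L24.Split

variable {A C : Type u} [CommRing A] [CommRing C] [Algebra A C] {n : ℕ} (c : Fin n → C)

/-- The ideal attached to a table of coordinates. -/
noncomputable def coordIdeal (T : Type u) [CommRing T] [Algebra A T] (lam : C → Fin n → T) :
    Ideal (T ⊗[A] C) :=
  Ideal.span (Set.range fun x : C => (1 : T) ⊗ₜ[A] x - comb c T (lam x))

theorem coordIdeal_map {T T' : Type u} [CommRing T] [CommRing T'] [Algebra A T] [Algebra A T']
    (φ : T →ₐ[A] T') (lam : C → Fin n → T) :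
    (coordIdeal c T lam).map (bc φ) = coordIdeal c T' fun x i => φ (lam x i) := by
  rw [coordIdeal, coordIdeal, Ideal.map_span, ← Set.range_comp]
  congr 2
  funext x
  simp [bc_comb]

theorem sub_comb_mem {T : Type u} [CommRing T] [Algebra A T] (lam : C → Fin n → T)
    (Λ : T ⊗[A] C →ₗ[T] (Fin n → T)) (hΛ : ∀ x, Λ ((1 : T) ⊗ₜ x) = lam x) (z : T ⊗[A] C) :
    z - comb c T (Λ z) ∈ coordIdeal c T lam := by
  induction z using TensorProduct.induction_on with
  | zero => simp
  | tmul t x =>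
    rw [show t ⊗ₜ[A] x = t • ((1 : T) ⊗ₜ[A] x) by simp [TensorProduct.smul_tmul'], map_smul, map_smul,
      ← smul_sub, hΛ]
    exact Submodule.smul_of_tower_mem _ t (Ideal.subset_span ⟨x, rfl⟩)
  | add x y hx hy =>
    rw [map_add, map_add, add_sub_add_comm]
    exact add_mem hx hy

theorem mem_span_one_sub_iff {D : Type u} [CommRing D] {E z : D} (hid : IsIdempotentElem E) :
    z ∈ Ideal.span {1 - E} ↔ E * z = 0 := by
  rw [Ideal.mem_span_singleton']
  constructor
  · rintro ⟨w, rfl⟩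
    rw [mul_left_comm, mul_sub, mul_one, hid.eq, sub_self, mul_zero]
  · intro h
    exact ⟨z, by rw [mul_sub, mul_one, mul_comm z, h, sub_zero]⟩

theorem eq_of_span_one_sub_eq {D : Type u} [CommRing D] {E E' : D} (h : IsIdempotentElem E)
    (h' : IsIdempotentElem E') (he : Ideal.span {1 - E} = Ideal.span {1 - E'}) : E = E' := by
  have h1 : E * (1 - E') = 0 := (mem_span_one_sub_iff h).1 (he ▸ Ideal.mem_span_singleton_self _)
  have h2 : E' * (1 - E) = 0 := (mem_span_one_sub_iff h').1 (he ▸ Ideal.mem_span_singleton_self _)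
  rw [mul_sub, mul_one, sub_eq_zero] at h1 h2
  rw [h1, mul_comm]
  exact h2.symm

/-- The coordinates of a basis cut out the complement. -/
theorem IsBasis.exists_table {T : Type u} [CommRing T] [Algebra A T] {E : T ⊗[A] C} (hE : IsBasis c T E)
    (hid : IsIdempotentElem E) :
    ∃ lam : C →ₗ[A] (Fin n → T), (∀ j, lam (c j) = Pi.single j 1) ∧
      (∀ x y, lam (x * y) = ∑ k, lam y k • lam (x * c k)) ∧
      coordIdeal c T lam = Ideal.span {1 - E} := by
  obtain ⟨Λ, h1, h2, h3⟩ := hE.exists_coord c hid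
  refine ⟨(Λ.restrictScalars A).comp (TensorProduct.mk A T C 1), fun j => ?_, fun x y => ?_, ?_⟩
  · show Λ ((1 : T) ⊗ₜ c j) = _
    rw [← comb_single, ← h2, h3]
  · show Λ ((1 : T) ⊗ₜ (x * y)) = ∑ k, Λ ((1 : T) ⊗ₜ y) k • Λ ((1 : T) ⊗ₜ (x * c k))
    rw [← h2, show (1 : T) ⊗ₜ[A] (x * y) = ((1 : T) ⊗ₜ x) * ((1 : T) ⊗ₜ y) by simp, mul_left_comm, ← h1,
      mul_left_comm, h2, comb_apply, Finset.mul_sum, map_sum]
    refine Finset.sum_congr rfl fun k _ => ?_
    rw [← map_smul]
    congr 1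
    simp [TensorProduct.smul_tmul']
  · refine le_antisymm (Ideal.span_le.2 ?_) ((Ideal.span_singleton_le_iff_mem _).2 ?_)
    · rintro _ ⟨x, rfl⟩
      refine (mem_span_one_sub_iff hid).2 ?_
      show E * ((1 : T) ⊗ₜ x - comb c T (Λ ((1 : T) ⊗ₜ x))) = 0
      rw [mul_sub, h1, sub_self]
    · have h4 : Λ (1 - E) = 0 := by rw [← h2, mul_sub, mul_one, hid.eq, sub_self, map_zero]
      have h5 := sub_comb_mem c _ Λ (fun x => rfl) (1 - E)
      rwa [h4, map_zero, sub_zero] at h5

/-- Tables cutting out subobjects of the same idempotent agree. -/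
theorem table_unique {T : Type u} [CommRing T] [Algebra A T] {E : T ⊗[A] C} (hE : IsBasis c T E)
    (hid : IsIdempotentElem E) {lam lam' : C → Fin n → T} (h : coordIdeal c T lam ≤ Ideal.span {1 - E})
    (h' : coordIdeal c T lam' ≤ Ideal.span {1 - E}) : lam = lam' := by
  funext x
  refine sub_eq_zero.1 (hE.2 _ ?_)
  have h1 := (mem_span_one_sub_iff hid).1 (h (Ideal.subset_span ⟨x, rfl⟩))
  have h2 := (mem_span_one_sub_iff hid).1 (h' (Ideal.subset_span ⟨x, rfl⟩))
  rw [mul_sub, sub_eq_zero] at h1 h2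
  rw [map_sub, mul_sub, ← h1, h2, sub_self]

section Pre

variable (A)

/-- The generators of the ring of coordinates. -/
abbrev Vars : Type u := MvPolynomial (C × Fin n) A

/-- The relations of the ring of coordinates. -/
noncomputable def rels : Set (MvPolynomial (C × Fin n) A) :=
  (Set.range fun p : C × C × Fin n => MvPolynomial.X (p.1 + p.2.1, p.2.2) -
    (MvPolynomial.X (p.1, p.2.2) + MvPolynomial.X (p.2.1, p.2.2))) ∪
  (Set.range fun p : A × C × Fin n => MvPolynomial.X (p.1 • p.2.1, p.2.2) -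
    p.1 • MvPolynomial.X (p.2.1, p.2.2)) ∪
  (Set.range fun p : Fin n × Fin n => MvPolynomial.X (c p.1, p.2) -
    (Pi.single p.1 1 : Fin n → MvPolynomial (C × Fin n) A) p.2) ∪
  (Set.range fun p : C × C × Fin n => MvPolynomial.X (p.1 * p.2.1, p.2.2) -
    ∑ k, MvPolynomial.X (p.2.1, k) * MvPolynomial.X (p.1 * c k, p.2.2))

end Pre

/-- The ring of coordinate tables. -/
theorem exists_pre :
    ∃ (H : Type u) (_ : CommRing H) (_ : Algebra A H) (lam : C →ₗ[A] (Fin n → H)),
      (∀ j, lam (c j) = Pi.single j 1) ∧ (∀ x y, lam (x * y) = ∑ k, lam y k • lam (x * c k)) ∧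
      (∀ {T : Type u} [CommRing T] [Algebra A T] (φ ψ : H →ₐ[A] T),
        (∀ x i, φ (lam x i) = ψ (lam x i)) → φ = ψ) ∧
      ∀ {T : Type u} [CommRing T] [Algebra A T] (lam' : C →ₗ[A] (Fin n → T)),
        (∀ j, lam' (c j) = Pi.single j 1) → (∀ x y, lam' (x * y) = ∑ k, lam' y k • lam' (x * c k)) →
        ∃ φ : H →ₐ[A] T, ∀ x i, φ (lam x i) = lam' x i := by
  classical
  let I := Ideal.span (rels A c)
  let q : MvPolynomial (C × Fin n) A →ₐ[A] MvPolynomial (C × Fin n) A ⧸ I := Ideal.Quotient.mkₐ A I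
  have hq : ∀ {p r : MvPolynomial (C × Fin n) A}, p - r ∈ rels A c → q p = q r := fun {p r} h =>
    Ideal.Quotient.eq.2 (Ideal.subset_span h)
  let lam : C →ₗ[A] (Fin n → MvPolynomial (C × Fin n) A ⧸ I) :=
    { toFun := fun x i => q (MvPolynomial.X (x, i))
      map_add' := fun x y => funext fun i => by
        rw [Pi.add_apply, ← map_add]
        exact hq (.inl (.inl (.inl ⟨(x, y, i), rfl⟩)))
      map_smul' := fun a x => funext fun i => by
        rw [Pi.smul_apply, RingHom.id_apply, ← map_smul]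
        exact hq (.inl (.inl (.inr ⟨(a, x, i), rfl⟩))) }
  refine ⟨_, inferInstance, inferInstance, lam, fun j => funext fun i => ?_, fun x y => funext fun i => ?_,
    fun φ ψ h => Ideal.Quotient.algHom_ext A (MvPolynomial.algHom_ext fun p => h p.1 p.2),
    fun {T} _ _ lam' h₁ h₂ => ?_⟩
  · have h := hq (p := MvPolynomial.X (c j, i))
      (r := (Pi.single j 1 : Fin n → MvPolynomial (C × Fin n) A) i) (.inl (.inr ⟨(j, i), rfl⟩))
    show q _ = _
    rw [h, Pi.single_apply, Pi.single_apply, apply_ite q, map_one, map_zero]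
  · have h := hq (p := MvPolynomial.X (x * y, i))
      (r := ∑ k, MvPolynomial.X (y, k) * MvPolynomial.X (x * c k, i)) (.inr ⟨(x, y, i), rfl⟩)
    show q _ = _
    rw [h, map_sum, Finset.sum_apply]
    simp only [map_mul, Pi.smul_apply, smul_eq_mul]
    rfl
  · let e : MvPolynomial (C × Fin n) A →ₐ[A] T := MvPolynomial.aeval fun p => lam' p.1 p.2
    refine ⟨Ideal.Quotient.liftₐ I e fun p hp => ?_, fun x i => MvPolynomial.aeval_X _ (x, i)⟩
    refine (Ideal.span_le.2 ?_ : I ≤ RingHom.ker e) hp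
    rintro _ (((⟨⟨x, y, i⟩, rfl⟩ | ⟨⟨a, x, i⟩, rfl⟩) | ⟨⟨j, i⟩, rfl⟩) | ⟨⟨x, y, i⟩, rfl⟩) <;>
      rw [SetLike.mem_coe, RingHom.mem_ker, map_sub, sub_eq_zero]
    · simp [e]
    · simp [e]
    · rw [Pi.single_apply, apply_ite e, map_one, map_zero]
      simp [e, h₁, Pi.single_apply]
    · refine (MvPolynomial.aeval_X (fun p : C × Fin n => lam' p.1 p.2) (x * y, i)).trans ?_
      rw [h₂, Finset.sum_apply, map_sum]
      refine Finset.sum_congr rfl fun k _ => ?_
      rw [Pi.smul_apply, smul_eq_mul, map_mul e]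
      exact congrArg₂ (· * ·) (MvPolynomial.aeval_X (fun p : C × Fin n => lam' p.1 p.2) (y, k)).symm
        (MvPolynomial.aeval_X (fun p : C × Fin n => lam' p.1 p.2) (x * c k, i)).symm

/-- The chart classifying idempotents near a given one. -/
theorem exists_chart [Algebra.FinitePresentation A C] {κ : Type u} [Field κ] [Algebra A κ]
    (E₀ : κ ⊗[A] C) (h₀ : IsIdempotentElem E₀) (hB₀ : IsBasis c κ E₀) :
    ∃ (H : Type u) (_ : CommRing H) (_ : Algebra A H) (E : H ⊗[A] C) (φ₀ : H →ₐ[A] κ),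
      IsIdempotentElem E ∧ bc φ₀ E = E₀ ∧ IsBasis c H E ∧
      (∀ {T : Type u} [CommRing T] [Algebra A T] (φ ψ : H →ₐ[A] T), bc φ E = bc ψ E → φ = ψ) ∧
      ∀ {T : Type u} [CommRing T] [Algebra A T] (E' : T ⊗[A] C), IsIdempotentElem E' → IsBasis c T E' →
        ∀ {L : Type u} [Field L] [Algebra A L] (ρ : T →ₐ[A] L) (ψ : H →ₐ[A] L), bc ψ E = bc ρ E' →
        ∃ g : T, ρ g ≠ 0 ∧ ∀ {T' : Type u} [CommRing T'] [Algebra A T'] (φ : T →ₐ[A] T'),
          IsUnit (φ g) → ∃ χ : H →ₐ[A] T', bc χ E = bc φ E' := by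
  classical
  obtain ⟨H₀, _, _, lam, hc, hmul, hext, hlift⟩ := exists_pre (A := A) c
  obtain ⟨lam₀, hc₀, hmul₀, hJ₀⟩ := hB₀.exists_table c h₀
  obtain ⟨φpre, hφpre⟩ := hlift lam₀ hc₀ hmul₀
  let J := coordIdeal (A := A) c H₀ lam
  let Λ : H₀ ⊗[A] C →ₗ[H₀] (Fin n → H₀) :=
    AlgebraTensorModule.lift (LinearMap.toSpanSingleton H₀ (C →ₗ[A] (Fin n → H₀)) lam)
  have hΛ : ∀ x, Λ ((1 : H₀) ⊗ₜ x) = lam x := fun x => by simp [Λ]
  have hΛc : ∀ a, Λ (comb c H₀ a) = a := fun a => by
    ext j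
    simp [comb, Fintype.linearCombination_apply, hΛ, hc, Pi.single_apply, Finset.sum_apply]
  have hΛJ : ∀ z ∈ J, Λ z = 0 := by
    intro z hz
    suffices ∀ y, Λ (y * z) = 0 by simpa using this 1
    induction hz using Submodule.span_induction with
    | mem z hz =>
      obtain ⟨x, rfl⟩ := hz
      intro y
      induction y using TensorProduct.induction_on with
      | zero => simp
      | tmul r w =>
        rw [show r ⊗ₜ[A] w = r • ((1 : H₀) ⊗ₜ[A] w) by simp [TensorProduct.smul_tmul'], smul_mul_assoc,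
          map_smul, mul_sub, map_sub, comb_apply, Finset.mul_sum, map_sum, Algebra.TensorProduct.tmul_mul_tmul,
          one_mul, hΛ, hmul]
        rw [show ∑ k, Λ (((1 : H₀) ⊗ₜ[A] w) * (lam x k ⊗ₜ c k)) = ∑ k, lam x k • lam (w * c k) from
          Finset.sum_congr rfl fun k _ => by
            rw [← hΛ (w * c k), ← map_smul]
            simp [TensorProduct.smul_tmul'], sub_self, smul_zero]
      | add a b ha hb => simp only [add_mul, map_add, ha, hb, add_zero]
    | zero => simp
    | add a b _ _ ha hb => intro y; rw [mul_add, map_add, ha, hb, add_zero]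
    | smul r a _ ha => intro y; rw [smul_eq_mul, ← mul_assoc, ha]
  have hπ : ∀ z, z - comb c H₀ (Λ z) ∈ J := fun z => sub_comb_mem c _ Λ hΛ z
  -- the ideal is finitely generated
  haveI : Module.Finite H₀ ((H₀ ⊗[A] C) ⧸ J) :=
    Module.Finite.of_surjective ((Ideal.Quotient.mkₐ H₀ J).toLinearMap.comp (comb c H₀)) fun w => by
      obtain ⟨z, rfl⟩ := Ideal.Quotient.mk_surjective w
      exact ⟨Λ z, (Ideal.Quotient.eq.2 (hπ z)).symm⟩
  have hfree : Module.Free H₀ ((H₀ ⊗[A] C) ⧸ J) := by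
    refine Module.Free.of_equiv (LinearEquiv.ofBijective
      ((Ideal.Quotient.mkₐ H₀ J).toLinearMap.comp (comb c H₀)) ⟨fun a b h => ?_, fun w => ?_⟩)
    · have := hΛJ _ (Ideal.Quotient.eq.1 h)
      rwa [map_sub, hΛc, hΛc, sub_eq_zero] at this
    · obtain ⟨z, rfl⟩ := Ideal.Quotient.mk_surjective w
      exact ⟨Λ z, (Ideal.Quotient.eq.2 (hπ z)).symm⟩
  haveI : Module.FinitePresentation H₀ ((H₀ ⊗[A] C) ⧸ J) :=
    Module.finitePresentation_of_projective _ _
  haveI : Algebra.FinitePresentation H₀ ((H₀ ⊗[A] C) ⧸ J) :=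
    Algebra.FinitePresentation.of_finitePresentation H₀ _
  haveI : Algebra.FinitePresentation H₀ (H₀ ⊗[A] C) := inferInstance
  have hJfg : J.FG := by
    have h := Algebra.FinitePresentation.ker_fG_of_surjective (Ideal.Quotient.mkₐ H₀ J) Ideal.Quotient.mk_surjective
    rwa [show RingHom.ker (Ideal.Quotient.mkₐ H₀ J).toRingHom = J from Ideal.mk_ker] at h
  haveI : Module.Finite (H₀ ⊗[A] C) J := Module.Finite.iff_fg.2 hJfg
  haveI : Module.Finite (H₀ ⊗[A] C) J.Cotangent := Module.Finite.of_surjective _ J.toCotangent_surjective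
  haveI : Module.Finite ((H₀ ⊗[A] C) ⧸ J) J.Cotangent :=
    Module.Finite.of_restrictScalars_finite (H₀ ⊗[A] C) _ _
  haveI hst : IsScalarTower (H₀ ⊗[A] C) ((H₀ ⊗[A] C) ⧸ J) J.Cotangent := inferInstance
  haveI : IsScalarTower H₀ ((H₀ ⊗[A] C) ⧸ J) J.Cotangent :=
    IsScalarTower.of_algebraMap_smul fun r m =>
      (algebraMap_smul ((H₀ ⊗[A] C) ⧸ J) (algebraMap H₀ (H₀ ⊗[A] C) r) m).trans
        (algebraMap_smul (H₀ ⊗[A] C) r m)
  haveI : Module.Finite H₀ J.Cotangent := Module.Finite.trans ((H₀ ⊗[A] C) ⧸ J) _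
  -- the chart
  letI : Algebra H₀ κ := φpre.toRingHom.toAlgebra
  have hJκ : J.map (bc φpre) = Ideal.span {1 - E₀} := by
    rw [coordIdeal_map, ← hJ₀]
    congr 1
    funext x i
    exact hφpre x i
  let P : H₀ ⊗[A] C →ₗ[H₀] J.Cotangent :=
    (J.toCotangent.restrictScalars H₀).comp (LinearMap.codRestrict (J.restrictScalars H₀)
      (LinearMap.id - (comb c H₀).comp Λ) hπ)
  have hP : ∀ (z : H₀ ⊗[A] C) (hz : z ∈ J), P z = J.toCotangent ⟨z, hz⟩ := fun z hz => by
    show J.toCotangent _ = J.toCotangent _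
    congr 1
    refine Subtype.ext ?_
    show z - comb c H₀ (Λ z) = z
    rw [hΛJ z hz, map_zero, sub_zero]
  let Ψ : κ ⊗[A] C →ₗ[κ] κ ⊗[H₀] J.Cotangent :=
    AlgebraTensorModule.lift (LinearMap.toSpanSingleton κ (C →ₗ[A] κ ⊗[H₀] J.Cotangent)
      (((TensorProduct.mk H₀ κ J.Cotangent 1).comp P).restrictScalars A ∘ₗ TensorProduct.mk A H₀ C 1))
  have hΨ : ∀ d, Ψ (bc φpre d) = (1 : κ) ⊗ₜ P d := fun d => by
    induction d using TensorProduct.induction_on with
    | zero => simp
    | tmul t x =>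
      rw [show t ⊗ₜ[A] x = t • ((1 : H₀) ⊗ₜ[A] x) by simp [TensorProduct.smul_tmul'],
        bc_smul, map_smul, map_smul, bc_tmul, map_one, TensorProduct.tmul_smul]
      simp only [Ψ, AlgebraTensorModule.lift_tmul, LinearMap.toSpanSingleton_apply, one_smul,
        LinearMap.coe_comp, LinearMap.coe_restrictScalars, Function.comp_apply, TensorProduct.mk_apply]
      rfl
    | add x y hx hy => simp only [map_add, hx, hy, tmul_add]
  have hΨJ : ∀ w ∈ (J * J).map (bc φpre), Ψ w = 0 := by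
    intro w hw
    suffices ∀ y, Ψ (y * w) = 0 by simpa using this 1
    rw [Ideal.map] at hw
    induction hw using Submodule.span_induction with
    | mem w hw =>
      obtain ⟨v, hv, rfl⟩ := hw
      intro y
      induction y using TensorProduct.induction_on with
      | zero => simp
      | tmul a x =>
        have hv' : ((1 : H₀) ⊗ₜ[A] x) * v ∈ J * J := Ideal.mul_mem_left _ _ hv
        rw [show a ⊗ₜ[A] x = a • bc φpre ((1 : H₀) ⊗ₜ[A] x) by simp [TensorProduct.smul_tmul'],
          smul_mul_assoc, map_smul, ← map_mul, hΨ, hP _ (Ideal.mul_le_left hv'),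
          (Ideal.toCotangent_eq_zero J _).2 (by rw [pow_two]; exact hv'), tmul_zero, smul_zero]
      | add a b ha hb => simp only [add_mul, map_add, ha, hb, add_zero]
    | zero => simp
    | add a b _ _ ha hb => intro y; rw [mul_add, map_add, ha, hb, add_zero]
    | smul r a _ ha => intro y; rw [smul_eq_mul, ← mul_assoc, ha]
  have hsub : Subsingleton (κ ⊗[H₀] J.Cotangent) := by
    refine subsingleton_of_forall_eq 0 fun w => ?_
    induction w using TensorProduct.induction_on with
    | zero => rfl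
    | tmul a m =>
      obtain ⟨⟨z, hz⟩, rfl⟩ := J.toCotangent_surjective m
      have h1 : Ideal.span {1 - E₀} * Ideal.span {1 - E₀} = Ideal.span {1 - E₀} := by
        rw [Ideal.span_singleton_mul_span_singleton, h₀.one_sub.eq]
      have h2 : bc φpre z ∈ (J * J).map (bc φpre) := by
        rw [Ideal.map_mul, hJκ, h1, ← hJκ]
        exact Ideal.mem_map_of_mem _ hz
      rw [show a ⊗ₜ[H₀] J.toCotangent ⟨z, hz⟩ = a • ((1 : κ) ⊗ₜ[H₀] P z) by
        rw [hP z hz, TensorProduct.smul_tmul', smul_eq_mul, mul_one], ← hΨ, hΨJ _ h2, smul_zero]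
    | add x y hx hy => rw [hx, hy, add_zero]
  obtain ⟨g, hg, hgN⟩ := exists_notMem_smul_eq_zero J.Cotangent hsub
  let H := Localization.Away g
  let j : H₀ →ₐ[A] H := IsScalarTower.toAlgHom A H₀ H
  let J' := J.map (bc j)
  have hgu : IsUnit (bc j (algebraMap H₀ (H₀ ⊗[A] C) g)) := by
    show IsUnit (bc j (g ⊗ₜ[A] (1 : C)))
    rw [bc_tmul]
    exact (IsLocalization.Away.algebraMap_isUnit (S := H) g).map
      (Algebra.TensorProduct.includeLeft (R := A) (S := A) (A := H) (B := C))
  have hJ'id : IsIdempotentElem J' := by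
    refine le_antisymm Ideal.mul_le_left (Ideal.map_le_iff_le_comap.2 fun z hz => ?_)
    show bc j z ∈ J' * J'
    rw [← Ideal.map_mul]
    have h1 : algebraMap H₀ (H₀ ⊗[A] C) g * z ∈ J * J := by
      rw [← Algebra.smul_def, ← pow_two]
      refine (Ideal.toCotangent_eq_zero J ⟨g • z, Submodule.smul_of_tower_mem _ g hz⟩).1 ?_
      exact ((J.toCotangent.restrictScalars H₀).map_smul g ⟨z, hz⟩).trans (hgN _)
    obtain ⟨v, hv⟩ := hgu
    have h2 := Ideal.mul_mem_left _ (↑v⁻¹ : H ⊗[A] C) (Ideal.mem_map_of_mem (bc j) h1)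
    rw [map_mul, ← hv, ← mul_assoc, Units.inv_mul, one_mul] at h2
    exact h2
  obtain ⟨e, he, hJ'e⟩ := (Ideal.isIdempotentElem_iff_of_fg J' (hJfg.map _)).1 hJ'id
  let E := 1 - e
  have hE : IsIdempotentElem E := he.one_sub
  have hJ'E : coordIdeal c H (fun x i => j (lam x i)) = Ideal.span {1 - E} := by
    rw [← coordIdeal_map]
    show J' = _
    rw [hJ'e]
    simp [E]
  let lamH : C →ₗ[A] (Fin n → H) := (j.toLinearMap.compLeft (Fin n)).comp lam
  let ΛH : H ⊗[A] C →ₗ[H] (Fin n → H) :=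
    AlgebraTensorModule.lift (LinearMap.toSpanSingleton H (C →ₗ[A] (Fin n → H)) lamH)
  have hΛH : ∀ x, ΛH ((1 : H) ⊗ₜ x) = fun i => j (lam x i) := fun x => by simp [ΛH, lamH, Function.comp_def]; rfl
  have hnat : ∀ d, ΛH (bc j d) = fun i => j (Λ d i) := fun d => by
    induction d using TensorProduct.induction_on with
    | zero => simp [Pi.zero_def]
    | tmul t x =>
      rw [show t ⊗ₜ[A] x = t • ((1 : H₀) ⊗ₜ[A] x) by simp [TensorProduct.smul_tmul'], bc_smul, map_smul,
        map_smul, bc_tmul, map_one, hΛH, hΛ]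
      ext i
      simp
    | add x y hx hy => ext i; simp [hx, hy]
  have hΛH0 : ∀ z ∈ J', ΛH z = 0 := by
    intro z hz
    suffices ∀ y, ΛH (y * z) = 0 by simpa using this 1
    rw [show J' = Ideal.span (bc j '' J) from rfl] at hz
    induction hz using Submodule.span_induction with
    | mem w hw =>
      obtain ⟨v, hv, rfl⟩ := hw
      intro y
      induction y using TensorProduct.induction_on with
      | zero => simp
      | tmul a x =>
        rw [show a ⊗ₜ[A] x = a • bc j ((1 : H₀) ⊗ₜ[A] x) by simp [TensorProduct.smul_tmul'],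
          smul_mul_assoc, map_smul, ← map_mul, hnat, hΛJ _ (Ideal.mul_mem_left _ _ hv)]
        ext i
        simp
      | add a b ha hb => simp only [add_mul, map_add, ha, hb, add_zero]
    | zero => simp
    | add a b _ _ ha hb => intro y; rw [mul_add, map_add, ha, hb, add_zero]
    | smul r a _ ha => intro y; rw [smul_eq_mul, ← mul_assoc, ha]
  have hEΛ : ∀ d, ΛH (E * d) = ΛH d := fun d => by
    have h1 : d - E * d ∈ J' := by
      rw [show d - E * d = d * e by simp [E]; ring, hJ'e]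
      exact Ideal.mul_mem_left _ _ (Ideal.mem_span_singleton_self e)
    rw [← sub_eq_zero, ← map_sub, ← neg_sub, map_neg, hΛH0 _ h1, neg_zero]
  have hB : IsBasis c H E := by
    have h := isBasis_of_coord c (AlgHom.id A H) E 1 (by simp) ΛH hEΛ (fun a => ?_)
      (fun x => ⟨ΛH ((1 : H) ⊗ₜ x), ?_⟩)
    · simpa [bc] using h
    · rw [hEΛ, one_smul]
      ext i
      simp [comb, Fintype.linearCombination_apply, hΛH, hc, Pi.single_apply, Finset.sum_apply, apply_ite j]
    · rw [one_smul, hΛH]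
      refine (sub_eq_zero.1 ?_).symm
      rw [← mul_sub]
      exact (mem_span_one_sub_iff hE).1 (hJ'E ▸ Ideal.subset_span ⟨x, rfl⟩)
  have hgκ : IsUnit ((φpre : H₀ →+* κ) g) := Ne.isUnit hg
  let φ₀ : H →ₐ[A] κ :=
    { toRingHom := IsLocalization.Away.lift g hgκ
      commutes' := fun a => by
        show IsLocalization.Away.lift g hgκ (algebraMap A H a) = _
        rw [IsScalarTower.algebraMap_apply A H₀ H, IsLocalization.Away.lift_eq]
        exact φpre.commutes a }
  have hφ₀ : φ₀.comp j = φpre := AlgHom.ext fun x => IsLocalization.Away.lift_eq g hgκ x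
  have hspan : ∀ {T : Type u} [CommRing T] [Algebra A T] (φ : H →ₐ[A] T),
      coordIdeal c T (fun x i => φ (j (lam x i))) = Ideal.span {1 - bc φ E} := by
    intro T _ _ φ
    rw [← coordIdeal_map c φ, hJ'E, Ideal.map_span, Set.image_singleton, map_sub, map_one]
  refine ⟨H, inferInstance, inferInstance, E, φ₀, hE, ?_, hB, fun {T} _ _ φ ψ h => ?_,
    fun {T} _ _ E' hid' hB' {L} _ _ ρ ψ h => ?_⟩
  · refine eq_of_span_one_sub_eq (hE.map _) h₀ ?_
    rw [← hspan, ← hJ₀]
    congr 1
    funext x i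
    exact (congr($hφ₀ (lam x i))).trans (hφpre x i)
  · have hlam := table_unique c (hB.bc c hE φ) (hE.map _) (hspan φ).le (h ▸ (hspan ψ).le)
    refine AlgHom.coe_ringHom_injective (IsLocalization.ringHom_ext (Submonoid.powers g) ?_)
    exact congrArg AlgHom.toRingHom (hext (φ.comp j) (ψ.comp j) fun x i => congr_fun₂ hlam x i)
  · obtain ⟨lam', hc', hmul', hJ'⟩ := hB'.exists_table c hid'
    obtain ⟨χ₀, hχ₀⟩ := hlift lam' hc' hmul'
    have hρ : ρ.comp χ₀ = ψ.comp j := by
      refine hext _ _ fun x i => congr_fun₂ (table_unique c (hB'.bc c hid' ρ) (hid'.map _)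
        (lam := fun x i => ρ (χ₀ (lam x i))) (lam' := fun x i => ψ (j (lam x i))) ?_ (h ▸ (hspan ψ).le)) x i
      simp only [hχ₀]
      rw [← coordIdeal_map, hJ', Ideal.map_span, Set.image_singleton, map_sub, map_one]
    refine ⟨χ₀ g, ?_, fun {T'} _ _ φ hφ => ?_⟩
    · have h1 := congr($hρ g)
      simp only [AlgHom.comp_apply] at h1
      rw [h1]
      exact ((IsLocalization.Away.algebraMap_isUnit (S := H) g).map ψ).ne_zero
    have hφ' : IsUnit (((φ.comp χ₀ : H₀ →ₐ[A] T') : H₀ →+* T') g) := hφ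
    let χ : H →ₐ[A] T' :=
      { toRingHom := IsLocalization.Away.lift g hφ'
        commutes' := fun a => by
          show IsLocalization.Away.lift g hφ' (algebraMap A H a) = _
          rw [IsScalarTower.algebraMap_apply A H₀ H, IsLocalization.Away.lift_eq]
          exact (φ.comp χ₀).commutes a }
    refine ⟨χ, eq_of_span_one_sub_eq (hE.map _) (hid'.map _) ?_⟩
    have h2 : (fun x i => χ (j (lam x i))) = fun x i => φ (lam' x i) := by
      funext x i
      rw [← hχ₀ x i]
      exact IsLocalization.Away.lift_eq g hφ' _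
    rw [← hspan, h2, ← coordIdeal_map, hJ', Ideal.map_span, Set.image_singleton, map_sub, map_one]

end Groth.L24.Split
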