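import Mathlib.AlgebraicGeometry.ResidueField
import Mathlib.AlgebraicGeometry.PullbackCarrier

/-!
# Field valued points
-/

set_option autoImplicit false
set_option linter.style.haveILetI false
set_option backward.isDefEq.respectTransparency.types false

universe u

open CategoryTheory CategoryTheory.Limits AlgebraicGeometry

noncomputable section

namespace Groth.L24.Split

variable {X U Y : Scheme.{u}} {K : Type u} [Field K]

theorem exists_factor (y : Spec (CommRingCat.of K) ⟶ X) {x : X} (hy : y default = x) :
    ∃ ρ : Spec (CommRingCat.of K) ⟶ Spec (X.residueField x), ρ ≫ X.fromSpecResidueField x = y := by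
  have h1 := Scheme.descResidueField_stalkClosedPointTo_fromSpecResidueField K X y
  have e : y (IsLocalRing.closedPoint K) = x :=
    (congrArg y (Subsingleton.elim (α := PrimeSpectrum K) _ _)).trans hy
  exact ⟨Spec.map (Scheme.descResidueField (Scheme.stalkClosedPointTo y)) ≫
    Spec.map (X.residueFieldCongr e.symm).hom,
    by rw [Category.assoc, Scheme.residueFieldCongr_fromSpecResidueField]; exact h1⟩

theorem eq_of_bijective (a : X ⟶ U) {x : X} (hb : Function.Bijective (a.residueFieldMap x))
    {y y' : Spec (CommRingCat.of K) ⟶ X} (hy : y default = x) (hy' : y' default = x) (h : y ≫ a = y' ≫ a) :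
    y = y' := by
  haveI : IsIso (a.residueFieldMap x) := (ConcreteCategory.isIso_iff_bijective _).2 hb
  have hmono : Mono (X.fromSpecResidueField x ≫ a) := by
    rw [← a.SpecMap_residueFieldMap_fromSpecResidueField x]
    infer_instance
  obtain ⟨ρ, rfl⟩ := exists_factor y hy
  obtain ⟨ρ', rfl⟩ := exists_factor y' hy'
  rw [Category.assoc, Category.assoc] at h
  rw [(cancel_mono (X.fromSpecResidueField x ≫ a)).1 h]

theorem exists_lift_pt (a : X ⟶ U) {x : X} (hb : Function.Bijective (a.residueFieldMap x))
    (y : Spec (CommRingCat.of K) ⟶ U) (hy : y default = a x) :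
    ∃ y' : Spec (CommRingCat.of K) ⟶ X, y' default = x ∧ y' ≫ a = y := by
  haveI : IsIso (a.residueFieldMap x) := (ConcreteCategory.isIso_iff_bijective _).2 hb
  obtain ⟨ρ, rfl⟩ := exists_factor y hy
  refine ⟨ρ ≫ inv (Spec.map (a.residueFieldMap x)) ≫ X.fromSpecResidueField x, ?_, ?_⟩
  · rw [Scheme.Hom.comp_apply, Scheme.Hom.comp_apply]
    exact Scheme.fromSpecResidueField_apply x _
  · rw [Category.assoc, Category.assoc, ← a.SpecMap_residueFieldMap_fromSpecResidueField x,
      IsIso.inv_hom_id_assoc]

theorem pt_eq (y : Spec (CommRingCat.of K) ⟶ X) (p q : Spec (CommRingCat.of K)) : y p = y q :=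
  congrArg y (Subsingleton.elim (α := PrimeSpectrum K) p q)

theorem comp_pt (ρ : Spec (CommRingCat.of K) ⟶ Y) (y : Y ⟶ X) : (ρ ≫ y) default = y (ρ default) :=
  Scheme.Hom.comp_apply _ _ _

/-- Every point is hit by a field valued point. -/
theorem exists_fieldPt (x : X) : ∃ (L : Type u) (_ : Field L) (y : Spec (CommRingCat.of L) ⟶ X), y default = x :=
  ⟨X.residueField x, inferInstance, X.fromSpecResidueField x, Scheme.fromSpecResidueField_apply x _⟩

/-- Two points with the same image are dominated by a common field valued point. -/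
theorem exists_common_pt {X' : Scheme.{u}} (f : X ⟶ U) (g : X' ⟶ U) {x : X} {x' : X'} (h : f x = g x') :
    ∃ (L : Type u) (_ : Field L) (y : Spec (CommRingCat.of L) ⟶ X) (y' : Spec (CommRingCat.of L) ⟶ X'),
      y default = x ∧ y' default = x' ∧ y ≫ f = y' ≫ g := by
  obtain ⟨z, rfl, rfl⟩ := Scheme.Pullback.exists_preimage_pullback (f := f) (g := g) x x' h
  obtain ⟨L, hL, y, hy⟩ := exists_fieldPt z
  refine ⟨L, hL, y ≫ pullback.fst f g, y ≫ pullback.snd f g, ?_, ?_, ?_⟩
  · rw [comp_pt, hy]
  · rw [comp_pt, hy]
  · rw [Category.assoc, Category.assoc, pullback.condition]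

end Groth.L24.Split
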