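import Groth.Agent.L24.Split.Good
import Groth.Agent.L24.Split.Pts
import Groth.Agent.L16.FinPart.Family
import Groth.Agent.L20.Weight.Isolate
import Groth.Agent.L23.SourceDescent
import Mathlib.AlgebraicGeometry.ZariskisMainTheorem

/-!
# The chart is etale at the base point
-/

set_option autoImplicit false
set_option linter.style.haveILetI false
set_option backward.isDefEq.respectTransparency.types false

universe u

open CategoryTheory CategoryTheory.Limits AlgebraicGeometry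

noncomputable section

namespace Groth.L24.Split

variable {R U : Scheme.{u}}

/-- Universal closedness of a morphism covered by finitely many universally closed pieces. -/
theorem universallyClosed_of_cover {T V : Scheme.{u}} (π : T ⟶ V) {ι : Type*} [Finite ι] (B : ι → T.Opens)
    (hcov : ∀ x, ∃ i, x ∈ B i) (hB : ∀ i, UniversallyClosed ((B i).ι ≫ π)) :
    UniversallyClosed π := by
  refine ⟨fun {T' V'} i₁ i₂ π' hsq C hC => ?_⟩
  have key : π' '' C = ⋃ i, ((i₁ ⁻¹ᵁ B i).ι ≫ π') '' ((i₁ ⁻¹ᵁ B i).ι ⁻¹' C) := by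
    ext v
    simp only [Set.mem_image, Set.mem_iUnion, Set.mem_preimage]
    constructor
    · rintro ⟨x, hx, rfl⟩
      obtain ⟨i, hi⟩ := hcov (i₁ x)
      exact ⟨i, ⟨x, hi⟩, hx, rfl⟩
    · rintro ⟨i, x, hx, rfl⟩
      exact ⟨_, hx, rfl⟩
  rw [key]
  refine isClosed_iUnion_of_finite fun i => ?_
  haveI := hB i
  have hsq' := (isPullback_morphismRestrict i₁ (B i)).paste_vert hsq.flip
  haveI : UniversallyClosed ((i₁ ⁻¹ᵁ B i).ι ≫ π') :=
    MorphismProperty.of_isPullback (P := @UniversallyClosed) hsq' inferInstance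
  exact ((i₁ ⁻¹ᵁ B i).ι ≫ π').isClosedMap _ (hC.preimage (i₁ ⁻¹ᵁ B i).ι.continuous)

/-- A union of finitely many opens finite over the base is finite over the base. -/
theorem isFinite_iSup {T V : Scheme.{u}} (π : T ⟶ V) [IsSeparated π] [LocallyOfFiniteType π] {ι : Type*}
    [Finite ι] (B : ι → T.Opens) (hB : ∀ i, IsFinite ((B i).ι ≫ π)) : IsFinite ((⨆ i, B i).ι ≫ π) := by
  let O := ⨆ i, B i
  have hle : ∀ i, B i ≤ O := fun i => le_iSup B i
  have hcov : ∀ x : O.toScheme, ∃ i, x ∈ O.ι ⁻¹ᵁ B i := fun x => by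
    obtain ⟨i, hi⟩ := TopologicalSpace.Opens.mem_iSup.1 (show O.ι x ∈ ⨆ i, B i from x.2)
    exact ⟨i, hi⟩
  have hp : ∀ i, IsFinite ((O.ι ⁻¹ᵁ B i).ι ≫ O.ι ≫ π) := fun i => by
    haveI : IsIso (O.ι ∣_ B i) := by
      have := isIso_morphismRestrict_of_le O (hle i)
      exact this
    rw [← Category.assoc, ← morphismRestrict_ι, Category.assoc,
      MorphismProperty.cancel_left_of_respectsIso @IsFinite]
    exact hB i
  haveI : UniversallyClosed (O.ι ≫ π) :=
    universallyClosed_of_cover (O.ι ≫ π) (fun i => O.ι ⁻¹ᵁ B i) hcov fun i => by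
      haveI := hp i
      infer_instance
  haveI : LocallyQuasiFinite (O.ι ≫ π) := by
    rw [← Scheme.Hom.quasiFiniteLocus_eq_top_iff]
    refine top_unique fun x _ => ?_
    obtain ⟨i, hi⟩ := hcov x
    haveI := hp i
    have h := Scheme.Hom.quasiFiniteAt ((O.ι ⁻¹ᵁ B i).ι ≫ O.ι ≫ π) ⟨x, hi⟩
    rw [Scheme.Hom.quasiFiniteAt_comp_iff_of_isOpenImmersion] at h
    exact h
  haveI : IsProper (O.ι ≫ π) := { }
  exact IsFinite.of_isProper_of_locallyQuasiFinite _
where
  isIso_morphismRestrict_of_le {T : Scheme.{u}} (O : T.Opens) {B : T.Opens} (h : B ≤ O) : IsIso (O.ι ∣_ B) := by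
    refine (isIso_iff_isOpenImmersion_and_surjective _).mpr ⟨inferInstance, ⟨fun y => ?_⟩⟩
    refine ⟨⟨⟨B.ι y, h y.2⟩, y.2⟩, ?_⟩
    exact B.ι.injective (by rw [← Scheme.Hom.comp_apply, morphismRestrict_ι]; rfl)

variable {s : R ⟶ U}

/-- Two classifying morphisms agree exactly along an open. -/
theorem exists_agree [IsSeparated s] (C : FChart s) {V : Scheme.{u}} {gV : V ⟶ U} (O₁ : (pullback s gV).Opens)
    [IsFinite (O₁.ι ≫ pullback.snd s gV)] (c : V ⟶ C.W) (hc : c ≫ C.a = gV) (hcO : pull s c hc C.O = O₁) :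
    IsOpenImmersion (pullback.lift (𝟙 V) c (by rw [Category.id_comp, hc]) : V ⟶ pullback gV C.a) := by
  haveI := C.finite
  let P := pullback gV C.a
  let p := pullback.fst gV C.a
  let q := pullback.snd gV C.a
  let b : P ⟶ U := p ≫ gV
  have hq : q ≫ C.a = b := pullback.condition.symm
  let A : (pullback s b).Opens := pull s p rfl O₁
  let B : (pullback s b).Opens := pull s q hq C.O
  haveI : IsFinite (A.ι ≫ pullback.snd s b) := isFinite_pull s p rfl O₁
  haveI : IsFinite (B.ι ≫ pullback.snd s b) := isFinite_pull s q hq C.O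
  let π := pullback.snd s b
  have hclosed : ∀ (A B : (pullback s b).Opens), IsFinite (A.ι ≫ π) → IsClosed (π '' ((A : Set _) \ (B : Set _))) := by
    intro A B _
    have e : π '' ((A : Set _) \ (B : Set _)) = (A.ι ≫ π) '' (A.ι ⁻¹' (B : Set _)ᶜ) := by
      ext y
      constructor
      · rintro ⟨z, ⟨hzA, hzB⟩, rfl⟩
        exact ⟨⟨z, hzA⟩, hzB, rfl⟩
      · rintro ⟨z, hz, rfl⟩
        exact ⟨A.ι z, ⟨z.2, hz⟩, (Scheme.Hom.comp_apply _ _ _).symm⟩
    rw [e]
    exact (A.ι ≫ π).isClosedMap _ (B.isOpen.isClosed_compl.preimage A.ι.continuous)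
  let K : P.Opens := ⟨(π '' ((A : Set _) \ (B : Set _)) ∪ π '' ((B : Set _) \ (A : Set _)))ᶜ,
    ((hclosed A B inferInstance).union (hclosed B A inferInstance)).isOpen_compl⟩
  let γ : V ⟶ P := pullback.lift (𝟙 V) c (by rw [Category.id_comp, hc])
  have hγp : γ ≫ p = 𝟙 V := pullback.lift_fst _ _ _
  have hγq : γ ≫ q = c := pullback.lift_snd _ _ _
  have hγb : γ ≫ b = gV := by rw [← Category.assoc, hγp, Category.id_comp]
  have hAB : pull s γ hγb A = pull s γ hγb B := by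
    rw [pull_pull, pull_pull, pull_congr s hγp, pull_congr s hγq, hcO]
    exact Scheme.Hom.id_preimage _ |> fun h => (congrArg (· ⁻¹ᵁ O₁) (lft_id s gV)).trans h
  have hK : pull s K.ι rfl A = pull s K.ι rfl B := by
    refine TopologicalSpace.Opens.ext (Set.ext fun z => ?_)
    show lft s K.ι rfl z ∈ A ↔ lft s K.ι rfl z ∈ B
    have hz : π (lft s K.ι rfl z) ∈ K := by
      rw [← Scheme.Hom.comp_apply, lft_snd, Scheme.Hom.comp_apply]
      exact (pullback.snd s (K.ι ≫ b) z).2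
    constructor
    · intro h
      by_contra h'
      exact hz (Or.inl ⟨_, ⟨h, h'⟩, rfl⟩)
    · intro h
      by_contra h'
      exact hz (Or.inr ⟨_, ⟨h, h'⟩, rfl⟩)
  have hmem : ∀ v, γ v ∈ K := by
    intro v
    rintro (⟨z, hz, hzv⟩ | ⟨z, hz, hzv⟩)
    · obtain ⟨z', hz', -⟩ := Scheme.exists_preimage_of_isPullback (isPullback_lft s γ hγb) z v hzv
      rw [← hz'] at hz
      exact hz.2 ((Iff.of_eq (congrArg (z' ∈ ·) hAB)).1 hz.1)
    · obtain ⟨z', hz', -⟩ := Scheme.exists_preimage_of_isPullback (isPullback_lft s γ hγb) z v hzv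
      rw [← hz'] at hz
      exact hz.2 ((Iff.of_eq (congrArg (z' ∈ ·) hAB)).2 hz.1)
  let γ' : V ⟶ K.toScheme := IsOpenImmersion.lift K.ι γ (by
    rw [Scheme.Opens.range_ι]
    rintro _ ⟨v, rfl⟩
    exact hmem v)
  have hγ' : γ' ≫ K.ι = γ := IsOpenImmersion.lift_fac _ _ _
  have he : (K.ι ≫ p) ≫ c = K.ι ≫ q := by
    refine C.hom_ext (K.ι ≫ b) _ _ (by rw [Category.assoc, hc, Category.assoc]) (by rw [Category.assoc, hq]) ?_
    rw [← pull_pull s c hc (K.ι ≫ p) (by rw [Category.assoc]), hcO, ← pull_pull s p rfl K.ι rfl,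
      ← pull_pull s q hq K.ι rfl]
    exact hK
  haveI : IsIso γ' := by
    refine ⟨K.ι ≫ p, by rw [reassoc_of% hγ', hγp], ?_⟩
    rw [← cancel_mono K.ι, Category.assoc, hγ', Category.id_comp]
    apply pullback.hom_ext
    · rw [Category.assoc, hγp, Category.comp_id]
    · rw [Category.assoc, hγq, he]
  show IsOpenImmersion γ
  rw [← hγ']
  infer_instance
where
  lft_id (s : R ⟶ U) {T : Scheme.{u}} (b : T ⟶ U) : lft s (𝟙 T) (Category.id_comp b) = 𝟙 _ := by
    apply pullback.hom_ext <;> simp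

/-- The chart is etale near the base point. -/
theorem exists_etale_open [IsSeparated s] [LocallyOfFinitePresentation s] (C : FChart s) (w : C.W) (u : U)
    (hu : C.a w = u) (hw : Function.Bijective (C.a.residueFieldMap w))
    {F : Set R} (hF : F.Finite) (hFs : ∀ x ∈ F, s x = u) (hqf : ∀ x ∈ F, s.QuasiFiniteAt x)
    (hchar : ∀ {K : Type u} [Field K] (x : Spec (CommRingCat.of K) ⟶ C.W) (b : Spec (CommRingCat.of K) ⟶ U)
      (hx : x ≫ C.a = b), x default = w → ∀ z, z ∈ pull s x hx C.O ↔ pullback.fst s b z ∈ F) :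
    ∃ W₀ : C.W.Opens, w ∈ W₀ ∧ Etale (W₀.ι ≫ C.a) := by
  haveI : Finite F := hF.to_subtype
  obtain ⟨U₁, g, u₁, hn, Vp, hVp⟩ := Groth.L16.FinPart.exists_family s u (fun i : F => (i : R))
    (fun i => hFs i i.2) (fun i => hqf i i.2)
  haveI := hn.etale
  let O₁ : (pullback s g).Opens := ⨆ i, Vp i
  have hO₁ : IsFinite (O₁.ι ≫ pullback.snd s g) := isFinite_iSup _ _ fun i => (hVp i).finite
  obtain ⟨L, _, ρ, hρ⟩ := exists_fieldPt u₁
  have hgρ : (ρ ≫ g) default = u := by rw [Scheme.Hom.comp_apply, hρ]; exact hn.base_eq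
  obtain ⟨ψ, hψw, hψ⟩ := exists_lift_pt C.a hw (ρ ≫ g) (by rw [hgρ, hu])
  have hpull : pull s ρ rfl O₁ = pull s ψ hψ C.O := by
    refine TopologicalSpace.Opens.ext (Set.ext fun z => ?_)
    refine Iff.trans ?_ (hchar ψ (ρ ≫ g) hψ hψw z).symm
    show lft s ρ rfl z ∈ O₁ ↔ _
    have h1 : pullback.fst s g (lft s ρ rfl z) = pullback.fst s (ρ ≫ g) z := by
      rw [← Scheme.Hom.comp_apply, lft_fst]
    have h2 : pullback.snd s g (lft s ρ rfl z) = u₁ := by
      rw [← Scheme.Hom.comp_apply, lft_snd, Scheme.Hom.comp_apply, pt_eq ρ _ default, hρ]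
    constructor
    · intro h
      obtain ⟨i, hi⟩ := TopologicalSpace.Opens.mem_iSup.1 h
      rw [← h1, (hVp i).unique _ hi h2]
      exact i.2
    · intro h
      obtain ⟨v, hv, hvu, hvx⟩ := (hVp ⟨_, h⟩).exists_mem
      obtain ⟨v₀, -, -, -, huniq⟩ := Groth.L16.FinPart.exists_unique_point s g u₁ hn.residue_bijective
        (pullback.fst s (ρ ≫ g) z) ((hFs _ h).trans hn.base_eq.symm)
      exact TopologicalSpace.Opens.mem_iSup.2 ⟨⟨_, h⟩, by
        rw [(huniq _ h1 h2).trans (huniq v hvx hvu).symm]; exact hv⟩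
  obtain ⟨V, hV, c, hc, hcO⟩ := C.extend g O₁ hO₁ ρ ψ hψ hpull
  haveI : IsFinite ((pull s V.ι rfl O₁).ι ≫ pullback.snd s (V.ι ≫ g)) := isFinite_pull s V.ι rfl O₁
  haveI := exists_agree C (pull s V.ι rfl O₁) c hc hcO
  haveI : Etale c := by
    rw [← pullback.lift_snd (𝟙 V.toScheme) c (show 𝟙 _ ≫ V.ι ≫ g = c ≫ C.a by rw [Category.id_comp, hc])]
    infer_instance
  let W₀ : C.W.Opens := ⟨Set.range c, c.isOpenMap.isOpen_range⟩
  refine ⟨W₀, ?_, ?_⟩
  · let ρ₀ : Spec (CommRingCat.of L) ⟶ V.toScheme := IsOpenImmersion.lift V.ι ρ (by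
      rw [Scheme.Opens.range_ι]
      rintro _ ⟨p, rfl⟩
      rw [pt_eq ρ p default]
      exact hV)
    have hρ₀ : ρ₀ ≫ V.ι = ρ := IsOpenImmersion.lift_fac _ _ _
    have he : ρ₀ ≫ c = ψ := by
      refine C.hom_ext (ρ ≫ g) _ _ (by rw [Category.assoc, hc, reassoc_of% hρ₀]) hψ ?_
      rw [← pull_pull s c hc ρ₀ (by rw [reassoc_of% hρ₀]), hcO, pull_pull, pull_congr s hρ₀]
      exact hpull
    exact ⟨ρ₀ default, by rw [← Scheme.Hom.comp_apply, he, hψw]⟩
  · let χ : V.toScheme ⟶ W₀.toScheme := IsOpenImmersion.lift W₀.ι c (by rw [Scheme.Opens.range_ι]; exact subset_rfl)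
    have hχ : χ ≫ W₀.ι = c := IsOpenImmersion.lift_fac _ _ _
    haveI : Surjective χ := ⟨fun y => by
      obtain ⟨v, hv⟩ := y.2
      exact ⟨v, W₀.ι.injective (by rw [← Scheme.Hom.comp_apply, hχ]; exact hv)⟩⟩
    haveI : Etale χ := by
      haveI : Etale (χ ≫ W₀.ι) := by rw [hχ]; infer_instance
      exact Etale.of_comp χ W₀.ι
    refine Groth.L23.etale_of_etale_comp' χ (W₀.ι ≫ C.a) ?_
    rw [reassoc_of% hχ, hc]
    infer_instance

end Groth.L24.Split
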