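import Groth.Agent.L24.Split.Good
import Groth.Agent.L24.Split.Pts
import Groth.Agent.L16.FinPart.Point
import Mathlib.AlgebraicGeometry.Morphisms.QuasiFinite

/-!
# The chart through a finite set of points of a fibre
-/

set_option autoImplicit false
set_option linter.style.haveILetI false
set_option backward.isDefEq.respectTransparency.types false

universe u

open CategoryTheory CategoryTheory.Limits AlgebraicGeometry

noncomputable section

namespace Groth.L24.Split

variable {R U : Scheme.{u}} (s : R ⟶ U) [IsSeparated s] [LocallyOfFinitePresentation s]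

/-- Finitely many isolated points of a fibre form an open piece, finite over the field. -/
theorem exists_fibre_open (u : U) {F : Set R} (hF : F.Finite) (hFs : ∀ x ∈ F, s x = u)
    (hqf : ∀ x ∈ F, s.QuasiFiniteAt x) :
    ∃ O₀ : (pullback s (U.fromSpecResidueField u)).Opens,
      (∀ z, z ∈ O₀ ↔ pullback.fst s (U.fromSpecResidueField u) z ∈ F) ∧
      IsFinite (O₀.ι ≫ pullback.snd s (U.fromSpecResidueField u)) := by
  let Ω : Set ↥(s.fiber u) := s.fiberι u ⁻¹' F
  have hfin : Ω.Finite := hF.preimage (s.fiberι u).isEmbedding.injective.injOn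
  have hop : IsOpen Ω := by
    rw [isOpen_iff_forall_mem_open]
    intro z hz
    refine ⟨{z}, Set.singleton_subset_iff.2 hz, ?_, rfl⟩
    have hx : s (s.fiberι u z) = u := hFs _ hz
    have h1 := Scheme.Hom.quasiFiniteAt_iff_isOpen_singleton_asFiber.1 (hqf _ hz)
    generalize hr : s.fiberι u z = r at hx h1
    subst hx
    have e : s.asFiber r = z := (s.fiberι _).isEmbedding.injective (by rw [Scheme.Hom.fiberι_asFiber, hr])
    rwa [e] at h1
  let O₀ : (pullback s (U.fromSpecResidueField u)).Opens := ⟨Ω, hop⟩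
  refine ⟨O₀, fun z => Iff.rfl, ?_⟩
  haveI : Finite O₀.toScheme := hfin.to_subtype
  haveI : LocallyQuasiFinite (O₀.ι ≫ pullback.snd s (U.fromSpecResidueField u)) :=
    LocallyQuasiFinite.of_finite_preimage_singleton _ fun _ => Set.toFinite _
  haveI : QuasiCompact (O₀.ι ≫ pullback.snd s (U.fromSpecResidueField u)) :=
    ⟨fun _ _ _ => (Set.toFinite _).isCompact⟩
  exact IsFinite.of_locallyQuasiFinite _

omit [IsSeparated s] [LocallyOfFinitePresentation s] in
theorem mem_pull_of_lift {W Q : Scheme.{u}} (a : W ⟶ U) (O : (pullback s a).Opens) {b₀ : Q ⟶ U} {w₀ : Q ⟶ W}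
    (hw₀ : w₀ ≫ a = b₀) {O₀ : (pullback s b₀).Opens} (hpull : pull s w₀ hw₀ O = O₀) {F : Set R}
    (hO₀ : ∀ z, z ∈ O₀ ↔ pullback.fst s b₀ z ∈ F) {w : W} (hq : ∀ q, w₀ q = w)
    (h2 : Function.Bijective (a.residueFieldMap w)) {K : Type u} [Field K] {x : Spec (CommRingCat.of K) ⟶ W}
    {b : Spec (CommRingCat.of K) ⟶ U} (hx : x ≫ a = b) (hxw : x default = w)
    (ρ : Spec (CommRingCat.of K) ⟶ Q) (hρ : ρ ≫ b₀ = b) (z : ↥(pullback s b)) :
    z ∈ pull s x hx O ↔ pullback.fst s b z ∈ F := by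
  have hxe : x = ρ ≫ w₀ := eq_of_bijective a h2 hxw ((comp_pt ρ w₀).trans (hq _))
    (by rw [Category.assoc, hw₀, hρ, hx])
  subst hxe
  have he : pull s (ρ ≫ w₀) hx O = pull s ρ hρ O₀ := by
    subst hpull
    exact (pull_pull s w₀ hw₀ ρ hρ O).symm
  refine Iff.trans (Iff.of_eq (congrArg (z ∈ ·) he)) ((hO₀ (lft s ρ hρ z)).trans ?_)
  rw [← Scheme.Hom.comp_apply, lft_fst]

/-- The chart through finitely many quasi-finite points of a fibre. -/
theorem exists_start [IsAffine U] [Flat s] (u : U) {F : Set R} (hF : F.Finite) (hFs : ∀ x ∈ F, s x = u)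
    (hqf : ∀ x ∈ F, s.QuasiFiniteAt x) :
    ∃ (C : FChart s) (w : C.W), C.a w = u ∧ Function.Bijective (C.a.residueFieldMap w) ∧
      ∀ {K : Type u} [Field K] (x : Spec (CommRingCat.of K) ⟶ C.W) (b : Spec (CommRingCat.of K) ⟶ U)
        (hx : x ≫ C.a = b), x default = w → ∀ z, z ∈ pull s x hx C.O ↔ pullback.fst s b z ∈ F := by
  obtain ⟨O₀, hO₀, hfin₀⟩ := exists_fibre_open s u hF hFs hqf
  obtain ⟨R₀, hR₀, hFR⟩ := exists_affine_open_of_quasiFiniteAt s hF hqf
  obtain ⟨W, a, O, w₀, hw₀, hW, hfin, -, hpull, huniq, hex⟩ := exists_chart_affine s R₀ hR₀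
    (U.fromSpecResidueField u) O₀ hfin₀ (fun z hz => hFR ((hO₀ z).1 hz))
  let C : FChart s := ⟨W, a, O, hW, hfin, huniq, hex⟩
  obtain ⟨h1, h2⟩ := Groth.L16.FinPart.bijective_of_lift a u w₀ hw₀
  refine ⟨C, w₀ (IsLocalRing.closedPoint _), h1, h2, fun {K} _ x b hx hxw z => ?_⟩
  have hb : b default = u := by rw [← hx, Scheme.Hom.comp_apply, hxw]; exact h1
  obtain ⟨ρ, hρ⟩ := exists_factor b hb
  exact mem_pull_of_lift s a O hw₀ hpull hO₀ (fun q => congrArg w₀ (Subsingleton.elim (α := PrimeSpectrum _) _ _))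
    h2 hx hxw ρ hρ z

end Groth.L24.Split
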