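import Groth.Agent.L24.Split.TargetMap
import Groth.Agent.L24.Split.Etale
import Groth.Agent.L24.Split.Start
import Groth.Agent.L24.Quot.Restrict
import Groth.Agent.S1881

/-!
# The invariant affine neighbourhood of the base point
-/

set_option autoImplicit false
set_option linter.style.haveILetI false
set_option backward.isDefEq.respectTransparency.types false

universe u

open CategoryTheory CategoryTheory.Limits AlgebraicGeometry
open L02.Grpd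

noncomputable section

namespace Groth.L24.Split

variable {S : Scheme.{u}}

/-- An open containing the orbit of a point contains an invariant open around it. -/
theorem exists_invariant_open (H : Grpd.GroupoidScheme S) [IsFinite H.s] (x : H.U) (W₀ : H.U.Opens)
    (hx : ∀ r, H.s r = x → H.t r ∈ W₀) :
    ∃ V : H.U.Opens, x ∈ V ∧ V ≤ W₀ ∧ H.s ⁻¹ᵁ V = H.t ⁻¹ᵁ V := by
  let V : H.U.Opens := ⟨(H.s '' (H.t ⁻¹' (W₀ : Set H.U)ᶜ))ᶜ,
    (H.s.isClosedMap _ (W₀.isOpen.isClosed_compl.preimage H.t.continuous)).isOpen_compl⟩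
  have key : ∀ r r' : H.R, H.s r = H.s r' → ∃ r'' : H.R, H.s r'' = H.t r ∧ H.t r'' = H.t r' := by
    intro r r' h
    obtain ⟨L, _, y, y', rfl, rfl, hy⟩ := exists_common_pt H.s H.s h
    refine ⟨mul H y' (y ≫ H.i) (hy.symm.trans (inv_t H y).symm) default, ?_, ?_⟩
    · rw [← Scheme.Hom.comp_apply, mul_s, inv_s, Scheme.Hom.comp_apply]
    · rw [← Scheme.Hom.comp_apply, mul_t, Scheme.Hom.comp_apply]
  refine ⟨V, ?_, ?_, ?_⟩
  · rintro ⟨r, hr, he⟩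
    exact hr (hx r he)
  · intro y hy
    by_contra hn
    exact hy ⟨H.e y, by
      show H.t (H.e y) ∉ W₀
      rw [← Scheme.Hom.comp_apply, H.e_t]
      exact hn, by rw [← Scheme.Hom.comp_apply, H.e_s]; rfl⟩
  · refine TopologicalSpace.Opens.ext (Set.ext fun r => ⟨fun hr => ?_, fun hr => ?_⟩)
    · rintro ⟨r', hr', he⟩
      obtain ⟨r'', h₁, h₂⟩ := key (H.i r) r' (by rw [he, ← Scheme.Hom.comp_apply, H.i_s])
      refine hr ⟨r'', ?_, ?_⟩
      · show H.t r'' ∉ W₀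
        rw [h₂]; exact hr'
      · rw [h₁, ← Scheme.Hom.comp_apply, H.i_t]
    · rintro ⟨r', hr', he⟩
      obtain ⟨r'', h₁, h₂⟩ := key r r' he.symm
      exact hr ⟨r'', by show H.t r'' ∉ W₀; rw [h₂]; exact hr', h₁⟩

variable {G : Grpd.GroupoidScheme S}

theorem flat_τ {C : FChart G.s} {W₂ : C.W.Opens} (D : Tgt C W₂) [Flat G.s] : Flat D.τ := by
  haveI := D.flat_s
  rw [D.τ_eq]
  infer_instance

theorem etale_zH (C : FChart G.s) (W₂ : C.W.Opens) (W₃ : W₂.toScheme.Opens)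
    (W₀ : C.W.Opens) (hle : W₃ ≤ W₂.ι ⁻¹ᵁ W₀) (het : Etale (W₀.ι ≫ C.a)) :
    Etale ((sH C W₂ ⁻¹ᵁ W₃).ι ≫ zH C W₂) := by
  let m : (sH C W₂ ⁻¹ᵁ W₃).toScheme ⟶ pullback G.s C.a :=
    (sH C W₂ ⁻¹ᵁ W₃).ι ≫ (pp C ⁻¹ᵁ W₂).ι ≫ C.O.ι
  let n : pullback G.s (W₀.ι ≫ C.a) ⟶ pullback G.s C.a := lft G.s W₀.ι rfl
  haveI : IsOpenImmersion n := MorphismProperty.of_isPullback (P := @IsOpenImmersion)
    (isPullback_lft G.s W₀.ι rfl).flip inferInstance
  have hr : Set.range m ⊆ Set.range n := by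
    rintro _ ⟨y, rfl⟩
    have h1 : pullback.snd G.s C.a (m y) ∈ W₀ := by
      have h2 : m ≫ pullback.snd G.s C.a = (sH C W₂ ⁻¹ᵁ W₃).ι ≫ sH C W₂ ≫ W₂.ι := by
        rw [sH_ι]; simp only [m, pp, Category.assoc]
      rw [← Scheme.Hom.comp_apply, h2, Scheme.Hom.comp_apply, Scheme.Hom.comp_apply]
      exact hle y.2
    obtain ⟨z, hz, -⟩ := Scheme.exists_preimage_of_isPullback
      (isPullback_lft G.s W₀.ι (rfl : W₀.ι ≫ C.a = W₀.ι ≫ C.a)) (m y) ⟨_, h1⟩ rfl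
    exact ⟨z, hz⟩
  let k := IsOpenImmersion.lift n m hr
  have hk : k ≫ n = m := IsOpenImmersion.lift_fac _ _ _
  haveI : IsOpenImmersion (k ≫ n) := hk ▸ inferInstanceAs (IsOpenImmersion m)
  haveI : IsOpenImmersion k := IsOpenImmersion.of_comp k n
  have e : (sH C W₂ ⁻¹ᵁ W₃).ι ≫ zH C W₂ = k ≫ pullback.fst G.s (W₀.ι ≫ C.a) := by
    rw [← lft_fst G.s W₀.ι rfl]
    show _ = k ≫ n ≫ pullback.fst G.s C.a
    rw [reassoc_of% hk]
    simp only [m, zH, zz, Category.assoc]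
  rw [e]
  infer_instance

/-- The data of a groupoid of finite pieces over an affine etale neighbourhood. -/
structure Core (G : Grpd.GroupoidScheme S) (u : G.U) (F : Set G.R) where
  /-- The chart. -/
  C : FChart G.s
  /-- The open. -/
  W₂ : C.W.Opens
  /-- The translations. -/
  D : Tgt C W₂
  /-- The invariant open. -/
  W₃ : W₂.toScheme.Opens
  inv : sH C W₂ ⁻¹ᵁ W₃ = D.τ ⁻¹ᵁ W₃
  affine : IsAffineOpen W₃
  /-- The base point. -/
  w : W₃.toScheme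
  hw : C.a (W₂.ι (W₃.ι w)) = u
  bij : Function.Bijective (C.a.residueFieldMap (W₂.ι (W₃.ι w)))
  etale : Etale (W₃.ι ≫ W₂.ι ≫ C.a)
  etale_fst : Etale ((sH C W₂ ⁻¹ᵁ W₃).ι ≫ zH C W₂)
  finite_s : IsFinite (sH C W₂ ∣_ W₃)
  finite_t : IsFinite (D.τ ∣_ W₃)
  fix : ∀ y : (pp C ⁻¹ᵁ W₂).toScheme, pp C ((pp C ⁻¹ᵁ W₂).ι y) = W₂.ι (W₃.ι w) → W₂.ι (D.τ y) = W₂.ι (W₃.ι w)
  char : ∀ {K : Type u} [Field K] (x : Spec (CommRingCat.of K) ⟶ C.W) (b : Spec (CommRingCat.of K) ⟶ G.U)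
    (hx : x ≫ C.a = b), x default = W₂.ι (W₃.ι w) → ∀ z, z ∈ pull G.s x hx C.O ↔ pullback.fst G.s b z ∈ F

/-- Existence of the core. -/
theorem exists_core [IsAffine G.U] [IsSeparated G.s] [Flat G.s] [LocallyOfFinitePresentation G.s]
    (u : G.U) {F : Set G.R} (hF : F.Finite) (hFs : ∀ x ∈ F, G.s x = u) (hFt : ∀ x ∈ F, G.t x = u)
    (hqf : ∀ x ∈ F, G.s.QuasiFiniteAt x) (hFe : G.e u ∈ F)
    (hmul : ∀ {K : Type u} [Field K] (g z : Spec (CommRingCat.of K) ⟶ G.R) (h : g ≫ G.s = z ≫ G.t),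
      z default ∈ F → (g default ∈ F ↔ mul G g z h default ∈ F)) :
    Nonempty (Core G u F) := by
  obtain ⟨C, w, hwu, hbij, hchar⟩ := exists_start G.s u hF hFs hqf
  have hptF : ∀ {K : Type u} [Field K] (x : Spec (CommRingCat.of K) ⟶ C.W) (b : Spec (CommRingCat.of K) ⟶ G.U)
      (hx : x ≫ C.a = b), x default = w → ∀ {L : Type u} [Field L] (g : Spec (CommRingCat.of L) ⟶ G.R)
      (y : Spec (CommRingCat.of L) ⟶ Spec (CommRingCat.of K)) (h : g ≫ G.s = y ≫ b),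
      pullback.lift g y h default ∈ pull G.s x hx C.O ↔ g default ∈ F := by
    intro K _ x b hx hxw L _ g y h
    rw [hchar x b hx hxw, ← Scheme.Hom.comp_apply, pullback.lift_fst]
  have hunit : pullback.lift (C.a ≫ G.e) (𝟙 C.W)
      (by rw [Category.assoc, G.e_s, Category.comp_id, Category.id_comp]) w ∈ C.O := by
    obtain ⟨L, _, x, hx⟩ := exists_fieldPt w
    rw [← hx, mem_comp]
    have h1 := hptF x (x ≫ C.a) rfl hx (x ≫ C.a ≫ G.e) (𝟙 _) (by simp [G.e_s])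
    rw [mem_pull] at h1
    refine (mem_congr rfl ?_).1 (h1.2 ?_)
    · rw [Category.id_comp, Category.comp_id]
    · rw [Scheme.Hom.comp_apply, Scheme.Hom.comp_apply, hx, hwu]
      exact hFe
  have hclass : ∀ y : C.O.toScheme, pp C y = w →
      ∃ (L : Type u) (_ : Field L) (k : Spec (CommRingCat.of L) ⟶ C.O.toScheme)
        (ψ : Spec (CommRingCat.of L) ⟶ C.W) (hψ : ψ ≫ C.a = k ≫ zz C ≫ G.t),
        k default = y ∧ ψ default = w ∧ pull G.s k rfl (tO C) = pull G.s ψ hψ C.O := by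
    intro y hy
    obtain ⟨L, _, k, hk⟩ := exists_fieldPt y
    have hxw : (k ≫ pp C) default = w := by rw [Scheme.Hom.comp_apply, hk, hy]
    have hxa : (k ≫ pp C) ≫ C.a = (k ≫ zz C) ≫ G.s := by simp only [Category.assoc, zz_s]
    have hzF : (k ≫ zz C) default ∈ F := by
      have h1 := hptF (k ≫ pp C) _ hxa hxw (k ≫ zz C) (𝟙 _) (by rw [Category.id_comp])
      rw [mem_pull] at h1
      exact h1.1 ((mem_congr rfl (Category.id_comp _).symm).1 (obj_mem C k hxa.symm default))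
    have htu : (k ≫ zz C ≫ G.t) default = u := by
      rw [← Category.assoc, Scheme.Hom.comp_apply]; exact hFt _ hzF
    obtain ⟨ψ, hψw, hψ⟩ := exists_lift_pt C.a hbij (k ≫ zz C ≫ G.t) (htu.trans hwu.symm)
    refine ⟨L, ‹_›, k, ψ, hψ, hk, hψw, ?_⟩
    refine opens_ext_pts fun K _ g x e => ?_
    have e' : g ≫ G.s = (x ≫ k ≫ zz C) ≫ G.t := by rw [e]; simp only [Category.assoc]
    rw [hptF ψ _ hψ hψw g x e, pull_tO C k (Category.assoc k (zz C) G.t) rfl]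
    show (pullback.lift g x e ≫ shift (k ≫ zz C) (Category.assoc k (zz C) G.t) rfl) default ∈
      pull G.s (k ≫ pp C) hxa C.O ↔ _
    rw [mem_shift, hptF (k ≫ pp C) _ hxa hxw]
    refine (hmul g (x ≫ k ≫ zz C) e' ?_).symm
    rw [Scheme.Hom.comp_apply, pt_eq (k ≫ zz C) _ default]
    exact hzF
  obtain ⟨W₂, D, hw₂, hτw⟩ := exists_tgt C w hunit hclass
  obtain ⟨W₀, hw₀, het⟩ := exists_etale_open C w u hwu hbij hF hFs hqf hchar
  haveI := D.isFinite_s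
  haveI : IsFinite D.groupoid.s := D.isFinite_s
  let w₂ : W₂.toScheme := ⟨w, hw₂⟩
  obtain ⟨V, hwV, hVle, hVinv⟩ : ∃ V : W₂.toScheme.Opens, w₂ ∈ V ∧ V ≤ W₂.ι ⁻¹ᵁ W₀ ∧
      sH C W₂ ⁻¹ᵁ V = D.τ ⁻¹ᵁ V := exists_invariant_open D.groupoid w₂ (W₂.ι ⁻¹ᵁ W₀) fun r hr => by
    show W₂.ι (D.τ r) ∈ W₀
    rw [hτw r ?_]
    · exact hw₀
    rw [← Scheme.Hom.comp_apply, ← sH_ι, Scheme.Hom.comp_apply]
    exact congrArg W₂.ι hr
  let H := Groth.Agent.L24.Quot.restrict D.groupoid V hVinv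
  haveI := D.flat_s
  haveI := flat_τ D
  haveI := D.lfp_s
  have hτfin : IsFinite D.τ := by rw [D.τ_eq]; infer_instance
  have hτlfp : LocallyOfFinitePresentation D.τ := by rw [D.τ_eq]; infer_instance
  haveI : IsFinite H.s := Groth.Agent.L24.Quot.restrict_s_prop _ _ _ @IsFinite D.isFinite_s
  haveI : Flat H.s := Groth.Agent.L24.Quot.restrict_s_prop _ _ _ @Flat D.flat_s
  haveI : LocallyOfFinitePresentation H.s := Groth.Agent.L24.Quot.restrict_s_prop _ _ _ @LocallyOfFinitePresentation D.lfp_s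
  haveI : IsFinite H.t := Groth.Agent.L24.Quot.restrict_t_prop _ _ _ @IsFinite hτfin
  haveI : Flat H.t := Groth.Agent.L24.Quot.restrict_t_prop _ _ _ @Flat (flat_τ D)
  haveI : LocallyOfFinitePresentation H.t :=
    Groth.Agent.L24.Quot.restrict_t_prop _ _ _ @LocallyOfFinitePresentation hτlfp
  let w₃ : V.toScheme := ⟨w₂, hwV⟩
  obtain ⟨A, hA, hwA, -⟩ := exists_isAffineOpen_mem_and_subset (X := V.toScheme) (x := w₃) (U := ⊤) trivial
  obtain ⟨W, hW, hwW, hWinv⟩ := Groth.Agent.S1881.result S H w₃ A hA fun r hr => by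
    have h1 : W₂.ι (D.τ ((sH C W₂ ⁻¹ᵁ V).ι r)) = w := by
      refine hτw _ ?_
      rw [← Scheme.Hom.comp_apply, ← sH_ι, Scheme.Hom.comp_apply, ← Scheme.Hom.comp_apply (sH C W₂ ⁻¹ᵁ V).ι,
        ← morphismRestrict_ι, Scheme.Hom.comp_apply]
      exact congrArg (fun p : V.toScheme => W₂.ι (V.ι p)) hr
    have h2 : H.t r = w₃ := by
      show Groth.Agent.L24.Quot.tW D.groupoid V hVinv r = w₃
      refine V.ι.injective (W₂.ι.injective ?_)
      show W₂.ι ((Groth.Agent.L24.Quot.tW D.groupoid V hVinv ≫ Scheme.Opens.ι (X := D.groupoid.U) V) r) = _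
      rw [Groth.Agent.L24.Quot.tW_ι, Scheme.Hom.comp_apply]
      exact h1
    rw [h2]; exact hwA
  let W₃ : W₂.toScheme.Opens := V.ι ''ᵁ W
  have hWV : W₃ ≤ V := by
    rintro _ ⟨p, _, rfl⟩
    exact p.2
  have hpre : V.ι ⁻¹ᵁ W₃ = W := V.ι.preimage_image_eq W
  have hinv : sH C W₂ ⁻¹ᵁ W₃ = D.τ ⁻¹ᵁ W₃ := by
    refine TopologicalSpace.Opens.ext (Set.ext fun r => ?_)
    have hrV : r ∈ sH C W₂ ⁻¹ᵁ V ↔ r ∈ D.τ ⁻¹ᵁ V := Iff.of_eq (congrArg (r ∈ ·) hVinv)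
    have step : ∀ hr : r ∈ sH C W₂ ⁻¹ᵁ V, sH C W₂ r ∈ W₃ ↔ D.τ r ∈ W₃ := fun hr => by
      have h1 : H.s ⟨r, hr⟩ ∈ W ↔ H.t ⟨r, hr⟩ ∈ W :=
        Iff.of_eq (congrArg ((⟨r, hr⟩ : H.R) ∈ ·) hWinv)
      rw [← hpre] at h1
      change (Groth.Agent.L24.Quot.sW D.groupoid V ≫ Scheme.Opens.ι (X := D.groupoid.U) V) ⟨r, hr⟩ ∈ W₃ ↔
        (Groth.Agent.L24.Quot.tW D.groupoid V hVinv ≫ Scheme.Opens.ι (X := D.groupoid.U) V) ⟨r, hr⟩ ∈ W₃ at h1
      rw [Groth.Agent.L24.Quot.sW_ι, Groth.Agent.L24.Quot.tW_ι] at h1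
      exact h1
    exact ⟨fun h => (step (hWV h)).1 h, fun h => (step (hrV.2 (hWV h))).2 h⟩
  have hle₀ : W₃ ≤ W₂.ι ⁻¹ᵁ W₀ := hWV.trans hVle
  have hW₃aff : IsAffineOpen W₃ := IsAffineOpen.image_of_isOpenImmersion (X := V.toScheme) hW V.ι
  refine ⟨⟨C, W₂, D, W₃, hinv, hW₃aff, ⟨w₂, ⟨w₃, hwW, rfl⟩⟩, hwu, hbij, ?_, ?_, ?_, ?_, hτw, hchar⟩⟩
  · let k : W₃.toScheme ⟶ W₀.toScheme := IsOpenImmersion.lift W₀.ι (W₃.ι ≫ W₂.ι) (by
      rw [Scheme.Opens.range_ι]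
      rintro _ ⟨y, rfl⟩
      exact hle₀ y.2)
    have hk : k ≫ W₀.ι = W₃.ι ≫ W₂.ι := IsOpenImmersion.lift_fac _ _ _
    haveI : IsOpenImmersion (k ≫ W₀.ι) := hk ▸ inferInstance
    haveI : IsOpenImmersion k := IsOpenImmersion.of_comp k W₀.ι
    rw [← reassoc_of% hk]
    infer_instance
  · exact etale_zH C W₂ W₃ W₀ hle₀ het
  · exact IsZariskiLocalAtTarget.restrict (P := @IsFinite) D.isFinite_s W₃
  · exact IsZariskiLocalAtTarget.restrict (P := @IsFinite) hτfin W₃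

end Groth.L24.Split
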