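import Groth.Agent.L24.Split.Shift
import Groth.Agent.L24.Split.Pts
import Groth.Agent.L24.Split.Etale

/-!
# Finite parts of a groupoid etale locally on the base
-/

set_option autoImplicit false
set_option linter.style.haveILetI false
set_option backward.isDefEq.respectTransparency.types false

universe u

open CategoryTheory CategoryTheory.Limits AlgebraicGeometry
open L02.Grpd

noncomputable section

namespace Groth.L24.Split

theorem quasiFiniteAt_of_isolated {X Y : Scheme.{u}} (f : X ⟶ Y) [LocallyOfFiniteType f] {x : X} (V : X.Opens)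
    (hx : x ∈ V) (hV : ∀ y ∈ V, f y = f x → y = x) : f.QuasiFiniteAt x := by
  rw [Scheme.Hom.quasiFiniteAt_iff_isOpen_singleton_asFiber, (f.fiberι (f x)).isEmbedding.isInducing.isOpen_iff]
  refine ⟨(V : Set X), V.isOpen, Set.ext fun z => ⟨fun hz => ?_, ?_⟩⟩
  · refine (f.fiberι (f x)).isEmbedding.injective ?_
    rw [Scheme.Hom.fiberι_asFiber]
    refine hV _ hz ?_
    have h : f.fiberι (f x) z ∈ Set.range (f.fiberι (f x)) := ⟨z, rfl⟩
    rw [Scheme.Hom.range_fiberι] at h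
    exact h
  · rintro rfl
    show f.fiberι (f x) (f.asFiber x) ∈ V
    rw [Scheme.Hom.fiberι_asFiber]; exact hx

/-- A finite fibre of a morphism locally of finite type is finite after any field extension. -/
theorem finite_pullback_of_finite_fibre {X Y : Scheme.{u}} (f : X ⟶ Y) [LocallyOfFiniteType f] (y : Y)
    (hy : (f ⁻¹' {y}).Finite) {K : Type u} [Field K] (a : Spec (CommRingCat.of K) ⟶ Y) (ha : a default = y) :
    Finite ↥(pullback f a) := by
  let c := Y.fromSpecResidueField y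
  haveI : Finite ↥(pullback f c) := by
    haveI := hy.to_subtype
    refine Finite.of_injective (fun z => (⟨pullback.fst f c z, ?_⟩ : ↥(f ⁻¹' {y}))) ?_
    · show f (pullback.fst f c z) = y
      rw [← Scheme.Hom.comp_apply, pullback.condition, Scheme.Hom.comp_apply]
      exact Scheme.fromSpecResidueField_apply y _
    · intro z z' h
      exact (f.fiberι y).isEmbedding.injective (Subtype.ext_iff.1 h)
  haveI : LocallyQuasiFinite (pullback.snd f c) :=
    LocallyQuasiFinite.of_finite_preimage_singleton _ fun _ => Set.toFinite _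
  haveI : QuasiCompact (pullback.snd f c) := ⟨fun _ _ _ => (Set.toFinite _).isCompact⟩
  obtain ⟨ρ, hρ⟩ := exists_factor a ha
  haveI : LocallyQuasiFinite (pullback.snd f a) :=
    MorphismProperty.of_isPullback (P := @LocallyQuasiFinite) (isPullback_lft f ρ hρ) inferInstance
  haveI : QuasiCompact (pullback.snd f a) :=
    MorphismProperty.of_isPullback (P := @QuasiCompact) (isPullback_lft f ρ hρ) inferInstance
  have h := (pullback.snd f a).finite_preimage_singleton default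
  have e : pullback.snd f a ⁻¹' {default} = Set.univ :=
    Set.eq_univ_of_forall fun z => Subsingleton.elim (α := PrimeSpectrum K) _ _
  rw [e] at h
  exact Set.finite_univ_iff.1 h

theorem exists_isolating {X : Type*} [TopologicalSpace X] {Fb : Set X} (hd : _root_.IsDiscrete Fb) {x : X} (hx : x ∈ Fb) :
    ∃ W : Set X, IsOpen W ∧ x ∈ W ∧ ∀ y ∈ W, y ∈ Fb → y = x := by
  haveI := hd.to_subtype
  obtain ⟨W, hW, hWx⟩ := isOpen_induced_iff.1 (isOpen_discrete ({⟨x, hx⟩} : Set Fb))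
  refine ⟨W, hW, ?_, fun y hy hyF => ?_⟩
  · exact (hWx.ge (Set.mem_singleton _) : _)
  · exact congrArg Subtype.val (hWx.le (show (⟨y, hyF⟩ : Fb) ∈ Subtype.val ⁻¹' W from hy))

theorem isDiscrete_fibre {X Y : Scheme.{u}} (f : X ⟶ Y) [LocallyOfFiniteType f] (y : Y) (hy : (f ⁻¹' {y}).Finite) :
    _root_.IsDiscrete (f ⁻¹' {y}) := by
  haveI : Finite ↥(f.fiber y) :=
    finite_pullback_of_finite_fibre f y hy (Y.fromSpecResidueField y) (Scheme.fromSpecResidueField_apply y _)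
  haveI : LocallyOfFiniteType (f.fiberToSpecResidueField y) := MorphismProperty.pullback_snd _ _ ‹_›
  haveI : LocallyQuasiFinite (f.fiberToSpecResidueField y) :=
    LocallyQuasiFinite.of_finite_preimage_singleton _ fun _ => Set.toFinite _
  haveI : IsLocallyArtinian (f.fiber y) := .of_locallyQuasiFinite (f.fiberToSpecResidueField y)
  simpa [Scheme.Hom.range_fiberι] using
    (isDiscrete_univ_iff.mpr inferInstance).image (f.fiberι y).isEmbedding.toIsInducing

variable {S : Scheme.{u}} (G : Grpd.GroupoidScheme S)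

/-- The orbit of a point with finite source fibre consists of isolated points with finite source fibres. -/
theorem orbit_finite [LocallyOfFiniteType G.s] [UniversallyOpen G.t] [LocallyOfFiniteType G.pU]
    (u : G.U) (hqf : ∃ V : G.U.Opens, u ∈ V ∧ ∀ x ∈ V, G.pU x = G.pU u → x = u) (hfin : (G.s ⁻¹' {u}).Finite) :
    (∀ v ∈ G.t '' (G.s ⁻¹' {u}), G.pU v = G.pU u ∧ (G.s ⁻¹' {v}).Finite ∧
      ∃ V : G.U.Opens, v ∈ V ∧ ∀ x ∈ V, G.pU x = G.pU v → x = v) := by
  rintro v ⟨z, hz : G.s z = u, rfl⟩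
  have hp : ∀ r : G.R, G.pU (G.t r) = G.pU (G.s r) := fun r => by
    rw [← Scheme.Hom.comp_apply, ← Scheme.Hom.comp_apply, G.t_over, G.s_over]
  refine ⟨(hp z).trans (congrArg G.pU hz), ?_, ?_⟩
  · obtain ⟨L, _, y, hy⟩ := exists_fieldPt z
    haveI : Finite ↥(pullback G.s (y ≫ G.s)) :=
      finite_pullback_of_finite_fibre G.s u hfin _ (by rw [Scheme.Hom.comp_apply, hy, hz])
    let sh := shift y (rfl : y ≫ G.t = y ≫ G.t) (rfl : y ≫ G.s = y ≫ G.s)
    haveI : Finite ↥(pullback G.s (y ≫ G.t)) :=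
      Finite.of_injective sh (Scheme.Hom.isOpenEmbedding sh).injective
    refine (Set.finite_range (pullback.fst G.s (y ≫ G.t))).subset fun r hr => ?_
    obtain ⟨q, hq, -⟩ := Scheme.Pullback.exists_preimage_pullback (f := G.s) (g := y ≫ G.t) r default
      (by rw [Scheme.Hom.comp_apply, hy]; exact hr)
    exact ⟨q, hq⟩
  · obtain ⟨V, hV, hVu⟩ := hqf
    have hd := isDiscrete_fibre G.s u hfin
    obtain ⟨W, hW, hzW, hWz⟩ := exists_isolating hd hz
    refine ⟨⟨G.t '' (W ∩ G.s ⁻¹' V), G.t.isOpenMap _ (hW.inter (V.isOpen.preimage G.s.continuous))⟩,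
      ⟨z, ⟨hzW, show G.s z ∈ V from hz ▸ hV⟩, rfl⟩, ?_⟩
    rintro _ ⟨r, ⟨hrW, hrV⟩, rfl⟩ he
    rw [hp r, hp z, hz] at he
    rw [hWz r hrW (hVu _ hrV he)]

/-- A pair of finite open parts over an etale neighbourhood. -/
structure Part {S' : Scheme.{u}} (g : S' ⟶ S) (p' : S') (O : Set G.U) where
  /-- The objects. -/
  U' : (pullback G.pU g).Opens
  /-- The arrows. -/
  R' : (pullback G.pR g).Opens
  finU : IsFinite (U'.ι ≫ pullback.snd G.pU g)
  finR : IsFinite (R'.ι ≫ pullback.snd G.pR g)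
  memU : ∀ x, pullback.snd G.pU g x = p' → (x ∈ U' ↔ pullback.fst G.pU g x ∈ O)
  memR : ∀ r, pullback.snd G.pR g r = p' → (r ∈ R' ↔ pullback.fst G.pR g r ∈ G.s ⁻¹' O)

/-- The base change of the source. -/
abbrev sm {S' : Scheme.{u}} (g : S' ⟶ S) : pullback G.pR g ⟶ pullback G.pU g :=
  pullback.map G.pR g G.pU g G.s (𝟙 S') (𝟙 S) ((Category.comp_id _).trans G.s_over.symm)
    ((Category.comp_id _).trans (Category.id_comp _).symm)

/-- The base change of the target. -/
abbrev tm {S' : Scheme.{u}} (g : S' ⟶ S) : pullback G.pR g ⟶ pullback G.pU g :=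
  pullback.map G.pR g G.pU g G.t (𝟙 S') (𝟙 S) ((Category.comp_id _).trans G.t_over.symm)
    ((Category.comp_id _).trans (Category.id_comp _).symm)

theorem sm_fst {S' : Scheme.{u}} (g : S' ⟶ S) (r : ↥(pullback G.pR g)) :
    pullback.fst G.pU g (sm G g r) = G.s (pullback.fst G.pR g r) := by
  rw [← Scheme.Hom.comp_apply, pullback.lift_fst, Scheme.Hom.comp_apply]

theorem tm_fst {S' : Scheme.{u}} (g : S' ⟶ S) (r : ↥(pullback G.pR g)) :
    pullback.fst G.pU g (tm G g r) = G.t (pullback.fst G.pR g r) := by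
  rw [← Scheme.Hom.comp_apply, pullback.lift_fst, Scheme.Hom.comp_apply]

theorem sm_snd {S' : Scheme.{u}} (g : S' ⟶ S) (r : ↥(pullback G.pR g)) :
    pullback.snd G.pU g (sm G g r) = pullback.snd G.pR g r := by
  rw [← Scheme.Hom.comp_apply, pullback.lift_snd, Category.comp_id]

theorem tm_snd {S' : Scheme.{u}} (g : S' ⟶ S) (r : ↥(pullback G.pR g)) :
    pullback.snd G.pU g (tm G g r) = pullback.snd G.pR g r := by
  rw [← Scheme.Hom.comp_apply, pullback.lift_snd, Category.comp_id]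

/-- A finite open piece containing exactly the given points over a base point. -/
theorem exists_piece {X : Scheme.{u}} (f : X ⟶ S) [IsSeparated f] [LocallyOfFiniteType f] {S' : Scheme.{u}}
    (g : S' ⟶ S) (p' : S') (hp : Function.Bijective (g.residueFieldMap p')) {ι : Type*} [Finite ι]
    (x : ι → X) (hx : ∀ i, f (x i) = g p') (V : ι → (pullback f g).Opens)
    (hV : ∀ i, Groth.L16.FinPart.Piece f g p' (x i) (V i)) :
    IsFinite ((⨆ i, V i).ι ≫ pullback.snd f g) ∧
      ∀ z, pullback.snd f g z = p' → (z ∈ ⨆ i, V i ↔ pullback.fst f g z ∈ Set.range x) := by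
  refine ⟨isFinite_iSup _ _ fun i => (hV i).finite, fun z hz => ⟨fun h => ?_, ?_⟩⟩
  · obtain ⟨i, hi⟩ := TopologicalSpace.Opens.mem_iSup.1 h
    exact ⟨i, ((hV i).unique _ hi hz).symm⟩
  · rintro ⟨i, hi⟩
    obtain ⟨v, hv, hvp, hvx⟩ := (hV i).exists_mem
    obtain ⟨v₀, -, -, -, huniq⟩ := Groth.L16.FinPart.exists_unique_point f g p' hp (x i) (hx i)
    exact TopologicalSpace.Opens.mem_iSup.2
      ⟨i, by rw [(huniq z hi.symm hz).trans (huniq v hvx hvp).symm]; exact hv⟩

/-- Existence of finite parts with source and target landing in the objects. -/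
theorem exists_part [LocallyOfFiniteType G.s] [UniversallyOpen G.t] [LocallyOfFiniteType G.pU]
    [IsSeparated G.pU] [IsSeparated G.pR]
    (u : G.U) (hqf : ∃ V : G.U.Opens, u ∈ V ∧ ∀ x ∈ V, G.pU x = G.pU u → x = u) (hfin : (G.s ⁻¹' {u}).Finite) :
    ∃ (S' : Scheme.{u}) (g : S' ⟶ S) (p' : S') (_ : Hens2.IsEtaleNbhd g p' (G.pU u))
      (P : Part G g p' (G.t '' (G.s ⁻¹' {u}))),
      P.R' ≤ sm G g ⁻¹ᵁ P.U' ∧ P.R' ≤ tm G g ⁻¹ᵁ P.U' := by
  let O := G.t '' (G.s ⁻¹' {u})
  have hO := orbit_finite G u hqf hfin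
  have hOfin : O.Finite := hfin.image _
  haveI : LocallyOfFiniteType G.pR := by rw [← G.s_over]; infer_instance
  let FR : Set G.R := G.s ⁻¹' O
  have hFRfin : FR.Finite := by
    have e : FR = ⋃ v ∈ O, G.s ⁻¹' {v} := by ext r; simp [FR]
    rw [e]
    exact hOfin.biUnion fun v hv => (hO v hv).2.1
  have hOp : ∀ v ∈ O, G.pU v = G.pU u := fun v hv => (hO v hv).1
  have hRp : ∀ r ∈ FR, G.pR r = G.pU u := fun r hr => by
    rw [← G.s_over, Scheme.Hom.comp_apply]; exact hOp _ hr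
  have hqU : ∀ v ∈ O, G.pU.QuasiFiniteAt v := fun v hv => by
    obtain ⟨V, h1, h2⟩ := (hO v hv).2.2
    exact quasiFiniteAt_of_isolated _ V h1 h2
  have hqR : ∀ r ∈ FR, G.pR.QuasiFiniteAt r := fun r hr => by
    obtain ⟨V, h1, h2⟩ := (hO _ hr).2.2
    have hd := isDiscrete_fibre G.s (G.s r) (hO _ hr).2.1
    obtain ⟨W, hW, hrW, hWr⟩ := exists_isolating hd (rfl : G.s r = G.s r)
    refine quasiFiniteAt_of_isolated _ (⟨W, hW⟩ ⊓ G.s ⁻¹ᵁ V) ⟨hrW, h1⟩ fun y hy he => hWr y hy.1 ?_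
    refine h2 _ hy.2 ?_
    rw [← Scheme.Hom.comp_apply, ← Scheme.Hom.comp_apply, G.s_over]
    exact he
  haveI : Finite O := hOfin.to_subtype
  haveI : Finite FR := hFRfin.to_subtype
  obtain ⟨U₁, g₁, p₁, hn₁, VU, hVU⟩ := Groth.L16.FinPart.exists_family G.pU (G.pU u) (fun v : O => (v : G.U))
    (fun v => hOp v v.2) (fun v => hqU v v.2)
  obtain ⟨U₂, g₂, p₂, hn₂, VR, hVR⟩ := Groth.L16.FinPart.exists_family G.pR (G.pU u) (fun r : FR => (r : G.R))
    (fun r => hRp r r.2) (fun r => hqR r r.2)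
  obtain ⟨S', a, b, p', hab, ha, hb, hn⟩ := Groth.L16.FinPart.exists_refine hn₁ hn₂
  choose VU' hVU' using fun v : O => (hVU v).pull G.pU a p' ha hn.residue_bijective
    ((hOp v v.2).trans hn₁.base_eq.symm)
  choose VR' hVR' using fun r : FR => (hVR r).pull G.pR b p' hb (hab ▸ hn.residue_bijective)
    ((hRp r r.2).trans hn₂.base_eq.symm)
  let g := a ≫ g₁
  have hVR'' : ∀ r : FR, ∃ V : (pullback G.pR g).Opens, Groth.L16.FinPart.Piece G.pR g p' r V := fun r => by
    show ∃ V : (pullback G.pR (a ≫ g₁)).Opens, Groth.L16.FinPart.Piece G.pR (a ≫ g₁) p' r V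
    rw [hab]
    exact ⟨_, hVR' r⟩
  choose WR hWR using hVR''
  obtain ⟨hU1, hU2⟩ := exists_piece G.pU g p' hn.residue_bijective (fun v : O => (v : G.U))
    (fun v => (hOp v v.2).trans hn.base_eq.symm) VU' hVU'
  obtain ⟨hR1, hR2⟩ := exists_piece G.pR g p' hn.residue_bijective (fun r : FR => (r : G.R))
    (fun r => (hRp r r.2).trans hn.base_eq.symm) WR hWR
  let U' : (pullback G.pU g).Opens := ⨆ v, VU' v
  let R₁ : (pullback G.pR g).Opens := ⨆ r, WR r
  haveI := hU1
  haveI := hR1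
  have hUc : IsClosed (U' : Set ↥(pullback G.pU g)) := Groth.L20.Weight.isClosed_of_isFinite (pullback.snd G.pU g) U'
  have hRc : IsClosed (R₁ : Set ↥(pullback G.pR g)) := Groth.L20.Weight.isClosed_of_isFinite (pullback.snd G.pR g) R₁
  let R' := R₁ ⊓ sm G g ⁻¹ᵁ U' ⊓ tm G g ⁻¹ᵁ U'
  have hR' : IsClosed (R' : Set ↥(pullback G.pR g)) :=
    ((hRc.inter (hUc.preimage (sm G g).continuous)).inter (hUc.preimage (tm G g).continuous))
  refine ⟨S', g, p', hn, ⟨U', R', hU1,
    Groth.L20.Weight.isFinite_of_le (pullback.snd G.pR g) R₁ R' (inf_le_left.trans inf_le_left) hR',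
    fun x hx => by rw [hU2 x hx, Subtype.range_coe], fun r hr => ?_⟩, inf_le_left.trans inf_le_right, inf_le_right⟩
  refine ⟨fun h => by simpa only [Subtype.range_coe] using (hR2 r hr).1 h.1.1, fun h => ?_⟩
  refine ⟨⟨(hR2 r hr).2 ⟨⟨_, h⟩, rfl⟩, ?_⟩, ?_⟩
  · show sm G g r ∈ U'
    rw [hU2 _ (by rw [sm_snd, hr]), Subtype.range_coe, sm_fst]
    exact h
  · show tm G g r ∈ U'
    rw [hU2 _ (by rw [tm_snd, hr]), Subtype.range_coe, tm_fst]
    obtain ⟨z, hz, he⟩ := h
    obtain ⟨L, _, y, k, hy, hk, hyk⟩ := exists_common_pt G.s G.t he.symm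
    refine ⟨mul G y k hyk default, ?_, ?_⟩
    · show G.s _ = u
      rw [← Scheme.Hom.comp_apply, mul_s, Scheme.Hom.comp_apply, hk]; exact hz
    · rw [← Scheme.Hom.comp_apply, mul_t, Scheme.Hom.comp_apply, hy]

/-- The conclusions in terms of a part. -/
theorem part_spec (u : G.U) {S' : Scheme.{u}} (g : S' ⟶ S) (p' : S') (hn : Hens2.IsEtaleNbhd g p' (G.pU u))
    [IsSeparated G.pU] [IsSeparated G.pR] (P : Part G g p' (G.t '' (G.s ⁻¹' {u}))) :
    IsClosed (P.U' : Set ↥(pullback G.pU g)) ∧ IsClosed (P.R' : Set ↥(pullback G.pR g)) ∧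
      (∃ u' : ↥(pullback G.pU g), u' ∈ P.U' ∧ pullback.fst G.pU g u' = u ∧ pullback.snd G.pU g u' = p') ∧
      (∀ u' : ↥(pullback G.pU g), u' ∈ P.U' → pullback.fst G.pU g u' = u → pullback.snd G.pU g u' = p' →
        {x : ↥(pullback G.pU g) | x ∈ P.U' ∧ pullback.snd G.pU g x = p'} = ⇑(tm G g) '' (⇑(sm G g) ⁻¹' {u'})) ∧
      {r : ↥(pullback G.pR g) | r ∈ P.R' ∧ pullback.snd G.pR g r = p'} =
        ⇑(sm G g) ⁻¹' {x | x ∈ P.U' ∧ pullback.snd G.pU g x = p'} := by
  haveI := P.finU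
  haveI := P.finR
  have hbij := hn.residue_bijective
  have hue : u ∈ G.t '' (G.s ⁻¹' {u}) :=
    ⟨G.e u, by show G.s (G.e u) = u; rw [← Scheme.Hom.comp_apply, G.e_s]; rfl,
      by rw [← Scheme.Hom.comp_apply, G.e_t]; rfl⟩
  refine ⟨Groth.L20.Weight.isClosed_of_isFinite (pullback.snd G.pU g) P.U',
    Groth.L20.Weight.isClosed_of_isFinite (pullback.snd G.pR g) P.R', ?_, fun u' _ hu1 hu2 => ?_, ?_⟩
  · obtain ⟨v, hv1, hv2, -⟩ := Groth.L16.FinPart.exists_unique_point G.pU g p' hbij u hn.base_eq.symm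
    exact ⟨v, (P.memU v hv2).2 (hv1 ▸ hue), hv1, hv2⟩
  · ext x
    constructor
    · rintro ⟨hx, hxp⟩
      obtain ⟨r, hr : G.s r = u, hrx⟩ := (P.memU x hxp).1 hx
      obtain ⟨r', hr'1, hr'2, -⟩ := Groth.L16.FinPart.exists_unique_point G.pR g p' hbij r
        (by rw [← G.s_over, Scheme.Hom.comp_apply, hr]; exact hn.base_eq.symm)
      refine ⟨r', ?_, ?_⟩
      · show sm G g r' = u'
        obtain ⟨v, -, -, -, huniq⟩ := Groth.L16.FinPart.exists_unique_point G.pU g p' hbij u hn.base_eq.symm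
        exact (huniq _ (by rw [sm_fst, hr'1, hr]) (by rw [sm_snd, hr'2])).trans (huniq _ hu1 hu2).symm
      · obtain ⟨v, -, -, -, huniq⟩ := Groth.L16.FinPart.exists_unique_point G.pU g p' hbij (pullback.fst G.pU g x)
          (by rw [← Scheme.Hom.comp_apply, pullback.condition, Scheme.Hom.comp_apply, hxp])
        exact (huniq _ (by rw [tm_fst, hr'1, hrx]) (by rw [tm_snd, hr'2])).trans (huniq _ rfl hxp).symm
    · rintro ⟨r', hr' : sm G g r' = u', rfl⟩
      have hp : pullback.snd G.pR g r' = p' := by rw [← sm_snd G g r', hr', hu2]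
      have htp : pullback.snd G.pU g (tm G g r') = p' := by rw [tm_snd, hp]
      refine ⟨(P.memU _ htp).2 ⟨pullback.fst G.pR g r', ?_, (tm_fst G g r').symm⟩, htp⟩
      show G.s _ = u
      rw [← sm_fst, hr', hu1]
  · ext r
    show (r ∈ P.R' ∧ pullback.snd G.pR g r = p') ↔ (sm G g r ∈ P.U' ∧ pullback.snd G.pU g (sm G g r) = p')
    rw [sm_snd]
    refine and_congr_left fun hr => ?_
    rw [P.memR r hr, P.memU _ (by rw [sm_snd, hr]), sm_fst]
    rfl

/-- Shrinking the base makes the arrows the full restriction. -/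
theorem exists_part_full [UniversallyClosed G.j] [IsSeparated G.pU] [IsSeparated G.pR]
    (u : G.U) {S' : Scheme.{u}} (g : S' ⟶ S) (p' : S') (hn : Hens2.IsEtaleNbhd g p' (G.pU u))
    (P : Part G g p' (G.t '' (G.s ⁻¹' {u}))) (hs : P.R' ≤ sm G g ⁻¹ᵁ P.U') (ht : P.R' ≤ tm G g ⁻¹ᵁ P.U') :
    ∃ (S₁ : Scheme.{u}) (g₁ : S₁ ⟶ S) (p₁ : S₁) (_ : Hens2.IsEtaleNbhd g₁ p₁ (G.pU u))
      (P₁ : Part G g₁ p₁ (G.t '' (G.s ⁻¹' {u}))),
      P₁.R' = sm G g₁ ⁻¹ᵁ P₁.U' ⊓ tm G g₁ ⁻¹ᵁ P₁.U' := by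
  haveI := P.finU
  let full := sm G g ⁻¹ᵁ P.U' ⊓ tm G g ⁻¹ᵁ P.U'
  haveI := P.finR
  have hUc : IsClosed (P.U' : Set ↥(pullback G.pU g)) :=
    Groth.L20.Weight.isClosed_of_isFinite (pullback.snd G.pU g) P.U'
  let Z : Set ↥(pullback G.pR g) := (full : Set _) \ (P.R' : Set _)
  have hZ : IsClosed Z :=
    (((hUc.preimage (sm G g).continuous).inter (hUc.preimage (tm G g).continuous)).inter P.R'.isOpen.isClosed_compl)
  let πU := P.U'.ι ≫ pullback.snd G.pU g
  let q := P.U'.ι ≫ pullback.fst G.pU g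
  let B := pullback πU πU
  let m : B ⟶ pullback G.pU G.pU := pullback.lift (pullback.fst πU πU ≫ q) (pullback.snd πU πU ≫ q) (by
    simp only [q, Category.assoc, pullback.condition]
    rw [← Category.assoc P.U'.ι, pullback.condition_assoc])
  let E := pullback G.j m
  let jB : E ⟶ B := pullback.snd G.j m
  haveI : UniversallyClosed jB := MorphismProperty.pullback_snd (P := @UniversallyClosed) _ _ ‹_›
  let πB : B ⟶ S' := pullback.fst πU πU ≫ πU
  let e : E ⟶ pullback G.pR g := pullback.lift (pullback.fst G.j m) (jB ≫ πB) (by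
    have e1 : G.j ≫ pullback.fst G.pU G.pU = G.t := pullback.lift_fst _ _ _
    have e2 : m ≫ pullback.fst G.pU G.pU = pullback.fst πU πU ≫ q := pullback.lift_fst _ _ _
    rw [← G.t_over, ← e1, Category.assoc, pullback.condition_assoc, reassoc_of% e2]
    simp only [q, πB, πU, jB, Category.assoc]
    rw [pullback.condition (f := G.pU) (g := g)])
  let C : Set S' := πB '' (jB '' (e ⁻¹' Z))
  haveI : UniversallyClosed πU := inferInstanceAs (UniversallyClosed (P.U'.ι ≫ pullback.snd G.pU g))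
  haveI : UniversallyClosed πB := by
    haveI : UniversallyClosed (pullback.fst πU πU) := MorphismProperty.pullback_fst (P := @UniversallyClosed) _ _ ‹_›
    exact MorphismProperty.comp_mem @UniversallyClosed _ _ ‹_› ‹_›
  have hC : IsClosed C := πB.isClosedMap _ (jB.isClosedMap _ (hZ.preimage e.continuous))
  have hπ : ∀ z : E, πB (jB z) = pullback.snd G.pR g (e z) := fun z => by
    rw [← Scheme.Hom.comp_apply, ← Scheme.Hom.comp_apply, pullback.lift_snd]
  have hsurj : ∀ r ∈ full, ∃ z : E, e z = r := by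
    intro r hr
    obtain ⟨L, _, k, hk⟩ := exists_fieldPt r
    have hlift : ∀ (f : pullback G.pR g ⟶ pullback G.pU g), f r ∈ P.U' →
        ∃ l : Spec (CommRingCat.of L) ⟶ P.U'.toScheme, l ≫ P.U'.ι = k ≫ f := fun f hf =>
      ⟨IsOpenImmersion.lift P.U'.ι (k ≫ f) (by
        rw [Scheme.Opens.range_ι]
        rintro _ ⟨p, rfl⟩
        rw [Scheme.Hom.comp_apply, pt_eq k p default, hk]; exact hf), IsOpenImmersion.lift_fac _ _ _⟩
    obtain ⟨ls, hls⟩ := hlift _ hr.1
    obtain ⟨lt, hlt⟩ := hlift _ hr.2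
    have hπs : ls ≫ πU = k ≫ pullback.snd G.pR g := by
      rw [← Category.assoc, hls, Category.assoc, pullback.lift_snd, Category.comp_id]
    have hπt : lt ≫ πU = k ≫ pullback.snd G.pR g := by
      rw [← Category.assoc, hlt, Category.assoc, pullback.lift_snd, Category.comp_id]
    have hqs : ls ≫ q = k ≫ pullback.fst G.pR g ≫ G.s := by
      rw [← Category.assoc, hls, Category.assoc, pullback.lift_fst]
    have hqt : lt ≫ q = k ≫ pullback.fst G.pR g ≫ G.t := by
      rw [← Category.assoc, hlt, Category.assoc, pullback.lift_fst]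
    let b : Spec (CommRingCat.of L) ⟶ B := pullback.lift lt ls (hπt.trans hπs.symm)
    have hb : (k ≫ pullback.fst G.pR g) ≫ G.j = b ≫ m := by
      apply pullback.hom_ext <;>
        simp only [b, m, Category.assoc, Grpd.GroupoidScheme.j, pullback.lift_fst, pullback.lift_snd,
          pullback.lift_fst_assoc, pullback.lift_snd_assoc, hqs, hqt]
    refine ⟨pullback.lift _ _ hb default, ?_⟩
    rw [← hk, ← Scheme.Hom.comp_apply]
    refine congrArg (fun f : _ ⟶ pullback G.pR g => f default) ?_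
    apply pullback.hom_ext
    · rw [Category.assoc, pullback.lift_fst, pullback.lift_fst]
    · rw [Category.assoc, pullback.lift_snd]
      simp only [jB, πB, pullback.lift_snd_assoc, b, pullback.lift_fst_assoc, hπt]
  let V : S'.Opens := ⟨Cᶜ, hC.isOpen_compl⟩
  have hp : p' ∈ V := by
    rintro ⟨_, ⟨z, hz, rfl⟩, he⟩
    rw [hπ] at he
    refine hz.2 ((P.memR _ he).2 ?_)
    have h1 := (P.memU _ (by rw [sm_snd, he])).1 hz.1.1
    rwa [sm_fst] at h1
  have hsub : ∀ r ∈ full, pullback.snd G.pR g r ∈ V → r ∈ P.R' := fun r hr hV => by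
    by_contra hn
    obtain ⟨z, rfl⟩ := hsurj r hr
    exact hV ⟨_, ⟨z, ⟨hr, hn⟩, rfl⟩, hπ z⟩
  let p₁ : V.toScheme := ⟨p', hp⟩
  have hn₁ : Hens2.IsEtaleNbhd (V.ι ≫ g) p₁ (G.pU u) := by
    haveI := hn.etale
    refine ⟨inferInstance, ?_, ?_⟩
    · rw [← hn.base_eq]; rfl
    · rw [Scheme.residueFieldMap_comp]
      exact (ConcreteCategory.bijective_of_isIso (V.ι.residueFieldMap p₁)).comp hn.residue_bijective
  let mU : pullback G.pU (V.ι ≫ g) ⟶ pullback G.pU g := lft G.pU V.ι rfl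
  let mR : pullback G.pR (V.ι ≫ g) ⟶ pullback G.pR g := lft G.pR V.ι rfl
  have hms : mR ≫ sm G g = sm G (V.ι ≫ g) ≫ mU := by
    apply pullback.hom_ext
    · rw [Category.assoc, Category.assoc, lft_fst, pullback.lift_fst, pullback.lift_fst, lft_fst_assoc]
    · rw [Category.assoc, Category.assoc, lft_snd, pullback.lift_snd, Category.comp_id, lft_snd,
        pullback.lift_snd_assoc, Category.assoc, Category.id_comp]
  have hmt : mR ≫ tm G g = tm G (V.ι ≫ g) ≫ mU := by
    apply pullback.hom_ext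
    · rw [Category.assoc, Category.assoc, lft_fst, pullback.lift_fst, pullback.lift_fst, lft_fst_assoc]
    · rw [Category.assoc, Category.assoc, lft_snd, pullback.lift_snd, Category.comp_id, lft_snd,
        pullback.lift_snd_assoc, Category.assoc, Category.id_comp]
  haveI : IsFinite ((mU ⁻¹ᵁ P.U').ι ≫ pullback.snd G.pU (V.ι ≫ g)) := isFinite_pull G.pU V.ι rfl P.U'
  haveI : IsFinite ((mR ⁻¹ᵁ P.R').ι ≫ pullback.snd G.pR (V.ι ≫ g)) := isFinite_pull G.pR V.ι rfl P.R'
  refine ⟨V.toScheme, V.ι ≫ g, p₁, hn₁, ⟨mU ⁻¹ᵁ P.U', mR ⁻¹ᵁ P.R', inferInstance, inferInstance, ?_, ?_⟩, ?_⟩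
  · intro x hx
    show mU x ∈ P.U' ↔ _
    rw [P.memU _ (by rw [← Scheme.Hom.comp_apply, lft_snd, Scheme.Hom.comp_apply, hx]; rfl),
      ← Scheme.Hom.comp_apply, lft_fst]
  · intro x hx
    show mR x ∈ P.R' ↔ _
    rw [P.memR _ (by rw [← Scheme.Hom.comp_apply, lft_snd, Scheme.Hom.comp_apply, hx]; rfl),
      ← Scheme.Hom.comp_apply, lft_fst]
  · show mR ⁻¹ᵁ P.R' = _
    rw [← Scheme.Hom.comp_preimage, ← Scheme.Hom.comp_preimage, ← hms, ← hmt, Scheme.Hom.comp_preimage,
      Scheme.Hom.comp_preimage]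
    refine TopologicalSpace.Opens.ext (Set.ext fun x => ⟨fun h => ⟨hs h, ht h⟩, fun h => ?_⟩)
    refine hsub (mR x) h ?_
    rw [← Scheme.Hom.comp_apply, lft_snd, Scheme.Hom.comp_apply]
    exact (pullback.snd G.pR (V.ι ≫ g) x).2

end Groth.L24.Split
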