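import Groth.Agent.L24.Split.Chart
import Groth.Agent.L20.Weight.Isolate
import Mathlib.AlgebraicGeometry.Morphisms.Flat
import Mathlib.AlgebraicGeometry.Morphisms.FinitePresentation
import Mathlib.AlgebraicGeometry.Morphisms.Finite
import Mathlib.RingTheory.Idempotents
import Mathlib.RingTheory.Flat.Basic
import Mathlib.LinearAlgebra.Basis.VectorSpace

/-!
# The chart classifying finite open pieces of a base change
-/

set_option autoImplicit false
set_option linter.style.haveILetI false
set_option backward.isDefEq.respectTransparency.types false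

universe u

open CategoryTheory CategoryTheory.Limits AlgebraicGeometry TensorProduct

noncomputable section

namespace Groth.L24.Split

variable {X Y : Scheme.{u}} (s : X ⟶ Y)

section Pull

variable {T T' T'' : Scheme.{u}} {b : T ⟶ Y} {b' : T' ⟶ Y} {b'' : T'' ⟶ Y}

/-- The map of base changes over a map of test objects. -/
def lft (c : T' ⟶ T) (hc : c ≫ b = b') : pullback s b' ⟶ pullback s b :=
  pullback.lift (pullback.fst s b') (pullback.snd s b' ≫ c) (by rw [Category.assoc, hc, pullback.condition])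

@[reassoc (attr := simp)] theorem lft_fst (c : T' ⟶ T) (hc : c ≫ b = b') :
    lft s c hc ≫ pullback.fst s b = pullback.fst s b' := pullback.lift_fst _ _ _

@[reassoc (attr := simp)] theorem lft_snd (c : T' ⟶ T) (hc : c ≫ b = b') :
    lft s c hc ≫ pullback.snd s b = pullback.snd s b' ≫ c := pullback.lift_snd _ _ _

theorem isPullback_lft (c : T' ⟶ T) (hc : c ≫ b = b') :
    IsPullback (lft s c hc) (pullback.snd s b') (pullback.snd s b) c := by
  subst hc
  refine IsPullback.of_right ?_ (lft_snd s c rfl) (IsPullback.of_hasPullback s b)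
  rw [lft_fst]
  exact IsPullback.of_hasPullback s (c ≫ b)

/-- Pullback of opens of base changes. -/
def pull (c : T' ⟶ T) (hc : c ≫ b = b') (O : (pullback s b).Opens) : (pullback s b').Opens :=
  lft s c hc ⁻¹ᵁ O

theorem pull_pull (c : T' ⟶ T) (hc : c ≫ b = b') (c' : T'' ⟶ T') (hc' : c' ≫ b' = b'')
    (O : (pullback s b).Opens) :
    pull s c' hc' (pull s c hc O) = pull s (c' ≫ c) (by rw [Category.assoc, hc, hc']) O := by
  rw [pull, pull, pull, ← Scheme.Hom.comp_preimage]
  refine congrArg (· ⁻¹ᵁ O) ?_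
  apply pullback.hom_ext <;> simp

theorem pull_congr {c c₁ : T' ⟶ T} (h : c = c₁) (hc : c ≫ b = b') (O : (pullback s b).Opens) :
    pull s c hc O = pull s c₁ (h ▸ hc) O := by subst h; rfl

theorem pull_inj (c : T' ⟶ T) (hc : c ≫ b = b') [Surjective c] {O O' : (pullback s b).Opens}
    (h : pull s c hc O = pull s c hc O') : O = O' := by
  haveI : Surjective (lft s c hc) := MorphismProperty.of_isPullback (P := @Surjective) (isPullback_lft s c hc).flip inferInstance
  refine TopologicalSpace.Opens.ext (Set.ext fun z => ?_)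
  obtain ⟨z', rfl⟩ := (lft s c hc).surjective z
  exact Iff.of_eq (congrArg (z' ∈ ·) h)

theorem pull_inter_le (c : T' ⟶ T) (hc : c ≫ b = b') (Ω : X.Opens) {O : (pullback s b).Opens}
    (h : O ≤ pullback.fst s b ⁻¹ᵁ Ω) : pull s c hc O ≤ pullback.fst s b' ⁻¹ᵁ Ω := by
  intro z hz
  have := h hz
  change pullback.fst s b (lft s c hc z) ∈ Ω at this
  rwa [← Scheme.Hom.comp_apply, lft_fst] at this

theorem isFinite_pull (c : T' ⟶ T) (hc : c ≫ b = b') (O : (pullback s b).Opens)
    [IsFinite (O.ι ≫ pullback.snd s b)] : IsFinite ((pull s c hc O).ι ≫ pullback.snd s b') :=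
  MorphismProperty.of_isPullback (P := @IsFinite)
    ((isPullback_morphismRestrict (lft s c hc) O).paste_vert (isPullback_lft s c hc)) ‹_›

end Pull

variable {A C : Type u} [CommRing A] [CommRing C] [Algebra A C] {X : Scheme.{u}}
  (s : X ⟶ Spec (CommRingCat.of A)) (j : Spec (CommRingCat.of C) ⟶ X) [IsOpenImmersion j]
  (hj : j ≫ s = Spec.map (CommRingCat.ofHom (algebraMap A C)))

/-- The structure morphism of an algebra over the base. -/
abbrev bA (T : Type u) [CommRing T] [Algebra A T] : Spec (CommRingCat.of T) ⟶ Spec (CommRingCat.of A) :=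
  Spec.map (CommRingCat.ofHom (algebraMap A T))

theorem exists_bA_eq {T : Type u} [CommRing T] (b : Spec (CommRingCat.of T) ⟶ Spec (CommRingCat.of A)) :
    ∃ i : Algebra A T, @bA A _ T _ i = b :=
  ⟨(Spec.preimage b).hom.toAlgebra, Spec.map_preimage b⟩

theorem bA_map {T T' : Type u} [CommRing T] [CommRing T'] [Algebra A T] [Algebra A T']
    (φ : T →ₐ[A] T') : Spec.map (CommRingCat.ofHom φ.toRingHom) ≫ bA (A := A) T = bA T' := by
  rw [bA, bA, ← Spec.map_comp, ← CommRingCat.ofHom_comp, show φ.toRingHom.comp (algebraMap A T) = algebraMap A T' from φ.comp_algebraMap]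

theorem exists_algHom_eq {T T' : Type u} [CommRing T] [CommRing T'] [Algebra A T] [Algebra A T']
    (c : Spec (CommRingCat.of T') ⟶ Spec (CommRingCat.of T)) (hc : c ≫ bA (A := A) T = bA T') :
    ∃ φ : T →ₐ[A] T', Spec.map (CommRingCat.ofHom φ.toRingHom) = c := by
  have h : CommRingCat.ofHom (algebraMap A T) ≫ Spec.preimage c = CommRingCat.ofHom (algebraMap A T') := by
    apply Spec.map_injective
    rw [Spec.map_comp, Spec.map_preimage]
    exact hc
  exact ⟨{ toRingHom := (Spec.preimage c).hom, commutes' := fun a => congr(($h).hom a) },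
    Spec.map_preimage c⟩

variable (T : Type u) [CommRing T] [Algebra A T]

theorem inc_w : CommRingCat.ofHom (algebraMap A C) ≫
    CommRingCat.ofHom (Algebra.TensorProduct.includeRight : C →ₐ[A] T ⊗[A] C).toRingHom =
    CommRingCat.ofHom (algebraMap A T) ≫
      CommRingCat.ofHom (Algebra.TensorProduct.includeLeftRingHom : T →+* T ⊗[A] C) :=
  CommRingCat.hom_ext (RingHom.ext fun x => ((Algebra.TensorProduct.includeRight : C →ₐ[A] T ⊗[A] C).commutes x).trans
    ((Algebra.TensorProduct.includeLeft (S := A) : T →ₐ[A] T ⊗[A] C).commutes x).symm)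

/-- The affine piece of the base change. -/
def σ : Spec (CommRingCat.of (T ⊗[A] C)) ⟶ pullback s (bA (A := A) T) :=
  pullback.lift
    (Spec.map (CommRingCat.ofHom (Algebra.TensorProduct.includeRight : C →ₐ[A] T ⊗[A] C).toRingHom) ≫ j)
    (Spec.map (CommRingCat.ofHom (Algebra.TensorProduct.includeLeftRingHom : T →+* T ⊗[A] C)))
    (by rw [Category.assoc, hj, bA, ← Spec.map_comp, ← Spec.map_comp, inc_w])

@[reassoc] theorem σ_fst : σ s j hj T ≫ pullback.fst s (bA T) =
    Spec.map (CommRingCat.ofHom (Algebra.TensorProduct.includeRight : C →ₐ[A] T ⊗[A] C).toRingHom) ≫ j :=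
  pullback.lift_fst _ _ _

@[reassoc] theorem σ_snd : σ s j hj T ≫ pullback.snd s (bA T) =
    Spec.map (CommRingCat.ofHom (Algebra.TensorProduct.includeLeftRingHom : T →+* T ⊗[A] C)) :=
  pullback.lift_snd _ _ _

theorem isPullback_σ : IsPullback
    (Spec.map (CommRingCat.ofHom (Algebra.TensorProduct.includeRight : C →ₐ[A] T ⊗[A] C).toRingHom))
    (σ s j hj T) j (pullback.fst s (bA T)) := by
  refine IsPullback.of_bot ?_ (σ_fst s j hj T).symm (IsPullback.of_hasPullback s (bA T))
  rw [σ_snd, hj]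
  exact (IsPullback.of_iso_pullback ⟨by rw [← Spec.map_comp, ← Spec.map_comp]; exact congrArg Spec.map (inc_w (A := A) (C := C) T).symm⟩
      (pullbackSpecIso A T C).symm (pullbackSpecIso_inv_fst ..) (pullbackSpecIso_inv_snd ..)).flip

instance : IsOpenImmersion (σ s j hj T) :=
  MorphismProperty.of_isPullback (P := @IsOpenImmersion) (isPullback_σ s j hj T) inferInstance

theorem range_σ : Set.range (σ s j hj T) =
    (pullback.fst s (bA T) ⁻¹ᵁ j.opensRange : (pullback s (bA (A := A) T)).Opens) := by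
  ext z
  constructor
  · rintro ⟨y, rfl⟩
    show pullback.fst s (bA T) (σ s j hj T y) ∈ j.opensRange
    rw [← Scheme.Hom.comp_apply, σ_fst, Scheme.Hom.comp_apply]
    exact ⟨_, rfl⟩
  · rintro ⟨x, hx⟩
    obtain ⟨y, hy, -⟩ := Scheme.exists_preimage_of_isPullback (isPullback_σ s j hj T).flip z x hx.symm
    exact ⟨y, hy⟩

variable {T}

theorem σ_lft {T' : Type u} [CommRing T'] [Algebra A T'] (φ : T →ₐ[A] T') :
    Spec.map (CommRingCat.ofHom (bc (C := C) φ).toRingHom) ≫ σ s j hj T =
      σ s j hj T' ≫ lft s (Spec.map (CommRingCat.ofHom φ.toRingHom)) (bA_map φ) := by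
  apply pullback.hom_ext
  · rw [Category.assoc, Category.assoc, lft_fst, σ_fst, σ_fst, ← Spec.map_comp_assoc]
    congr 2
    ext x
    simp [bc]
  · rw [Category.assoc, Category.assoc, lft_snd, σ_snd, σ_snd_assoc, ← Spec.map_comp, ← Spec.map_comp]
    congr 1

theorem preimage_pull {T' : Type u} [CommRing T'] [Algebra A T'] (φ : T →ₐ[A] T')
    {E : T ⊗[A] C} {O : (pullback s (bA (A := A) T)).Opens}
    (hO : σ s j hj T ⁻¹ᵁ O = PrimeSpectrum.basicOpen E) :
    σ s j hj T' ⁻¹ᵁ pull s (Spec.map (CommRingCat.ofHom φ.toRingHom)) (bA_map φ) O =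
      PrimeSpectrum.basicOpen (bc φ E) := by
  rw [pull, ← Scheme.Hom.comp_preimage, ← σ_lft, Scheme.Hom.comp_preimage, hO]
  rfl

theorem eq_of_preimage_eq {O O' : (pullback s (bA (A := A) T)).Opens}
    (hle : O ≤ pullback.fst s (bA T) ⁻¹ᵁ j.opensRange) (hle' : O' ≤ pullback.fst s (bA T) ⁻¹ᵁ j.opensRange)
    (h : σ s j hj T ⁻¹ᵁ O = σ s j hj T ⁻¹ᵁ O') : O = O' := by
  refine TopologicalSpace.Opens.ext (Set.ext fun z => ⟨fun hz => ?_, fun hz => ?_⟩)
  · obtain ⟨y, rfl⟩ : z ∈ Set.range (σ s j hj T) := by rw [range_σ]; exact hle hz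
    exact (h.le : _) hz
  · obtain ⟨y, rfl⟩ : z ∈ Set.range (σ s j hj T) := by rw [range_σ]; exact hle' hz
    exact (h.ge : _) hz

theorem idem_eq {E E' : T ⊗[A] C} (h : IsIdempotentElem E) (h' : IsIdempotentElem E')
    (he : (PrimeSpectrum.basicOpen E : TopologicalSpace.Opens _) = PrimeSpectrum.basicOpen E') : E = E' :=
  PrimeSpectrum.basicOpen_injOn_isIdempotentElem h h' he

/-- The morphism cutting out an idempotent. -/
theorem range_quot {D : Type u} [CommRing D] {E : D} (hE : IsIdempotentElem E) :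
    IsOpenImmersion (Spec.map (CommRingCat.ofHom (Ideal.Quotient.mk (Ideal.span {1 - E})))) ∧
      Set.range (Spec.map (CommRingCat.ofHom (Ideal.Quotient.mk (Ideal.span {1 - E})))) =
        (PrimeSpectrum.basicOpen E : Set (PrimeSpectrum D)) := by
  haveI : IsLocalization.Away E (D ⧸ Ideal.span {1 - E}) :=
    IsLocalization.away_of_isIdempotentElem hE Ideal.mk_ker Ideal.Quotient.mk_surjective
  exact ⟨IsOpenImmersion.of_isLocalization E, PrimeSpectrum.localization_away_comap_range (D ⧸ Ideal.span {1 - E}) E⟩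

theorem exists_comp_eq {E : T ⊗[A] C} (hE : IsIdempotentElem E)
    {O : (pullback s (bA (A := A) T)).Opens} (hle : O ≤ pullback.fst s (bA T) ⁻¹ᵁ j.opensRange)
    (hO : σ s j hj T ⁻¹ᵁ O = PrimeSpectrum.basicOpen E) :
    ∃ e : Spec (CommRingCat.of ((T ⊗[A] C) ⧸ Ideal.span {1 - E})) ≅ O.toScheme,
      e.hom ≫ O.ι ≫ pullback.snd s (bA T) =
        Spec.map (CommRingCat.ofHom (algebraMap T ((T ⊗[A] C) ⧸ Ideal.span {1 - E}))) := by
  obtain ⟨h1, h2⟩ := range_quot hE
  let k := Spec.map (CommRingCat.ofHom (Ideal.Quotient.mk (Ideal.span {1 - E})))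
  haveI := h1
  have hr : Set.range (k ≫ σ s j hj T) = Set.range O.ι := by
    rw [Scheme.Opens.range_ι, Scheme.Hom.comp_base, TopCat.coe_comp, Set.range_comp, h2]
    ext z
    constructor
    · rintro ⟨y, hy, rfl⟩
      exact (hO.ge : _) hy
    · intro hz
      obtain ⟨y, rfl⟩ : z ∈ Set.range (σ s j hj T) := by rw [range_σ]; exact hle hz
      exact ⟨y, (hO.le : _) hz, rfl⟩
  refine ⟨IsOpenImmersion.isoOfRangeEq (k ≫ σ s j hj T) O.ι hr, ?_⟩
  rw [← Category.assoc, IsOpenImmersion.isoOfRangeEq_hom_fac, Category.assoc, σ_snd, ← Spec.map_comp]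
  rfl

theorem exists_idem [IsSeparated s] (O : (pullback s (bA (A := A) T)).Opens)
    [IsFinite (O.ι ≫ pullback.snd s (bA T))] :
    ∃ E, IsIdempotentElem E ∧ σ s j hj T ⁻¹ᵁ O = PrimeSpectrum.basicOpen E := by
  have hc : IsClosed (O : Set ↥(pullback s (bA (A := A) T))) :=
    Groth.L20.Weight.isClosed_of_isFinite (pullback.snd s (bA T)) O
  have h : IsClopen (X := PrimeSpectrum (T ⊗[A] C)) (σ s j hj T ⁻¹ᵁ O).1 :=
    ⟨hc.preimage (σ s j hj T).continuous, (σ s j hj T ⁻¹ᵁ O).isOpen⟩
  obtain ⟨E, hE, hOE⟩ := PrimeSpectrum.isClopen_iff.1 h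
  exact ⟨E, hE, TopologicalSpace.Opens.ext hOE⟩

end Groth.L24.Split
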