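import Groth.Agent.L24.Split.Shift

/-!
# The locus classified by a chart
-/

set_option autoImplicit false
set_option linter.style.haveILetI false
set_option backward.isDefEq.respectTransparency.types false

universe u

open CategoryTheory CategoryTheory.Limits AlgebraicGeometry

noncomputable section

namespace Groth.L24.Split

variable {R U : Scheme.{u}}

/-- An affine scheme over `U` with a universal finite open piece of the base change of `s`. -/
structure FChart (s : R ⟶ U) where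
  /-- The base. -/
  W : Scheme.{u}
  /-- The structure map. -/
  a : W ⟶ U
  /-- The piece. -/
  O : (pullback s a).Opens
  affine : IsAffine W
  finite : IsFinite (O.ι ≫ pullback.snd s a)
  hom_ext : ∀ {T : Scheme.{u}} (b : T ⟶ U) (c c' : T ⟶ W) (hc : c ≫ a = b) (hc' : c' ≫ a = b),
    pull s c hc O = pull s c' hc' O → c = c'
  extend : ∀ {T : Scheme.{u}} (b : T ⟶ U) (O' : (pullback s b).Opens), IsFinite (O'.ι ≫ pullback.snd s b) →
    ∀ {L : Type u} [Field L] (ρ : Spec (CommRingCat.of L) ⟶ T) (ψ : Spec (CommRingCat.of L) ⟶ W)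
      (hψ : ψ ≫ a = ρ ≫ b), pull s ρ rfl O' = pull s ψ hψ O →
      ∃ V : T.Opens, ρ default ∈ V ∧ ∃ (c : V.toScheme ⟶ W) (hc : c ≫ a = V.ι ≫ b),
        pull s c hc O = pull s V.ι rfl O'

variable {s : R ⟶ U}

/-- A point of a base change given by two coordinates. -/
theorem pt_lft {T T' Z : Scheme.{u}} {b : T ⟶ U} {b' : T' ⟶ U} (c : T' ⟶ T) (hc : c ≫ b = b')
    (g : Z ⟶ R) (x : Z ⟶ T') (h : g ≫ s = x ≫ b') :
    pullback.lift g x h ≫ lft s c hc = pullback.lift g (x ≫ c) (by rw [Category.assoc, hc, h]) := by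
  apply pullback.hom_ext
  · rw [Category.assoc, lft_fst]
    exact (pullback.lift_fst _ _ _).trans (pullback.lift_fst _ _ _).symm
  · rw [Category.assoc, lft_snd]
    exact (pullback.lift_snd_assoc _ _ _ _).trans (pullback.lift_snd _ _ _).symm

theorem mem_pull {T T' Z : Scheme.{u}} {b : T ⟶ U} {b' : T' ⟶ U} (c : T' ⟶ T) (hc : c ≫ b = b')
    (g : Z ⟶ R) (x : Z ⟶ T') (h : g ≫ s = x ≫ b') (O : (pullback s b).Opens) (y : Z) :
    pullback.lift g x h y ∈ pull s c hc O ↔
      pullback.lift g (x ≫ c) (by rw [Category.assoc, hc, h]) y ∈ O := by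
  rw [← pt_lft c hc g x h]
  rfl

/-- Opens of a base change are detected on field valued points. -/
theorem opens_ext_pts {T : Scheme.{u}} {b : T ⟶ U} {O O' : (pullback s b).Opens}
    (h : ∀ (K : Type u) [Field K] (g : Spec (CommRingCat.of K) ⟶ R) (x : Spec (CommRingCat.of K) ⟶ T)
      (e : g ≫ s = x ≫ b), pullback.lift g x e default ∈ O ↔ pullback.lift g x e default ∈ O') : O = O' := by
  refine TopologicalSpace.Opens.ext (Set.ext fun z => ?_)
  have h1 := h ((pullback s b).residueField z) ((pullback s b).fromSpecResidueField z ≫ pullback.fst s b)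
    ((pullback s b).fromSpecResidueField z ≫ pullback.snd s b)
    (by rw [Category.assoc, Category.assoc, pullback.condition])
  have h2 : pullback.lift ((pullback s b).fromSpecResidueField z ≫ pullback.fst s b)
      ((pullback s b).fromSpecResidueField z ≫ pullback.snd s b)
      (by rw [Category.assoc, Category.assoc, pullback.condition]) = (pullback s b).fromSpecResidueField z := by
    apply pullback.hom_ext
    · exact pullback.lift_fst _ _ _
    · exact pullback.lift_snd _ _ _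
  rw [h2] at h1
  have h3 : (pullback s b).fromSpecResidueField z default = z := Scheme.fromSpecResidueField_apply z _
  exact (iff_of_eq (congrArg (· ∈ O) h3)).symm.trans (h1.trans (iff_of_eq (congrArg (· ∈ O') h3)))

variable (C : FChart s) {T : Scheme.{u}} (b : T ⟶ U) (O' : (pullback s b).Opens)

/-- The pieces of the classified locus. -/
def Classified (V : T.Opens) : Prop :=
  ∃ (c : V.toScheme ⟶ C.W) (hc : c ≫ C.a = V.ι ≫ b), pull s c hc C.O = pull s V.ι rfl O'

/-- Classified opens glue. -/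
theorem exists_good (hfin : IsFinite (O'.ι ≫ pullback.snd s b)) :
    ∃ V : T.Opens, Classified C b O' V ∧
      ∀ (L : Type u) [Field L] (ρ : Spec (CommRingCat.of L) ⟶ T) (ψ : Spec (CommRingCat.of L) ⟶ C.W)
        (hψ : ψ ≫ C.a = ρ ≫ b), pull s ρ rfl O' = pull s ψ hψ C.O → ρ default ∈ V := by
  let ι := {V : T.Opens // Classified C b O' V}
  let V₀ : T.Opens := ⨆ i : ι, i.1
  refine ⟨V₀, ?_, fun L _ ρ ψ hψ h => ?_⟩
  swap
  · obtain ⟨V, hV, hc⟩ := C.extend b O' hfin ρ ψ hψ h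
    exact TopologicalSpace.Opens.mem_iSup.2 ⟨⟨V, hc⟩, hV⟩
  let Ω : ι → V₀.toScheme.Opens := fun i => V₀.ι ⁻¹ᵁ i.1
  have hΩ : TopologicalSpace.IsOpenCover Ω := by
    refine TopologicalSpace.Opens.ext (Set.eq_univ_of_forall fun x => ?_)
    obtain ⟨i, hi⟩ := TopologicalSpace.Opens.mem_iSup.1 (show V₀.ι x ∈ V₀ from x.2)
    rw [TopologicalSpace.Opens.coe_iSup]
    exact Set.mem_iUnion.2 ⟨i, hi⟩
  let 𝒰 := V₀.toScheme.openCoverOfIsOpenCover Ω hΩ
  choose c hc hcO using fun i : ι => i.2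
  let m : ∀ i, (Ω i).toScheme ⟶ i.1.toScheme := fun i => V₀.ι ∣_ i.1
  let f : ∀ i : ι, (Ω i).toScheme ⟶ C.W := fun i => m i ≫ c i
  have hm : ∀ i, m i ≫ i.1.ι = (Ω i).ι ≫ V₀.ι := fun i => morphismRestrict_ι _ _
  have hfa : ∀ i, f i ≫ C.a = (Ω i).ι ≫ V₀.ι ≫ b := fun i => by
    show (m i ≫ c i) ≫ C.a = _
    rw [Category.assoc, hc, reassoc_of% (hm i)]
  have hfO : ∀ i, pull s (f i) (hfa i) C.O = pull s ((Ω i).ι ≫ V₀.ι) (Category.assoc _ _ _) O' := fun i => by
    have h1 := congrArg (pull s (m i) (b' := (Ω i).ι ≫ V₀.ι ≫ b) (by rw [reassoc_of% (hm i)])) (hcO i)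
    rw [pull_pull, pull_pull] at h1
    exact h1.trans (pull_congr s (hm i) _ _)
  have hglue : ∀ x y : ι, pullback.fst (Ω x).ι (Ω y).ι ≫ f x = pullback.snd (Ω x).ι (Ω y).ι ≫ f y := by
    intro x y
    refine C.hom_ext (pullback.fst (Ω x).ι (Ω y).ι ≫ (Ω x).ι ≫ V₀.ι ≫ b) _ _
      (by rw [Category.assoc, hfa])
      (by rw [Category.assoc, hfa, pullback.condition_assoc]) ?_
    rw [← pull_pull s (f x) (hfa x) (pullback.fst (Ω x).ι (Ω y).ι) rfl, hfO,
      ← pull_pull s (f y) (hfa y) (pullback.snd (Ω x).ι (Ω y).ι) (by rw [pullback.condition_assoc]), hfO,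
      pull_pull, pull_pull]
    exact pull_congr s (pullback.condition_assoc _) _ _
  let c₀ := 𝒰.glueMorphisms f hglue
  have hι : ∀ i : ι, (Ω i).ι ≫ c₀ = f i := fun i => 𝒰.ι_glueMorphisms f hglue i
  have hc₀ : c₀ ≫ C.a = V₀.ι ≫ b := 𝒰.hom_ext _ _ fun i => by
    show (Ω i).ι ≫ c₀ ≫ C.a = (Ω i).ι ≫ V₀.ι ≫ b
    rw [reassoc_of% (hι i), hfa]
  refine ⟨c₀, hc₀, TopologicalSpace.Opens.ext (Set.ext fun z => ?_)⟩
  obtain ⟨i, x, hx⟩ := 𝒰.exists_eq (pullback.snd s (V₀.ι ≫ b) z)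
  obtain ⟨z', hz', -⟩ := Scheme.exists_preimage_of_isPullback
    (isPullback_lft s (Ω i).ι (rfl : (Ω i).ι ≫ V₀.ι ≫ b = (Ω i).ι ≫ V₀.ι ≫ b)) z x hx.symm
  rw [← hz']
  have h1 : pull s (Ω i).ι rfl (pull s c₀ hc₀ C.O) = pull s (Ω i).ι rfl (pull s V₀.ι rfl O') := by
    rw [pull_pull, pull_pull, pull_congr s (hι i), hfO]
  exact Iff.of_eq (congrArg (z' ∈ ·) h1)

end Groth.L24.Split
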