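import Groth.Agent.L24.Split.Along
import Groth.Agent.L24.GrpdField.Closed
import Groth.Agent.L24.Quot.Restrict
import Mathlib.AlgebraicGeometry.Morphisms.Etale
import Mathlib.AlgebraicGeometry.Morphisms.FlatMono

/-!
# Etale subgroupoids of a restriction
-/

set_option autoImplicit false
set_option linter.style.haveILetI false
set_option backward.isDefEq.respectTransparency.types false

universe u

open CategoryTheory CategoryTheory.Limits AlgebraicGeometry
open L02.Grpd

noncomputable section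

namespace Groth.L24.Split

variable {S : Scheme.{u}} {G H : Grpd.GroupoidScheme S}

/-- Composition of morphisms of groupoids. -/
def homComp {H' : Grpd.GroupoidScheme S} (f : Grpd.GroupoidScheme.Hom H' H) (g : Grpd.GroupoidScheme.Hom H G) :
    Grpd.GroupoidScheme.Hom H' G where
  fU := f.fU ≫ g.fU
  fR := f.fR ≫ g.fR
  fU_over := by rw [Category.assoc, g.fU_over, f.fU_over]
  comm_s := by rw [Category.assoc, g.comm_s, reassoc_of% f.comm_s]
  comm_t := by rw [Category.assoc, g.comm_t, reassoc_of% f.comm_t]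
  comm_c α β h := by
    rw [← Category.assoc, f.comm_c]
    exact (g.comm_c _ _ _).trans (mul_congr G (Category.assoc _ _ _) (Category.assoc _ _ _) _ _)

/-- The inclusion of an invariant open. -/
def homRestrict (H : Grpd.GroupoidScheme S) (W : H.U.Opens) (hW : H.s ⁻¹ᵁ W = H.t ⁻¹ᵁ W) :
    Grpd.GroupoidScheme.Hom (Groth.Agent.L24.Quot.restrict H W hW) H where
  fU := W.ι
  fR := (H.s ⁻¹ᵁ W).ι
  fU_over := rfl
  comm_s := (Groth.Agent.L24.Quot.sW_ι H W).symm
  comm_t := (Groth.Agent.L24.Quot.tW_ι H W hW).symm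
  comm_c := Groth.Agent.L24.Quot.lift_cW_ι H W hW

/-- An etale separated morphism of groupoids is an open subgroupoid of the restriction. -/
theorem exists_sub (ψ : Grpd.GroupoidScheme.Hom H G) [Etale ψ.fU] [Etale ψ.fR]
    (hext : ∀ {T : Scheme.{u}} (α β : T ⟶ H.R), α ≫ ψ.fR = β ≫ ψ.fR → α ≫ H.s = β ≫ H.s → α = β) :
    ∃ ιP : H.R ⟶ (Along.groupoid G ψ.fU).R, IsOpenImmersion ιP ∧
      ιP ≫ (Along.hom G ψ.fU).fR = ψ.fR ∧ ιP ≫ (Along.groupoid G ψ.fU).s = H.s ∧
      ιP ≫ (Along.groupoid G ψ.fU).t = H.t ∧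
      H.e ≫ ιP = (Along.groupoid G ψ.fU).e ∧ H.i ≫ ιP = ιP ≫ (Along.groupoid G ψ.fU).i ∧
      ∃ cP : pullback (ιP ≫ (Along.groupoid G ψ.fU).s) (ιP ≫ (Along.groupoid G ψ.fU).t) ⟶ H.R,
        cP ≫ ιP = pullback.map (ιP ≫ (Along.groupoid G ψ.fU).s) (ιP ≫ (Along.groupoid G ψ.fU).t)
          (Along.groupoid G ψ.fU).s (Along.groupoid G ψ.fU).t ιP ιP (𝟙 (Along.groupoid G ψ.fU).U)
            (Category.comp_id _) (Category.comp_id _) ≫ (Along.groupoid G ψ.fU).c := by
  let a := ψ.fU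
  let ι : H.R ⟶ Along.R' G a := Along.mk G a ψ.fR H.t H.s ψ.comm_t ψ.comm_s
  have h₁ : ι ≫ Along.φR G a = ψ.fR := Along.mk_φR G a _ _ _ _ _
  have h₂ : ι ≫ Along.t' G a = H.t := Along.mk_t G a _ _ _ _ _
  have h₃ : ι ≫ Along.s' G a = H.s := Along.mk_s G a _ _ _ _ _
  haveI : Mono ι := ⟨fun α β h => hext α β (by rw [← h₁, reassoc_of% h]) (by rw [← h₃, reassoc_of% h])⟩
  haveI : Etale (Along.φR G a) := MorphismProperty.pullback_fst (P := @Etale) _ _
    (MorphismProperty.pullbackMap (P := @Etale) ‹Etale ψ.fU› ‹Etale ψ.fU› rfl rfl)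
  haveI : Etale ι := by
    haveI : Etale (ι ≫ Along.φR G a) := by rw [h₁]; infer_instance
    exact Etale.of_comp ι (Along.φR G a)
  refine ⟨ι, IsOpenImmersion.of_flat_of_mono ι, h₁, h₃, h₂, ?_, ?_, ?_⟩
  · show H.e ≫ ι = Along.mk G a (a ≫ G.e) (𝟙 H.U) (𝟙 H.U) (by simp [G.e_t]) (by simp [G.e_s])
    refine Along.ext G a ?_ ?_ ?_
    · rw [Category.assoc, h₁, Along.mk_φR]
      exact Groth.L24.GrpdField.e_fR ψ
    · rw [Category.assoc, h₂, Along.mk_t, H.e_t]
    · rw [Category.assoc, h₃, Along.mk_s, H.e_s]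
  · show H.i ≫ ι = ι ≫ Along.mk G a (Along.φR G a ≫ G.i) (Along.s' G a) (Along.t' G a)
      (by rw [inv_t, Along.φR_s]) (by rw [inv_s, Along.φR_t])
    refine Along.ext G a ?_ ?_ ?_
    · rw [Category.assoc, Category.assoc, h₁, Along.mk_φR, reassoc_of% h₁]
      exact Groth.L24.GrpdField.i_fR ψ
    · rw [Category.assoc, Category.assoc, h₂, Along.mk_t, h₃, H.i_t]
    · rw [Category.assoc, Category.assoc, h₃, Along.mk_s, h₂, H.i_s]
  · have hpq : pullback.fst (ι ≫ Along.s' G a) (ι ≫ Along.t' G a) ≫ H.s =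
        pullback.snd (ι ≫ Along.s' G a) (ι ≫ Along.t' G a) ≫ H.t := by
      have := pullback.condition (f := ι ≫ Along.s' G a) (g := ι ≫ Along.t' G a)
      simpa only [h₂, h₃] using this
    refine ⟨mul H _ _ hpq, ?_⟩
    have hh : (pullback.fst (ι ≫ Along.s' G a) (ι ≫ Along.t' G a) ≫ ι) ≫ Along.s' G a =
        (pullback.snd (ι ≫ Along.s' G a) (ι ≫ Along.t' G a) ≫ ι) ≫ Along.t' G a := by
      rw [Category.assoc, Category.assoc, pullback.condition]
    show mul H _ _ hpq ≫ ι = pullback.map _ _ (Along.s' G a) (Along.t' G a) ι ι (𝟙 _) _ _ ≫ Along.c' G a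
    have hm : pullback.map (ι ≫ Along.s' G a) (ι ≫ Along.t' G a) (Along.s' G a) (Along.t' G a) ι ι (𝟙 _)
        (Category.comp_id _) (Category.comp_id _) = pullback.lift _ _ hh := by
      apply pullback.hom_ext <;> simp [pullback.map]
    rw [hm]
    refine Along.ext G a ?_ ?_ ?_
    · rw [Along.lift_c'_φR, Category.assoc, h₁, Groth.L24.GrpdField.fR_mul ψ]
      exact mul_congr G (by rw [Category.assoc, h₁]) (by rw [Category.assoc, h₁]) _ _
    · refine ((Category.assoc _ _ _).trans (congrArg (_ ≫ ·) h₂)).trans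
        ((mul_t H _ _ hpq).trans ?_)
      refine Eq.trans ?_ (Along.lift_c'_t G a _ _ hh).symm
      exact ((Category.assoc _ _ _).trans (congrArg (_ ≫ ·) h₂)).symm
    · refine ((Category.assoc _ _ _).trans (congrArg (_ ≫ ·) h₃)).trans
        ((mul_s H _ _ hpq).trans ?_)
      refine Eq.trans ?_ (Along.lift_c'_s G a _ _ hh).symm
      exact ((Category.assoc _ _ _).trans (congrArg (_ ≫ ·) h₃)).symm

end Groth.L24.Split
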