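import Groth.Agent.L24.Split.Core
import Groth.Agent.L24.Split.Sub
import Mathlib.AlgebraicGeometry.Morphisms.FlatMono

/-!
# Etale neighbourhoods with a finite subgroupoid through prescribed arrows
-/

set_option autoImplicit false
set_option linter.style.haveILetI false
set_option backward.isDefEq.respectTransparency.types false

universe u

open CategoryTheory CategoryTheory.Limits AlgebraicGeometry
open L02.Grpd

noncomputable section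

namespace Groth.L24.Split

variable {S : Scheme.{u}} {G : Grpd.GroupoidScheme S}

theorem ext_sub {C : FChart G.s} {W₂ : C.W.Opens} (D : Tgt C W₂) (W₃ : W₂.toScheme.Opens)
    (hinv : sH C W₂ ⁻¹ᵁ W₃ = D.τ ⁻¹ᵁ W₃) {T : Scheme.{u}}
    (α β : T ⟶ (sH C W₂ ⁻¹ᵁ W₃).toScheme)
    (h : α ≫ (sH C W₂ ⁻¹ᵁ W₃).ι ≫ zH C W₂ = β ≫ (sH C W₂ ⁻¹ᵁ W₃).ι ≫ zH C W₂)
    (h' : α ≫ Groth.Agent.L24.Quot.sW D.groupoid W₃ = β ≫ Groth.Agent.L24.Quot.sW D.groupoid W₃) : α = β := by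
  refine (cancel_mono (sH C W₂ ⁻¹ᵁ W₃).ι).1 (Tgt.ext (by rw [Category.assoc, Category.assoc, h]) ?_)
  rw [Category.assoc, Category.assoc, ← morphismRestrict_ι]
  exact (Category.assoc _ _ _).symm.trans ((congrArg (· ≫ W₃.ι) h').trans (Category.assoc _ _ _))

theorem exists_preimage {C : FChart G.s} {W₂ : C.W.Opens} (D : Tgt C W₂) (W₃ : W₂.toScheme.Opens)
    (hinv : sH C W₂ ⁻¹ᵁ W₃ = D.τ ⁻¹ᵁ W₃) {u : G.U} {F : Set G.R}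
    {w : W₃.toScheme} (hw : C.a (W₂.ι (W₃.ι w)) = u)
    (hbij : Function.Bijective (C.a.residueFieldMap (W₂.ι (W₃.ι w))))
    (hfix : ∀ y : (pp C ⁻¹ᵁ W₂).toScheme,
      pp C ((pp C ⁻¹ᵁ W₂).ι y) = W₂.ι (W₃.ι w) → W₂.ι (D.τ y) = W₂.ι (W₃.ι w))
    (hchar : ∀ {K : Type u} [Field K] (x : Spec (CommRingCat.of K) ⟶ C.W) (b : Spec (CommRingCat.of K) ⟶ G.U)
      (hx : x ≫ C.a = b), x default = W₂.ι (W₃.ι w) → ∀ z, z ∈ pull G.s x hx C.O ↔ pullback.fst G.s b z ∈ F)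
    (ιP : (sH C W₂ ⁻¹ᵁ W₃).toScheme ⟶ Along.R' G (W₃.ι ≫ W₂.ι ≫ C.a))
    (hP₁ : ιP ≫ Along.φR G _ = (sH C W₂ ⁻¹ᵁ W₃).ι ≫ zH C W₂)
    (hP₂ : ιP ≫ Along.t' G _ = Groth.Agent.L24.Quot.tW D.groupoid W₃ hinv)
    (hP₃ : ιP ≫ Along.s' G _ = Groth.Agent.L24.Quot.sW D.groupoid W₃)
    (r' : ↥(Along.R' G (W₃.ι ≫ W₂.ι ≫ C.a))) (hs' : Along.s' G (W₃.ι ≫ W₂.ι ≫ C.a) r' = w)
    (ht' : Along.t' G (W₃.ι ≫ W₂.ι ≫ C.a) r' = w) (hr' : Along.φR G (W₃.ι ≫ W₂.ι ≫ C.a) r' ∈ F) :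
    ∃ p, ιP p = r' := by
  have hsι : (ιP ≫ Along.s' G (W₃.ι ≫ W₂.ι ≫ C.a)) ≫ W₃.ι = (sH C W₂ ⁻¹ᵁ W₃).ι ≫ sH C W₂ := by
    rw [hP₃]; exact Groth.Agent.L24.Quot.sW_ι D.groupoid W₃
  have htι : (ιP ≫ Along.t' G (W₃.ι ≫ W₂.ι ≫ C.a)) ≫ W₃.ι = (sH C W₂ ⁻¹ᵁ W₃).ι ≫ D.τ := by
    rw [hP₂]; exact Groth.Agent.L24.Quot.tW_ι D.groupoid W₃ hinv
  obtain ⟨L, _, k', rfl⟩ := exists_fieldPt r'
  let g := k' ≫ Along.φR G (W₃.ι ≫ W₂.ι ≫ C.a)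
  let y₁ := k' ≫ Along.t' G (W₃.ι ≫ W₂.ι ≫ C.a)
  let y₂ := k' ≫ Along.s' G (W₃.ι ≫ W₂.ι ≫ C.a)
  have hy₁ : y₁ default = w := by rw [Scheme.Hom.comp_apply]; exact ht'
  have hy₂ : y₂ default = w := by rw [Scheme.Hom.comp_apply]; exact hs'
  have hgF : g default ∈ F := by rw [Scheme.Hom.comp_apply]; exact hr'
  let x₁ := y₁ ≫ W₃.ι ≫ W₂.ι
  let x₂ := y₂ ≫ W₃.ι ≫ W₂.ι
  have hgs : g ≫ G.s = x₂ ≫ C.a := (Along.φR_s' G _ k').trans (by simp only [x₂, y₂, Category.assoc])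
  have hgt : g ≫ G.t = x₁ ≫ C.a := (Along.φR_t' G _ k').trans (by simp only [x₁, y₁, Category.assoc])
  have hx₁ : x₁ default = W₂.ι (W₃.ι w) := by simp only [x₁, Scheme.Hom.comp_apply, hy₁]
  have hx₂ : x₂ default = W₂.ι (W₃.ι w) := by simp only [x₂, Scheme.Hom.comp_apply, hy₂]
  have hmem : ∀ p, pullback.lift g x₂ hgs p ∈ C.O := by
    intro p
    have h1 := mem_pull (s := G.s) x₂ rfl g (𝟙 _) (by rw [Category.id_comp, hgs]) C.O p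
    rw [hchar x₂ (x₂ ≫ C.a) rfl hx₂, ← Scheme.Hom.comp_apply, pullback.lift_fst] at h1
    exact (mem_congr rfl (Category.id_comp _)).1 (h1.1 (by rw [pt_eq g p default]; exact hgF))
  obtain ⟨k₀, hk₀z, hk₀s⟩ := Tgt.exists_arrow (C := C) (W₂ := W₂) g (y₂ ≫ W₃.ι)
    (hgs.trans (by simp only [x₂, Category.assoc]))
    fun p => (mem_congr rfl (by simp only [x₂, Category.assoc])).1 (hmem p)
  let k₁ : Spec (CommRingCat.of L) ⟶ (sH C W₂ ⁻¹ᵁ W₃).toScheme := IsOpenImmersion.lift (sH C W₂ ⁻¹ᵁ W₃).ι k₀ (by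
    rw [Scheme.Opens.range_ι]
    rintro _ ⟨p, rfl⟩
    show sH C W₂ (k₀ p) ∈ W₃
    rw [← Scheme.Hom.comp_apply, hk₀s, Scheme.Hom.comp_apply]
    exact (y₂ p).2)
  have hk₁ : k₁ ≫ (sH C W₂ ⁻¹ᵁ W₃).ι = k₀ := IsOpenImmersion.lift_fac _ _ _
  have e₂ : k₁ ≫ ιP ≫ Along.s' G (W₃.ι ≫ W₂.ι ≫ C.a) = y₂ := by
    rw [← cancel_mono W₃.ι, Category.assoc, hsι, reassoc_of% hk₁, hk₀s]
  have eg : k₁ ≫ ιP ≫ Along.φR G (W₃.ι ≫ W₂.ι ≫ C.a) = g := by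
    rw [hP₁, reassoc_of% hk₁, hk₀z]
  have e₁ : k₁ ≫ ιP ≫ Along.t' G (W₃.ι ≫ W₂.ι ≫ C.a) = y₁ := by
    refine (cancel_mono (W₃.ι ≫ W₂.ι)).1 (eq_of_bijective C.a hbij ?_ hx₁ ?_)
    · rw [← Category.assoc, Category.assoc k₁, htι, reassoc_of% hk₁]
      simp only [Scheme.Hom.comp_apply]
      refine hfix _ ?_
      rw [← Scheme.Hom.comp_apply (pp C ⁻¹ᵁ W₂).ι, ← sH_ι, Scheme.Hom.comp_apply, ← Scheme.Hom.comp_apply k₀,
        hk₀s, Scheme.Hom.comp_apply, hy₂]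
    · have h3 : (k₁ ≫ ιP ≫ Along.φR G (W₃.ι ≫ W₂.ι ≫ C.a)) ≫ G.t = g ≫ G.t := by rw [eg]
      rw [hgt] at h3
      simp only [Category.assoc, Along.φR_t] at h3
      simpa only [x₁, Category.assoc] using h3
  refine ⟨k₁ default, ?_⟩
  rw [← Scheme.Hom.comp_apply]
  refine congrArg (fun m : _ ⟶ Along.R' G _ => m default) (Along.ext G _ ?_ ?_ ?_)
  · rw [Category.assoc, eg]
  · rw [Category.assoc, e₁]
  · rw [Category.assoc, e₂]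

/-- A finite flat subgroupoid of an etale restriction through the arrows of a finite set. -/
theorem exists_split [IsAffine G.U] [IsSeparated G.s] [Flat G.s] [LocallyOfFinitePresentation G.s]
    (u : G.U) {F : Set G.R} (hF : F.Finite) (hFs : ∀ x ∈ F, G.s x = u) (hFt : ∀ x ∈ F, G.t x = u)
    (hqf : ∀ x ∈ F, G.s.QuasiFiniteAt x) (hFe : G.e u ∈ F)
    (hmul : ∀ {K : Type u} [Field K] (g z : Spec (CommRingCat.of K) ⟶ G.R) (h : g ≫ G.s = z ≫ G.t),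
      z default ∈ F → (g default ∈ F ↔ mul G g z h default ∈ F)) :
    ∃ (G' : Grpd.GroupoidScheme S) (φ : Grpd.GroupoidScheme.Hom G' G) (u' : ↥G'.U),
      IsAffine G'.U ∧ Etale φ.fU ∧ φ.fU u' = u ∧ IsIso (φ.fU.residueFieldMap u') ∧
      IsPullback φ.fR G'.j G.j
        (pullback.map G'.pU G'.pU G.pU G.pU φ.fU φ.fU (𝟙 S)
          ((Category.comp_id _).trans φ.fU_over.symm) ((Category.comp_id _).trans φ.fU_over.symm)) ∧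
      ∃ (P : Scheme.{u}) (ιP : P ⟶ G'.R), IsOpenImmersion ιP ∧
        (∃ eP : G'.U ⟶ P, eP ≫ ιP = G'.e) ∧ (∃ iP : P ⟶ P, iP ≫ ιP = ιP ≫ G'.i) ∧
        (∃ cP : pullback (ιP ≫ G'.s) (ιP ≫ G'.t) ⟶ P,
          cP ≫ ιP = pullback.map (ιP ≫ G'.s) (ιP ≫ G'.t) G'.s G'.t ιP ιP (𝟙 G'.U)
            (Category.comp_id _) (Category.comp_id _) ≫ G'.c) ∧
        IsFinite (ιP ≫ G'.s) ∧ IsFinite (ιP ≫ G'.t) ∧
        ∀ r' : ↥G'.R, G'.s r' = u' → G'.t r' = u' → φ.fR r' ∈ F → ∃ p : ↥P, ιP p = r' := by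
  obtain ⟨⟨C, W₂, D, W₃, hinv, hW₃, w, hw, hbij, het, hetz, hfins, hfint, hfix, hchar⟩⟩ :=
    exists_core u hF hFs hFt hqf hFe hmul
  let a' : W₃.toScheme ⟶ G.U := W₃.ι ≫ W₂.ι ≫ C.a
  haveI : Etale a' := het
  have hu' : a' w = u := by simp only [a', Scheme.Hom.comp_apply]; exact hw
  have hbij' : Function.Bijective (a'.residueFieldMap w) := by
    haveI : IsIso (C.a.residueFieldMap ((W₃.ι ≫ W₂.ι) w)) := (ConcreteCategory.isIso_iff_bijective _).2 hbij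
    have e : a' = (W₃.ι ≫ W₂.ι) ≫ C.a := (Category.assoc _ _ _).symm
    haveI : IsIso (Scheme.Hom.residueFieldMap (W₃.ι ≫ W₂.ι) w) := inferInstance
    rw [e, Scheme.residueFieldMap_comp]
    exact (ConcreteCategory.bijective_of_isIso (Scheme.Hom.residueFieldMap (W₃.ι ≫ W₂.ι) w)).comp hbij
  let ψ : Grpd.GroupoidScheme.Hom (Groth.Agent.L24.Quot.restrict D.groupoid W₃ hinv) G :=
    homComp (homRestrict D.groupoid W₃ hinv) D.hom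
  haveI : Etale ψ.fU := het
  haveI : Etale ψ.fR := hetz
  obtain ⟨ιP, hopen, hP₁, hP₃, hP₂, heP, hiP, cP, hcP⟩ := exists_sub ψ fun α β h h' => ext_sub D W₃ hinv α β h h'
  refine ⟨Along.groupoid G ψ.fU, Along.hom G ψ.fU, w, hW₃, ‹Etale ψ.fU›, hu',
    (ConcreteCategory.isIso_iff_bijective _).2 hbij', Along.isPullback G ψ.fU,
    _, ιP, hopen, ⟨_, heP⟩, ⟨_, hiP⟩, ⟨cP, hcP⟩, ?_, ?_, ?_⟩
  · rw [hP₃]
    exact Groth.Agent.L24.Quot.restrict_s_prop _ _ _ @IsFinite D.isFinite_s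
  · rw [hP₂]
    refine Groth.Agent.L24.Quot.restrict_t_prop _ _ _ @IsFinite ?_
    show IsFinite D.τ
    haveI := D.isFinite_s
    rw [D.τ_eq]
    infer_instance
  · exact exists_preimage D W₃ hinv hw hbij hfix hchar ιP hP₁ hP₂ hP₃

end Groth.L24.Split
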