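import Groth.Agent.L24.Split.Geo

/-!
# The chart of finite open pieces, scheme version
-/

set_option autoImplicit false
set_option linter.style.haveILetI false
set_option backward.isDefEq.respectTransparency.types false

universe u

open CategoryTheory CategoryTheory.Limits AlgebraicGeometry TensorProduct

noncomputable section

namespace Groth.L24.Split

variable {A C : Type u} [CommRing A] [CommRing C] [Algebra A C] {X : Scheme.{u}}
  (s : X ⟶ Spec (CommRingCat.of A)) (j : Spec (CommRingCat.of C) ⟶ X) [IsOpenImmersion j]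
  (hj : j ≫ s = Spec.map (CommRingCat.ofHom (algebraMap A C))) [IsSeparated s] [Flat s]
  [LocallyOfFinitePresentation s]

include hj in
theorem projective_quot {T : Type u} [CommRing T] [Algebra A T] {E : T ⊗[A] C} (hE : IsIdempotentElem E)
    {O : (pullback s (bA (A := A) T)).Opens} [IsFinite (O.ι ≫ pullback.snd s (bA T))]
    (hle : O ≤ pullback.fst s (bA T) ⁻¹ᵁ j.opensRange)
    (hO : σ s j hj T ⁻¹ᵁ O = PrimeSpectrum.basicOpen E) :
    Module.Finite T ((T ⊗[A] C) ⧸ Ideal.span {1 - E}) ∧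
      Module.Projective T ((T ⊗[A] C) ⧸ Ideal.span {1 - E}) := by
  obtain ⟨e, he⟩ := exists_comp_eq s j hj hE hle hO
  have h1 : IsFinite (e.hom ≫ O.ι ≫ pullback.snd s (bA (A := A) T)) := inferInstance
  have h2 : Flat (e.hom ≫ O.ι ≫ pullback.snd s (bA (A := A) T)) := inferInstance
  have h3 : LocallyOfFinitePresentation (e.hom ≫ O.ι ≫ pullback.snd s (bA (A := A) T)) := inferInstance
  rw [he] at h1 h2 h3
  haveI hf : Module.Finite T ((T ⊗[A] C) ⧸ Ideal.span {1 - E}) :=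
    RingHom.finite_algebraMap.1 ((IsFinite.SpecMap_iff _).1 h1)
  haveI : Module.Flat T ((T ⊗[A] C) ⧸ Ideal.span {1 - E}) :=
    RingHom.flat_algebraMap_iff.1 ((HasRingHomProperty.Spec_iff (P := @Flat)).1 h2)
  haveI : Algebra.FinitePresentation T ((T ⊗[A] C) ⧸ Ideal.span {1 - E}) :=
    RingHom.finitePresentation_algebraMap.1 ((HasRingHomProperty.Spec_iff (P := @LocallyOfFinitePresentation)).1 h3)
  haveI := Module.FinitePresentation.of_finite_of_finitePresentation T ((T ⊗[A] C) ⧸ Ideal.span {1 - E})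
  exact ⟨hf, Module.Flat.projective_of_finitePresentation⟩

/-- The images of a finite set in a fibre give a basis. -/
theorem exists_isBasis {κ : Type u} [Field κ] [Algebra A κ] {E : κ ⊗[A] C} (hE : IsIdempotentElem E)
    [Module.Finite κ ((κ ⊗[A] C) ⧸ Ideal.span {1 - E})] :
    ∃ (n : ℕ) (c : Fin n → C), IsBasis c κ E := by
  let M := (κ ⊗[A] C) ⧸ Ideal.span {1 - E}
  let π : κ ⊗[A] C →ₗ[κ] M := (Ideal.Quotient.mkₐ κ (Ideal.span {1 - E})).toLinearMap
  let v : C → M := fun x => π ((1 : κ) ⊗ₜ x)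
  have hspan : ⊤ ≤ Submodule.span κ (Set.range v) := by
    rintro m -
    obtain ⟨z, rfl⟩ : ∃ z, π z = m := Ideal.Quotient.mk_surjective m
    induction z using TensorProduct.induction_on with
    | zero => simp
    | tmul t x =>
      rw [show t ⊗ₜ[A] x = t • ((1 : κ) ⊗ₜ[A] x) by simp [TensorProduct.smul_tmul'], map_smul]
      exact Submodule.smul_mem _ t (Submodule.subset_span ⟨x, rfl⟩)
    | add x y hx hy => rw [map_add]; exact add_mem hx hy
  obtain ⟨b, hb, hbs, hbi⟩ := exists_linearIndependent κ (Set.range v)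
  haveI : Finite b := hbi.finite
  let B : Module.Basis b κ M := Module.Basis.mk hbi (by
    rw [Subtype.range_coe, hbs]
    exact hspan)
  obtain ⟨n, ⟨e⟩⟩ := Finite.exists_equiv_fin b
  let B' := B.reindex e
  have hv : ∀ i, ∃ x, v x = B' i := fun i => hb (by simp [B', B, Module.Basis.mk_apply])
  choose c hc using hv
  refine ⟨n, c, ?_⟩
  have hπ : ∀ z, π z = 0 ↔ E * z = 0 := fun z =>
    (Ideal.Quotient.eq_zero_iff_mem).trans (mem_span_one_sub_iff hE)
  have hl : ∀ a, π (comb c κ a) = B'.equivFun.symm a := fun a => by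
    rw [Module.Basis.equivFun_symm_apply, comb, Fintype.linearCombination_apply, map_sum]
    exact Finset.sum_congr rfl fun i _ => by rw [map_smul, ← hc i]
  refine ⟨fun d => ⟨B'.equivFun (π d), ?_⟩, fun a ha => ?_⟩
  · rw [← sub_eq_zero, ← mul_sub, ← hπ, map_sub, hl, LinearEquiv.symm_apply_apply, sub_self]
  · rw [← hπ, hl] at ha
    exact B'.equivFun.symm.injective (by rw [ha, map_zero])

section

variable {H : Type u} [CommRing H] [Algebra A H] {E : H ⊗[A] C} (hE : IsIdempotentElem E)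
  {O : (pullback s (bA (A := A) H)).Opens} (hO : σ s j hj H ⁻¹ᵁ O = PrimeSpectrum.basicOpen E)

include hj hE hO in
/-- Morphisms to the chart are determined by the pulled back piece. -/
theorem chart_hom_ext
    (huniq : ∀ {T : Type u} [CommRing T] [Algebra A T] (φ ψ : H →ₐ[A] T), bc φ E = bc ψ E → φ = ψ)
    {T : Scheme.{u}} (b : T ⟶ Spec (CommRingCat.of A)) (c c' : T ⟶ Spec (CommRingCat.of H))
    (hc : c ≫ bA H = b) (hc' : c' ≫ bA H = b) (h : pull s c hc O = pull s c' hc' O) : c = c' := by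
  have aff : ∀ {R : Type u} [CommRing R] (b : Spec (CommRingCat.of R) ⟶ Spec (CommRingCat.of A))
      (c c' : Spec (CommRingCat.of R) ⟶ Spec (CommRingCat.of H)) (hc : c ≫ bA H = b) (hc' : c' ≫ bA H = b),
      pull s c hc O = pull s c' hc' O → c = c' := by
    intro R _ b c c' hc hc' h
    obtain ⟨_, rfl⟩ := exists_bA_eq b
    obtain ⟨φ, rfl⟩ := exists_algHom_eq c hc
    obtain ⟨ψ, rfl⟩ := exists_algHom_eq c' hc'
    suffices φ = ψ by rw [this]
    refine huniq φ ψ (idem_eq (hE.map _) (hE.map _) ?_)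
    rw [← preimage_pull s j hj φ hO, ← preimage_pull s j hj ψ hO, h]
  refine T.affineOpenCover.openCover.hom_ext _ _ fun i => ?_
  have h' := congrArg (pull s (T.affineOpenCover.f i) rfl) h
  rw [pull_pull, pull_pull] at h'
  exact aff _ _ _ _ _ h'

set_option maxHeartbeats 1000000 in
include hj hE hO in
/-- Pieces agreeing with the chart at a point are classified near it. -/
theorem chart_exists {n : ℕ} {c : Fin n → C} (hB : IsBasis c H E)
    (hle : O ≤ pullback.fst s (bA H) ⁻¹ᵁ j.opensRange)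
    (hex : ∀ {T : Type u} [CommRing T] [Algebra A T] (E' : T ⊗[A] C), IsIdempotentElem E' → IsBasis c T E' →
      ∀ {L : Type u} [Field L] [Algebra A L] (ρ : T →ₐ[A] L) (ψ : H →ₐ[A] L), bc ψ E = bc ρ E' →
        ∃ g : T, ρ g ≠ 0 ∧ ∀ {T' : Type u} [CommRing T'] [Algebra A T'] (φ : T →ₐ[A] T'),
          IsUnit (φ g) → ∃ χ : H →ₐ[A] T', bc χ E = bc φ E')
    {T : Scheme.{u}} (b : T ⟶ Spec (CommRingCat.of A)) (O' : (pullback s b).Opens)
    (hfin' : IsFinite (O'.ι ≫ pullback.snd s b)) {L : Type u} [Field L] (ρ : Spec (CommRingCat.of L) ⟶ T)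
    (ψ : Spec (CommRingCat.of L) ⟶ Spec (CommRingCat.of H)) (hψ : ψ ≫ bA H = ρ ≫ b)
    (h : pull s ρ rfl O' = pull s ψ hψ O) :
    ∃ V : T.Opens, ρ default ∈ V ∧ ∃ (c : V.toScheme ⟶ Spec (CommRingCat.of H)) (hc : c ≫ bA H = V.ι ≫ b),
      pull s c hc O = pull s V.ι rfl O' := by
  haveI := hfin'
  -- pieces over the point land in the affine piece
  have hcl : IsClosed ((O' : Set ↥(pullback s b)) ∩ (pullback.fst s b ⁻¹ᵁ j.opensRange : (pullback s b).Opens)ᶜ) :=
    (Groth.L20.Weight.isClosed_of_isFinite (pullback.snd s b) O').inter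
      (pullback.fst s b ⁻¹ᵁ j.opensRange).isOpen.isClosed_compl
  have hK : IsClosed ((O'.ι ≫ pullback.snd s b) '' (O'.ι ⁻¹' ((O' : Set ↥(pullback s b)) ∩ (pullback.fst s b ⁻¹ᵁ j.opensRange : (pullback s b).Opens)ᶜ))) :=
    (O'.ι ≫ pullback.snd s b).isClosedMap _ (hcl.preimage O'.ι.continuous)
  obtain ⟨_, ⟨V₁, hV₁, rfl⟩, hρV, hVK⟩ :=
    T.isBasis_affineOpens.exists_subset_of_mem_open (a := ρ default) (ou := hK.isOpen_compl) (by
      rintro ⟨z, ⟨hz, hz'⟩, hzρ⟩
      obtain ⟨w, hw, -⟩ := Scheme.exists_preimage_of_isPullback (isPullback_lft s ρ rfl) (O'.ι z) default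
        (by rw [← Scheme.Hom.comp_apply]; exact hzρ)
      have hw' : w ∈ pull s ρ rfl O' := show lft s ρ rfl w ∈ O' by rw [hw]; exact hz
      rw [h] at hw'
      have h3 := pull_inter_le s ψ hψ _ hle hw'
      refine hz' ?_
      show pullback.fst s b (O'.ι z) ∈ j.opensRange
      rw [← hw, ← Scheme.Hom.comp_apply, lft_fst]
      exact h3)
  obtain ⟨_, hb⟩ := exists_bA_eq (hV₁.fromSpec ≫ b)
  let O₁ := pull s hV₁.fromSpec hb.symm O'
  haveI : IsFinite (O₁.ι ≫ pullback.snd s (bA Γ(T, V₁))) := isFinite_pull s _ _ O'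
  have hle₁ : O₁ ≤ pullback.fst s (bA Γ(T, V₁)) ⁻¹ᵁ j.opensRange := by
    intro z hz
    by_contra hz'
    let z' : O'.toScheme := ⟨lft s hV₁.fromSpec hb.symm z, hz⟩
    refine hVK (a := (O'.ι ≫ pullback.snd s b) z') ?_ ⟨z', ⟨hz, fun hc => hz' ?_⟩, rfl⟩
    · rw [Scheme.Hom.comp_apply]
      show pullback.snd s b (lft s hV₁.fromSpec hb.symm z) ∈ V₁
      rw [← Scheme.Hom.comp_apply, lft_snd, Scheme.Hom.comp_apply]
      exact hV₁.range_fromSpec.le ⟨_, rfl⟩
    · change pullback.fst s b (lft s hV₁.fromSpec hb.symm z) ∈ j.opensRange at hc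
      rwa [← Scheme.Hom.comp_apply, lft_fst] at hc
  obtain ⟨E', hE', hO₁⟩ := exists_idem s j hj O₁
  haveI := (projective_quot s j hj hE' hle₁ hO₁).1
  haveI := (projective_quot s j hj hE' hle₁ hO₁).2
  let ρ₁ : Spec (CommRingCat.of L) ⟶ Spec Γ(T, V₁) := IsOpenImmersion.lift hV₁.fromSpec ρ (by
    rintro _ ⟨x, rfl⟩
    rw [hV₁.range_fromSpec, Subsingleton.elim x default]
    exact hρV)
  have hρ₁ : ρ₁ ≫ hV₁.fromSpec = ρ := IsOpenImmersion.lift_fac _ _ _
  obtain ⟨_, hL⟩ := exists_bA_eq (ρ ≫ b)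
  obtain ⟨ρA, hρA⟩ := exists_algHom_eq (T := Γ(T, V₁)) ρ₁ (by rw [hb, reassoc_of% hρ₁]; exact hL.symm)
  obtain ⟨ψA, hψA⟩ := exists_algHom_eq ψ (by rw [hψ]; exact hL.symm)
  have hbc : bc ψA E = bc ρA E' := by
    refine idem_eq (hE.map _) (hE'.map _) ?_
    rw [← preimage_pull s j hj ψA hO, ← preimage_pull s j hj ρA hO₁]
    congr 1
    have h2 : ∀ {b' : Spec (CommRingCat.of L) ⟶ Spec (CommRingCat.of A)} (_ : b' = ρ ≫ b)
        (x : Spec (CommRingCat.of L) ⟶ Spec (CommRingCat.of H)) (y : Spec (CommRingCat.of L) ⟶ Spec Γ(T, V₁))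
        (hx : x ≫ bA H = b') (hy : y ≫ bA Γ(T, V₁) = b') (_ : x = ψ) (_ : y = ρ₁),
        pull s x hx O = pull s y hy O₁ := by
      intro b' hb' x y hx hy hxe hye
      subst hb' hxe hye
      rw [show O₁ = pull s hV₁.fromSpec hb.symm O' from rfl, pull_pull, ← h]
      exact pull_congr s hρ₁.symm _ _
    exact h2 hL _ _ (bA_map ψA) (bA_map ρA) hψA hρA
  obtain ⟨g₁, hg₁, hbas⟩ := exists_isBasis_nbhd c hE' ρA (hbc ▸ hB.bc c hE ψA)
  let T₂ := Localization.Away g₁
  let j₂ : Γ(T, V₁) →ₐ[A] T₂ := IsScalarTower.toAlgHom A Γ(T, V₁) T₂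
  let ρ₂ : T₂ →ₐ[A] L :=
    IsLocalization.liftAlgHom (M := Submonoid.powers g₁) (f := ρA) fun y => by
      obtain ⟨k, hk⟩ := y.2
      rw [← hk, map_pow]
      exact (Ne.isUnit hg₁).pow k
  have hρ₂ : ρ₂.comp j₂ = ρA := AlgHom.ext fun x => IsLocalization.lift_eq _ x
  obtain ⟨g₂, hg₂, hχ⟩ := hex (bc j₂ E') (hE'.map _)
    (hbas j₂ (IsLocalization.Away.algebraMap_isUnit g₁)) ρ₂ ψA (by rw [bc_bc, hρ₂]; exact hbc)
  let T₃ := Localization.Away g₂
  let j₃ : T₂ →ₐ[A] T₃ := IsScalarTower.toAlgHom A T₂ T₃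
  obtain ⟨χ, hχ'⟩ := hχ j₃ (IsLocalization.Away.algebraMap_isUnit g₂)
  let ρ₃ : T₃ →ₐ[A] L :=
    IsLocalization.liftAlgHom (M := Submonoid.powers g₂) (f := ρ₂) fun y => by
      obtain ⟨k, hk⟩ := y.2
      rw [← hk, map_pow]
      exact (Ne.isUnit hg₂).pow k
  have hρ₃ : ρ₃.comp j₃ = ρ₂ := AlgHom.ext fun x => IsLocalization.lift_eq _ x
  haveI : IsOpenImmersion (Spec.map (CommRingCat.ofHom (algebraMap Γ(T, V₁) T₂))) := IsOpenImmersion.of_isLocalization g₁
  haveI : IsOpenImmersion (Spec.map (CommRingCat.ofHom (algebraMap T₂ T₃))) := IsOpenImmersion.of_isLocalization g₂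
  let k : Spec (CommRingCat.of T₃) ⟶ T := Spec.map (CommRingCat.ofHom (algebraMap T₂ T₃)) ≫
    Spec.map (CommRingCat.ofHom (algebraMap Γ(T, V₁) T₂)) ≫ hV₁.fromSpec
  have hk : k = Spec.map (CommRingCat.ofHom (j₃.comp j₂).toRingHom) ≫ hV₁.fromSpec := by
    simp only [k, ← Spec.map_comp_assoc, ← CommRingCat.ofHom_comp]
    rfl
  refine ⟨k.opensRange, ⟨Spec.map (CommRingCat.ofHom ρ₃.toRingHom) default, ?_⟩,
    k.isoOpensRange.inv ≫ Spec.map (CommRingCat.ofHom χ.toRingHom), ?_, ?_⟩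
  · have e : Spec.map (CommRingCat.ofHom ρ₃.toRingHom) ≫ k = ρ := by
      rw [hk, ← Spec.map_comp_assoc, ← CommRingCat.ofHom_comp]
      have : (ρ₃.toRingHom).comp (j₃.comp j₂).toRingHom = ρA.toRingHom := by
        rw [← hρ₂, ← hρ₃]; rfl
      rw [this, hρA, hρ₁]
    rw [← Scheme.Hom.comp_apply, e]
  · rw [Category.assoc, bA_map, Iso.inv_comp_eq, Scheme.Hom.isoOpensRange_hom_ι_assoc, hk, Category.assoc, ← hb,
      bA_map]
  · refine pull_inj s k.isoOpensRange.hom (b' := bA T₃) ?_ ?_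
    · rw [Scheme.Hom.isoOpensRange_hom_ι_assoc, hk, Category.assoc, ← hb, bA_map]
    refine eq_of_preimage_eq s j hj ?_ ?_ ?_
    · exact pull_inter_le s _ _ _ (pull_inter_le s _ _ _ hle)
    · intro z hz
      have h2 : z ∈ pull s (Spec.map (CommRingCat.ofHom (j₃.comp j₂).toRingHom)) (bA_map _) O₁ := by
        rw [show O₁ = pull s hV₁.fromSpec hb.symm O' from rfl, pull_pull]
        rw [pull_pull] at hz
        rw [pull_congr s (c₁ := k.isoOpensRange.hom ≫ k.opensRange.ι) (by rw [Scheme.Hom.isoOpensRange_hom_ι, hk])]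
        exact hz
      exact pull_inter_le s _ _ _ hle₁ h2
    · rw [pull_pull, pull_pull, pull_congr s (c₁ := Spec.map (CommRingCat.ofHom χ.toRingHom)) (Iso.hom_inv_id_assoc _ _),
        preimage_pull s j hj χ hO, hχ', bc_bc, ← preimage_pull s j hj (j₃.comp j₂) hO₁,
        show O₁ = pull s hV₁.fromSpec hb.symm O' from rfl, pull_pull]
      congr 1
      exact pull_congr s (by rw [Scheme.Hom.isoOpensRange_hom_ι, hk]) _ _


end

include hj in
/-- The chart: an affine scheme with a universal finite open piece. -/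
theorem exists_scheme_chart [Algebra.FinitePresentation A C] {κ : Type u} [Field κ]
    (b₀ : Spec (CommRingCat.of κ) ⟶ Spec (CommRingCat.of A)) (O₀ : (pullback s b₀).Opens)
    [IsFinite (O₀.ι ≫ pullback.snd s b₀)] (hle₀ : O₀ ≤ pullback.fst s b₀ ⁻¹ᵁ j.opensRange) :
    ∃ (W : Scheme.{u}) (a : W ⟶ Spec (CommRingCat.of A)) (O : (pullback s a).Opens)
      (w₀ : Spec (CommRingCat.of κ) ⟶ W) (hw₀ : w₀ ≫ a = b₀),
      IsAffine W ∧ IsFinite (O.ι ≫ pullback.snd s a) ∧ O ≤ pullback.fst s a ⁻¹ᵁ j.opensRange ∧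
      pull s w₀ hw₀ O = O₀ ∧
      (∀ {T : Scheme.{u}} (b : T ⟶ Spec (CommRingCat.of A)) (c c' : T ⟶ W) (hc : c ≫ a = b)
        (hc' : c' ≫ a = b), pull s c hc O = pull s c' hc' O → c = c') ∧
      ∀ {T : Scheme.{u}} (b : T ⟶ Spec (CommRingCat.of A)) (O' : (pullback s b).Opens),
        IsFinite (O'.ι ≫ pullback.snd s b) →
        ∀ {L : Type u} [Field L] (ρ : Spec (CommRingCat.of L) ⟶ T) (ψ : Spec (CommRingCat.of L) ⟶ W)
          (hψ : ψ ≫ a = ρ ≫ b), pull s ρ rfl O' = pull s ψ hψ O →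
          ∃ V : T.Opens, ρ default ∈ V ∧
            ∃ (c : V.toScheme ⟶ W) (hc : c ≫ a = V.ι ≫ b), pull s c hc O = pull s V.ι rfl O' := by
  obtain ⟨_, rfl⟩ := exists_bA_eq b₀
  obtain ⟨E₀, hE₀, hO₀⟩ := exists_idem s j hj O₀
  haveI := (projective_quot s j hj hE₀ hle₀ hO₀).1
  obtain ⟨n, c, hB₀⟩ := exists_isBasis hE₀
  obtain ⟨H, _, _, E, φ₀, hE, hφE, hB, huniq, hex⟩ := exists_chart c E₀ hE₀ hB₀
  let O : (pullback s (bA (A := A) H)).Opens := σ s j hj H ''ᵁ PrimeSpectrum.basicOpen E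
  have hO : σ s j hj H ⁻¹ᵁ O = PrimeSpectrum.basicOpen E := Scheme.Hom.preimage_image_eq _ _
  have hle : O ≤ pullback.fst s (bA H) ⁻¹ᵁ j.opensRange := by
    rintro _ ⟨y, -, rfl⟩
    exact (range_σ s j hj H).le ⟨y, rfl⟩
  haveI hfin : IsFinite (O.ι ≫ pullback.snd s (bA H)) := by
    obtain ⟨e, he⟩ := exists_comp_eq s j hj hE hle hO
    haveI : Module.Finite H ((H ⊗[A] C) ⧸ Ideal.span {1 - E}) :=
      Module.Finite.of_surjective ((Ideal.Quotient.mkₐ H (Ideal.span {1 - E})).toLinearMap.comp (comb c H))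
        fun m => by
          obtain ⟨z, rfl⟩ := Ideal.Quotient.mk_surjective m
          obtain ⟨a, ha⟩ := hB.1 z
          refine ⟨a, Ideal.Quotient.eq.2 ((mem_span_one_sub_iff hE).2 ?_)⟩
          rw [mul_sub, ha, sub_self]
    rw [← MorphismProperty.cancel_left_of_respectsIso @IsFinite e.hom, he]
    exact (IsFinite.SpecMap_iff _).2 (RingHom.finite_algebraMap.2 inferInstance)
  refine ⟨_, bA H, O, Spec.map (CommRingCat.ofHom φ₀.toRingHom), bA_map φ₀, inferInstance, hfin, hle, ?_, ?_, ?_⟩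
  · refine eq_of_preimage_eq s j hj (pull_inter_le s _ _ _ hle) hle₀ ?_
    rw [preimage_pull s j hj φ₀ hO, hφE, hO₀]
  · intro T b c c' hc hc' h
    exact chart_hom_ext s j hj hE hO huniq b c c' hc hc' h
  · intro T b O' hfin' L _ ρ ψ hψ h
    exact chart_exists s j hj hE hO hB hle hex b O' hfin' ρ ψ hψ h

end Groth.L24.Split
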