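import Groth.Agent.L24.Split.Main
import Mathlib.AlgebraicGeometry.Morphisms.Flat

/-!
# The sets of arrows for quasi-splitting and splitting
-/

set_option autoImplicit false
set_option linter.style.haveILetI false
set_option backward.isDefEq.respectTransparency.types false

universe u

open CategoryTheory CategoryTheory.Limits AlgebraicGeometry
open L02.Grpd

noncomputable section

namespace Groth.L24.Split

theorem epi_SpecMap_field {K L : CommRingCat.{u}} (hK : IsField K) [Nontrivial L] [Subsingleton ↥(Spec K)]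
    (f : K ⟶ L) : Epi (Spec.map f) := by
  haveI : Flat (Spec.map f) := by
    rw [HasRingHomProperty.Spec_iff (P := @Flat)]
    letI := hK.toField
    algebraize [f.hom]
    show Module.Flat K L
    infer_instance
  haveI : Surjective (Spec.map f) := ⟨fun y => ⟨Classical.arbitrary ↥(Spec L), Subsingleton.elim _ _⟩⟩
  exact Flat.epi_of_flat_of_surjective _

/-- Two morphisms agreeing at a point upstairs agree at the image point. -/
theorem fromSpec_comp_eq {X Y Z : Scheme.{u}} (m : X ⟶ Y) (x : X) {α β : Y ⟶ Z} (h : m ≫ α = m ≫ β) :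
    Y.fromSpecResidueField (m x) ≫ α = Y.fromSpecResidueField (m x) ≫ β := by
  haveI : Subsingleton ↥(Spec (Y.residueField (m x))) :=
    inferInstanceAs (Subsingleton (PrimeSpectrum (Y.residueField (m x))))
  haveI : Epi (Spec.map (m.residueFieldMap x)) := epi_SpecMap_field (Field.toIsField _) _
  rw [← cancel_epi (Spec.map (m.residueFieldMap x)), m.SpecMap_residueFieldMap_fromSpecResidueField_assoc,
    m.SpecMap_residueFieldMap_fromSpecResidueField_assoc, h]

theorem pt_comp_eq {X Y Z : Scheme.{u}} (m : X ⟶ Y) {α β : Y ⟶ Z} (h : m ≫ α = m ≫ β) {K : Type u} [Field K]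
    (y : Spec (CommRingCat.of K) ⟶ Y) {x : X} (hy : y default = m x) : y ≫ α = y ≫ β := by
  obtain ⟨ρ, rfl⟩ := exists_factor y hy
  rw [Category.assoc, Category.assoc, fromSpec_comp_eq m x h]

variable {S : Scheme.{u}} {G : Grpd.GroupoidScheme S}

theorem hmul_unit (u : G.U) {K : Type u} [Field K] (g z : Spec (CommRingCat.of K) ⟶ G.R)
    (h : g ≫ G.s = z ≫ G.t) (hz : z default = G.e u) :
    mul G g z h = g := by
  have e : z ≫ 𝟙 _ = z ≫ G.s ≫ G.e := pt_comp_eq G.e (by rw [← Category.assoc, G.e_s]; simp) z hz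
  rw [Category.comp_id] at e
  have ht : z ≫ G.t = z ≫ G.s := by
    conv_lhs => rw [e]
    simp [G.e_t]
  exact (mul_congr G rfl (e.trans (by rw [reassoc_of% h, reassoc_of% ht])) _ (by simp [G.e_t])).trans (G.comp_e g)

/-- An arrow with equal source and target, as a field valued point. -/
theorem eq_of_stab (γ : G.stabilizer) {K : Type u} [Field K] (z : Spec (CommRingCat.of K) ⟶ G.R)
    (hz : z default = stabι G γ) : z ≫ G.s = z ≫ G.t :=
  pt_comp_eq (stabι G) (by rw [stabι_s, stabι_t]) z hz

theorem mem_stab_image (u : G.U) {K : Type u} [Field K] (g : Spec (CommRingCat.of K) ⟶ G.R)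
    (hu : (g ≫ G.s) default = u) :
    g default ∈ stabι G '' {γ | G.stabilizerToU γ = u} ↔ g ≫ G.s = g ≫ G.t := by
  refine ⟨fun ⟨γ, _, hγ⟩ => eq_of_stab γ g hγ.symm, fun h => ?_⟩
  obtain ⟨k, hk⟩ : ∃ k, k ≫ stabι G = g := ⟨stabLift G g h.symm, pullback.lift_fst _ _ _⟩
  refine ⟨k default, ?_, by rw [← Scheme.Hom.comp_apply, hk]⟩
  show G.stabilizerToU (k default) = u
  rw [← stabι_s G, ← Scheme.Hom.comp_apply, reassoc_of% hk]
  exact hu

end Groth.L24.Split
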