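import Groth.Agent.L24.Split.Affine
import Groth.Agent.L02.Grpd.Algebra

/-!
# Translation of source fibres by an arrow
-/

set_option autoImplicit false
set_option linter.style.haveILetI false
set_option backward.isDefEq.respectTransparency.types false

universe u

open CategoryTheory CategoryTheory.Limits AlgebraicGeometry
open L02.Grpd

noncomputable section

namespace Groth.L24.Split

variable {S : Scheme.{u}} {G : Grpd.GroupoidScheme S} {T T' : Scheme.{u}}

theorem shift_aux {b : T ⟶ G.U} (z : T ⟶ G.R) (hb : z ≫ G.t = b) :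
    pullback.fst G.s b ≫ G.s = (pullback.snd G.s b ≫ z) ≫ G.t := by
  rw [Category.assoc, hb, pullback.condition]

/-- Translation of the source fibres by an arrow. -/
def shift (z : T ⟶ G.R) {b a : T ⟶ G.U} (hb : z ≫ G.t = b) (ha : z ≫ G.s = a) :
    pullback G.s b ⟶ pullback G.s a :=
  pullback.lift (mul G (pullback.fst G.s b) (pullback.snd G.s b ≫ z) (shift_aux z hb)) (pullback.snd G.s b)
    (by rw [mul_s, Category.assoc, ha])

@[reassoc] theorem shift_fst (z : T ⟶ G.R) {b a : T ⟶ G.U} (hb : z ≫ G.t = b) (ha : z ≫ G.s = a) :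
    shift z hb ha ≫ pullback.fst G.s a = mul G (pullback.fst G.s b) (pullback.snd G.s b ≫ z) (shift_aux z hb) :=
  pullback.lift_fst _ _ _

@[reassoc (attr := simp)] theorem shift_snd (z : T ⟶ G.R) {b a : T ⟶ G.U} (hb : z ≫ G.t = b) (ha : z ≫ G.s = a) :
    shift z hb ha ≫ pullback.snd G.s a = pullback.snd G.s b := pullback.lift_snd _ _ _

theorem mul_unit_right (α : T ⟶ G.R) (x : T ⟶ G.U) (hx : α ≫ G.s = x)
    (h : α ≫ G.s = (x ≫ G.e) ≫ G.t) : mul G α (x ≫ G.e) h = α := by
  subst hx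
  simpa only [Category.assoc, mul] using G.comp_e α

theorem shift_unit {a : T ⟶ G.U} (hb : (a ≫ G.e) ≫ G.t = a) (ha : (a ≫ G.e) ≫ G.s = a) :
    shift (a ≫ G.e) hb ha = 𝟙 _ := by
  apply pullback.hom_ext
  · rw [shift_fst, Category.id_comp]
    refine (mul_congr G rfl (Category.assoc _ _ _).symm _ ?_).trans
      (mul_unit_right _ (pullback.snd G.s a ≫ a) pullback.condition ?_)
    · rw [pullback.condition, Category.assoc _ a, Category.assoc, Category.assoc, G.e_t, Category.comp_id]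
    · rw [pullback.condition, Category.assoc _ a, Category.assoc, Category.assoc, G.e_t, Category.comp_id]
  · rw [shift_snd, Category.id_comp]

theorem shift_shift (g z : T ⟶ G.R) {d b a : T ⟶ G.U} (hd : g ≫ G.t = d) (hgb : g ≫ G.s = b)
    (hb : z ≫ G.t = b) (ha : z ≫ G.s = a) :
    shift g hd hgb ≫ shift z hb ha =
      shift (mul G g z (hgb.trans hb.symm)) ((mul_t G _ _ _).trans hd) ((mul_s G _ _ _).trans ha) := by
  apply pullback.hom_ext
  · rw [Category.assoc, shift_fst, shift_fst, comp_mul]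
    refine (mul_congr G (shift_fst g hd hgb) (shift_snd_assoc g hd hgb z) _ ?_).trans ?_
    · rw [mul_s, Category.assoc, Category.assoc, hgb, hb]
    refine (mul_assoc' G (pullback.fst G.s d) (pullback.snd G.s d ≫ g) (pullback.snd G.s d ≫ z)
      (shift_aux g hd) (by rw [Category.assoc, Category.assoc, hgb, hb])).trans ?_
    exact mul_congr G rfl (comp_mul G _ _ _ _).symm _ _
  · rw [Category.assoc, shift_snd, shift_snd, shift_snd]

theorem shift_congr {z z' : T ⟶ G.R} (h : z = z') {b a : T ⟶ G.U} (hb : z ≫ G.t = b) (ha : z ≫ G.s = a) :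
    shift z hb ha = shift z' (h ▸ hb) (h ▸ ha) := by subst h; rfl

instance (z : T ⟶ G.R) {b a : T ⟶ G.U} (hb : z ≫ G.t = b) (ha : z ≫ G.s = a) : IsIso (shift z hb ha) := by
  refine ⟨shift (z ≫ G.i) (by rw [inv_t, ha]) (by rw [inv_s, hb]), ?_, ?_⟩
  · rw [shift_shift, shift_congr (z' := b ≫ G.e) (by
      refine (G.comp_i z).trans ?_
      rw [← hb, Category.assoc]), shift_unit]
  · rw [shift_shift, shift_congr (z' := a ≫ G.e) (by
      refine (G.i_comp z).trans ?_
      rw [← ha, Category.assoc]), shift_unit]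

theorem lft_shift (k : T' ⟶ T) (z : T ⟶ G.R) {b a : T ⟶ G.U} {b' a' : T' ⟶ G.U}
    (hb : z ≫ G.t = b) (ha : z ≫ G.s = a) (hkb : k ≫ b = b') (hka : k ≫ a = a') :
    lft G.s k hkb ≫ shift z hb ha =
      shift (k ≫ z) (by rw [Category.assoc, hb, hkb]) (by rw [Category.assoc, ha, hka]) ≫ lft G.s k hka := by
  apply pullback.hom_ext
  · rw [Category.assoc, shift_fst, comp_mul]
    refine Eq.trans (mul_congr G (lft_fst _ _ _) (lft_snd_assoc _ _ _ _) _ ?_) ?_
    · exact shift_aux (G := G) (k ≫ z) (by rw [Category.assoc, hb, hkb])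
    exact (shift_fst _ _ _).symm.trans ((congrArg (_ ≫ ·) (lft_fst G.s k hka)).symm.trans (Category.assoc _ _ _).symm)
  · simp

theorem pull_shift (k : T' ⟶ T) (z : T ⟶ G.R) {b a : T ⟶ G.U} {b' a' : T' ⟶ G.U}
    (hb : z ≫ G.t = b) (ha : z ≫ G.s = a) (hkb : k ≫ b = b') (hka : k ≫ a = a') (O : (pullback G.s a).Opens) :
    pull G.s k hkb (shift z hb ha ⁻¹ᵁ O) =
      shift (k ≫ z) (by rw [Category.assoc, hb, hkb]) (by rw [Category.assoc, ha, hka]) ⁻¹ᵁ pull G.s k hka O := by
  rw [pull, pull, ← Scheme.Hom.comp_preimage, ← Scheme.Hom.comp_preimage, lft_shift]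

theorem isFinite_shift (z : T ⟶ G.R) {b a : T ⟶ G.U} (hb : z ≫ G.t = b) (ha : z ≫ G.s = a)
    (O : (pullback G.s a).Opens) [IsFinite (O.ι ≫ pullback.snd G.s a)] :
    IsFinite ((shift z hb ha ⁻¹ᵁ O).ι ≫ pullback.snd G.s b) := by
  rw [← shift_snd z hb ha, ← Category.assoc, ← morphismRestrict_ι, Category.assoc,
    MorphismProperty.cancel_left_of_respectsIso @IsFinite]
  infer_instance

end Groth.L24.Split
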