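import Groth.Agent.L24.Split.Translate
import Groth.Agent.L24.Split.Pts

/-!
# The target map of a translation
-/

set_option autoImplicit false
set_option linter.style.haveILetI false
set_option backward.isDefEq.respectTransparency.types false

universe u

open CategoryTheory CategoryTheory.Limits AlgebraicGeometry
open L02.Grpd

noncomputable section

namespace Groth.L24.Split

variable {S : Scheme.{u}} {G : Grpd.GroupoidScheme S} (C : FChart G.s)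

theorem pull_classified {T Z : Scheme.{u}} {s : G.R ⟶ G.U} {W : Scheme.{u}} {a : W ⟶ G.U} {O : (pullback s a).Opens}
    {b : T ⟶ G.U} {O' : (pullback s b).Opens} {V : T.Opens} (c : V.toScheme ⟶ W) {hc : c ≫ a = V.ι ≫ b}
    (h : pull s c hc O = pull s V.ι rfl O') (k : Z ⟶ V.toScheme) {b' : Z ⟶ G.U} (hk : (k ≫ c) ≫ a = b')
    (hk' : (k ≫ V.ι) ≫ b = b') : pull s (k ≫ c) hk O = pull s (k ≫ V.ι) hk' O' := by
  have h1 := congrArg (pull s k (b' := b') (by rw [← hk', Category.assoc])) h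
  rw [pull_pull, pull_pull] at h1
  exact h1

/-- The translated pieces are classified near the fibre of a base point. -/
theorem exists_tgt (w : C.W)
    (hunit : pullback.lift (C.a ≫ G.e) (𝟙 C.W)
      (by rw [Category.assoc, G.e_s, Category.comp_id, Category.id_comp]) w ∈ C.O)
    (hclass : ∀ y : C.O.toScheme, pp C y = w →
      ∃ (L : Type u) (_ : Field L) (k : Spec (CommRingCat.of L) ⟶ C.O.toScheme)
        (ψ : Spec (CommRingCat.of L) ⟶ C.W) (hψ : ψ ≫ C.a = k ≫ zz C ≫ G.t),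
        k default = y ∧ ψ default = w ∧ pull G.s k rfl (tO C) = pull G.s ψ hψ C.O) :
    ∃ (W₂ : C.W.Opens) (D : Tgt C W₂), w ∈ W₂ ∧
      ∀ y : (pp C ⁻¹ᵁ W₂).toScheme, pp C ((pp C ⁻¹ᵁ W₂).ι y) = w → W₂.ι (D.τ y) = w := by
  obtain ⟨T₀, ⟨c₀, hc₀, hO₀⟩, hgood⟩ := exists_good C (zz C ≫ G.t) (tO C) (isFinite_tO C)
  haveI := isFinite_pp C
  let A : C.W.Opens := ⟨(pp C '' (T₀ : Set C.O.toScheme)ᶜ)ᶜ,
    ((pp C).isClosedMap _ T₀.isOpen.isClosed_compl).isOpen_compl⟩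
  let u₁ : C.W ⟶ pullback G.s C.a := pullback.lift (C.a ≫ G.e) (𝟙 C.W)
    (by rw [Category.assoc, G.e_s, Category.comp_id, Category.id_comp])
  let E₁ : C.W.Opens := u₁ ⁻¹ᵁ C.O
  let W₂ : C.W.Opens := A ⊓ E₁
  have hle : pp C ⁻¹ᵁ W₂ ≤ T₀ := fun y hy => by
    by_contra hn
    exact hy.1 ⟨y, hn, rfl⟩
  have hlift : ∀ {L : Type u} [Field L] (k : Spec (CommRingCat.of L) ⟶ C.O.toScheme), k default ∈ T₀ →
      ∃ k₀ : Spec (CommRingCat.of L) ⟶ T₀.toScheme, k₀ ≫ T₀.ι = k := by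
    intro L _ k hk
    refine ⟨IsOpenImmersion.lift T₀.ι k ?_, IsOpenImmersion.lift_fac _ _ _⟩
    rw [Scheme.Opens.range_ι]
    rintro _ ⟨p, rfl⟩
    rw [pt_eq k p default]
    exact hk
  have hmaps : ∀ y : T₀.toScheme, pp C (T₀.ι y) ∈ W₂ → c₀ y ∈ W₂ := by
    intro y hy
    refine ⟨?_, ?_⟩
    · rintro ⟨y', hy', he⟩
      obtain ⟨L, _, k', k, hk', hk, hkk⟩ := exists_common_pt (pp C) c₀ he
      refine hy' ?_
      have hgz : (k' ≫ zz C) ≫ G.s = ((k ≫ T₀.ι) ≫ zz C) ≫ G.t := by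
        rw [Category.assoc, zz_s, reassoc_of% hkk, hc₀]; simp only [Category.assoc]
      have hk0 : (k ≫ c₀) ≫ C.a = (k ≫ T₀.ι) ≫ zz C ≫ G.t := by
        rw [Category.assoc, hc₀, Category.assoc]
      have hz := pull_classified c₀ hO₀ k hk0 rfl
      have hm : ∀ p, pullback.lift (mul G (k' ≫ zz C) ((k ≫ T₀.ι) ≫ zz C) hgz) ((k ≫ T₀.ι) ≫ pp C)
          (by rw [mul_s]; simp only [Category.assoc, zz_s]) p ∈ C.O := by
        intro p
        have hg : pullback.lift (k' ≫ zz C) (k ≫ c₀)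
            (by rw [hk0, hgz]; simp only [Category.assoc]) p ∈ C.O :=
          (mem_congr rfl hkk).1 (obj_mem C k' (by simp only [Category.assoc, zz_s]) p)
        have h1 := mem_pull (s := G.s) (k ≫ c₀) hk0 (k' ≫ zz C) (𝟙 _)
          (by rw [Category.id_comp, hgz, Category.assoc (k ≫ T₀.ι)]) C.O p
        rw [hz, mem_pull] at h1
        exact (mem_congr (mul_congr G rfl (by rw [Category.id_comp]) _ _) (by rw [Category.id_comp])).1
          ((mem_tO C _ _ (by rw [Category.id_comp, hgz, Category.assoc (k ≫ T₀.ι)]) p).1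
            (h1.2 ((mem_congr rfl (Category.id_comp _).symm).1 hg)))
      obtain ⟨k'', hk''z, hk''p⟩ := exists_obj C _ _ _ hm
      have hin : k'' default ∈ T₀ := hle (show pp C (k'' default) ∈ W₂ by
        rw [← Scheme.Hom.comp_apply, hk''p, Scheme.Hom.comp_apply, Scheme.Hom.comp_apply, hk]
        exact hy)
      obtain ⟨k₀, hk₀⟩ := hlift k'' hin
      have ht : (k'' ≫ zz C) ≫ G.t = (k' ≫ zz C) ≫ G.t := by rw [hk''z, mul_t]
      have hψ : (k₀ ≫ c₀) ≫ C.a = k' ≫ zz C ≫ G.t := by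
        rw [Category.assoc, hc₀, reassoc_of% hk₀, ← Category.assoc, ht, Category.assoc]
      rw [← hk']
      refine hgood L k' (k₀ ≫ c₀) hψ ?_
      have ha : (k'' ≫ zz C) ≫ G.s = ((k ≫ T₀.ι) ≫ zz C) ≫ G.s := by rw [hk''z, mul_s]
      have hb' : (k'' ≫ zz C) ≫ G.t = k' ≫ zz C ≫ G.t := ht.trans (Category.assoc _ _ _)
      have e1 : pull G.s (k₀ ≫ c₀) hψ C.O = pull G.s k'' ((Category.assoc _ _ _).symm.trans hb') (tO C) :=
        (pull_classified c₀ hO₀ k₀ hψ (by rw [hk₀, ← Category.assoc, hb'])).trans (pull_congr G.s hk₀ _ _)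
      rw [e1, pull_tO C k'' hb' ha, pull_tO C k' (Category.assoc _ _ _) rfl]
      have e2 : pull G.s (k' ≫ pp C) (b' := (k' ≫ zz C) ≫ G.s) (by simp only [Category.assoc, zz_s]) C.O =
          pull G.s (k ≫ c₀) (b' := (k' ≫ zz C) ≫ G.s) (by rw [hk0, hgz]; simp only [Category.assoc]) C.O :=
        pull_congr G.s hkk _ _
      have e3 : pull G.s (k ≫ c₀) (b' := (k' ≫ zz C) ≫ G.s) (by rw [hk0, hgz]; simp only [Category.assoc]) C.O =
          shift ((k ≫ T₀.ι) ≫ zz C) hgz.symm rfl ⁻¹ᵁ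
            pull G.s ((k ≫ T₀.ι) ≫ pp C) (by simp only [Category.assoc, zz_s]) C.O :=
        (pull_classified c₀ hO₀ k _ (by rw [hgz]; simp only [Category.assoc])).trans
          (pull_tO C (k ≫ T₀.ι) hgz.symm rfl)
      rw [e2, e3]
      exact (shift_shift_preimage _ _ _ _ _ _ _).trans
        (shift_preimage_congr hk''z.symm (pull_congr G.s hk''p.symm _ _))
    · show u₁ (c₀ y) ∈ C.O
      have h := unit_mem_tO C T₀.ι (by simp [G.e_s]) y
      have h1 := mem_pull (s := G.s) c₀ hc₀ ((T₀.ι ≫ zz C ≫ G.t) ≫ G.e) (𝟙 _)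
        (by simp [G.e_s]) C.O y
      rw [hO₀, mem_pull] at h1
      refine (mem_comp c₀ _ _ _ y C.O).2 ((mem_congr ?_ ?_).1 (h1.1 ((mem_congr rfl (Category.id_comp _).symm).1 h)))
      · rw [← hc₀, Category.assoc]
      · rw [Category.id_comp, Category.comp_id]
  let j : (pp C ⁻¹ᵁ W₂).toScheme ⟶ T₀.toScheme := C.O.toScheme.homOfLE hle
  have hj : j ≫ T₀.ι = (pp C ⁻¹ᵁ W₂).ι := Scheme.homOfLE_ι _ _
  let τ : (pp C ⁻¹ᵁ W₂).toScheme ⟶ W₂.toScheme := IsOpenImmersion.lift W₂.ι (j ≫ c₀) (by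
    rw [Scheme.Opens.range_ι]
    rintro _ ⟨y, rfl⟩
    rw [Scheme.Hom.comp_apply]
    refine hmaps _ ?_
    rw [← Scheme.Hom.comp_apply j, hj]
    exact y.2)
  have hτ : τ ≫ W₂.ι = j ≫ c₀ := IsOpenImmersion.lift_fac _ _ _
  have hτa : (τ ≫ W₂.ι) ≫ C.a = (pp C ⁻¹ᵁ W₂).ι ≫ zz C ≫ G.t := by
    rw [hτ, Category.assoc, hc₀, reassoc_of% hj]
  have hτO : pull G.s (τ ≫ W₂.ι) hτa C.O = pull G.s (pp C ⁻¹ᵁ W₂).ι rfl (tO C) :=
    (pull_congr G.s hτ _ _).trans ((pull_classified c₀ hO₀ j _ (by rw [hj])).trans (pull_congr G.s hj _ _))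
  have hw : w ∈ W₂ := by
    refine ⟨?_, hunit⟩
    rintro ⟨y, hy, he⟩
    obtain ⟨L, _, k, ψ, hψ, hky, -, hp⟩ := hclass y he
    exact hy (hky ▸ hgood L k ψ hψ hp)
  refine ⟨W₂, ⟨τ, hτa, hτO, fun x hx => hx.2⟩, hw, fun y hy => ?_⟩
  show W₂.ι (τ y) = w
  obtain ⟨L, _, k, ψ, hψ, hky, hψw, hp⟩ := hclass _ hy
  have hin : k default ∈ T₀ := by rw [hky]; exact hle y.2
  obtain ⟨k₀, hk₀⟩ := hlift k hin
  have hk₀a : (k₀ ≫ c₀) ≫ C.a = k ≫ zz C ≫ G.t := by rw [Category.assoc, hc₀, reassoc_of% hk₀]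
  have he : k₀ ≫ c₀ = ψ := C.hom_ext _ _ _ hk₀a hψ
    (((pull_classified c₀ hO₀ k₀ hk₀a (by rw [hk₀])).trans (pull_congr G.s hk₀ _ _)).trans hp)
  have hjy : j y = k₀ default := T₀.ι.injective (by
    rw [← Scheme.Hom.comp_apply, hj, ← Scheme.Hom.comp_apply, hk₀, hky])
  rw [← Scheme.Hom.comp_apply, hτ, Scheme.Hom.comp_apply, hjy, ← Scheme.Hom.comp_apply, he, hψw]

end Groth.L24.Split
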