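import Groth.Agent.L24.Split.Good
import Mathlib.AlgebraicGeometry.Morphisms.Finite

/-!
# The groupoid of a chart of finite pieces
-/

set_option autoImplicit false
set_option linter.style.haveILetI false
set_option backward.isDefEq.respectTransparency.types false

universe u

open CategoryTheory CategoryTheory.Limits AlgebraicGeometry
open L02.Grpd

noncomputable section

namespace Groth.L24.Split

variable {S : Scheme.{u}} {G : Grpd.GroupoidScheme S} (C : FChart G.s)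

/-- The base point of an element of the piece. -/
def pp : C.O.toScheme ⟶ C.W := C.O.ι ≫ pullback.snd G.s C.a

/-- The arrow of an element of the piece. -/
def zz : C.O.toScheme ⟶ G.R := C.O.ι ≫ pullback.fst G.s C.a

theorem zz_s : zz C ≫ G.s = pp C ≫ C.a := by
  simp only [zz, pp, Category.assoc, pullback.condition]

/-- The translated pieces. -/
def tO : (pullback G.s (zz C ≫ G.t)).Opens :=
  shift (zz C) rfl (zz_s C) ⁻¹ᵁ pull G.s (pp C) rfl C.O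

theorem isFinite_pp : IsFinite (pp C) := C.finite

theorem isFinite_tO : IsFinite ((tO C).ι ≫ pullback.snd G.s (zz C ≫ G.t)) := by
  haveI := C.finite
  haveI := isFinite_pull G.s (pp C) (rfl : pp C ≫ C.a = pp C ≫ C.a) C.O
  exact isFinite_shift _ _ _ _

theorem obj_ext {Z : Scheme.{u}} {α β : Z ⟶ C.O.toScheme} (h₁ : α ≫ zz C = β ≫ zz C)
    (h₂ : α ≫ pp C = β ≫ pp C) : α = β := by
  rw [← cancel_mono C.O.ι]
  apply pullback.hom_ext
  · simpa only [zz, Category.assoc] using h₁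
  · simpa only [pp, Category.assoc] using h₂

theorem mem_congr {R U T Z : Scheme.{u}} {s : R ⟶ U} {b : T ⟶ U} {g g' : Z ⟶ R} {x x' : Z ⟶ T} (hg : g = g')
    (hx : x = x') {h : g ≫ s = x ≫ b} {h' : g' ≫ s = x' ≫ b} {y : Z} {O : (pullback s b).Opens} :
    pullback.lift g x h y ∈ O ↔ pullback.lift g' x' h' y ∈ O := by
  subst hg hx; rfl

theorem mem_comp {R U T Z Z' : Scheme.{u}} {s : R ⟶ U} {b : T ⟶ U} (m : Z' ⟶ Z) (g : Z ⟶ R) (x : Z ⟶ T)
    (h : g ≫ s = x ≫ b) (y : Z') (O : (pullback s b).Opens) :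
    pullback.lift g x h (m y) ∈ O ↔
      pullback.lift (m ≫ g) (m ≫ x) (by rw [Category.assoc, h, Category.assoc]) y ∈ O := by
  have e : pullback.lift (m ≫ g) (m ≫ x) (by rw [Category.assoc, h, Category.assoc]) = m ≫ pullback.lift g x h := by
    apply pullback.hom_ext
    · exact (pullback.lift_fst _ _ _).trans (by rw [Category.assoc, pullback.lift_fst])
    · exact (pullback.lift_snd _ _ _).trans (by rw [Category.assoc, pullback.lift_snd])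
  rw [e, Scheme.Hom.comp_apply]

theorem exists_obj {Z : Scheme.{u}} (g : Z ⟶ G.R) (x : Z ⟶ C.W) (h : g ≫ G.s = x ≫ C.a)
    (hm : ∀ y, pullback.lift g x h y ∈ C.O) :
    ∃ k : Z ⟶ C.O.toScheme, k ≫ zz C = g ∧ k ≫ pp C = x := by
  let k := IsOpenImmersion.lift C.O.ι (pullback.lift g x h) (by
    rw [Scheme.Opens.range_ι]
    rintro _ ⟨y, rfl⟩
    exact hm y)
  have hk : k ≫ C.O.ι = pullback.lift g x h := IsOpenImmersion.lift_fac _ _ _
  refine ⟨k, ?_, ?_⟩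
  · rw [zz, reassoc_of% hk, pullback.lift_fst]
  · rw [pp, reassoc_of% hk, pullback.lift_snd]

theorem obj_mem {Z : Scheme.{u}} (k : Z ⟶ C.O.toScheme) (h : (k ≫ zz C) ≫ G.s = (k ≫ pp C) ≫ C.a) (y : Z) :
    pullback.lift (k ≫ zz C) (k ≫ pp C) h y ∈ C.O := by
  have e : pullback.lift (k ≫ zz C) (k ≫ pp C) h = k ≫ C.O.ι := by
    apply pullback.hom_ext
    · rw [pullback.lift_fst, Category.assoc]; rfl
    · rw [pullback.lift_snd, Category.assoc]; rfl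
  rw [e, Scheme.Hom.comp_apply]
  exact (k y).2

theorem pull_tO {Z : Scheme.{u}} {b' a' : Z ⟶ G.U} (k : Z ⟶ C.O.toScheme) (hb : (k ≫ zz C) ≫ G.t = b')
    (ha : (k ≫ zz C) ≫ G.s = a') :
    pull G.s k ((Category.assoc _ _ _).symm.trans hb) (tO C) =
      shift (k ≫ zz C) hb ha ⁻¹ᵁ
        pull G.s (k ≫ pp C) (b' := a') (by rw [← ha, Category.assoc, Category.assoc, zz_s]) C.O := by
  rw [tO, pull_shift (a' := a') k (zz C) rfl (zz_s C) ((Category.assoc _ _ _).symm.trans hb)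
    (by rw [← ha, Category.assoc, zz_s]), pull_pull]

theorem mem_shift {T Z : Scheme.{u}} {b a : T ⟶ G.U} (z : T ⟶ G.R) (hb : z ≫ G.t = b) (ha : z ≫ G.s = a)
    (g : Z ⟶ G.R) (x : Z ⟶ T) (h : g ≫ G.s = x ≫ b) :
    pullback.lift g x h ≫ shift z hb ha =
      pullback.lift (mul G g (x ≫ z) (by rw [Category.assoc, hb, h])) x
        (by rw [mul_s, Category.assoc, ha]) := by
  apply pullback.hom_ext
  · rw [Category.assoc, shift_fst, comp_mul]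
    exact (mul_congr G (pullback.lift_fst _ _ _) (pullback.lift_snd_assoc _ _ _ _) _ _).trans
      (pullback.lift_fst _ _ _).symm
  · rw [Category.assoc, shift_snd, pullback.lift_snd, pullback.lift_snd]

theorem mem_tO {Z : Scheme.{u}} (g : Z ⟶ G.R) (k : Z ⟶ C.O.toScheme) (h : g ≫ G.s = k ≫ zz C ≫ G.t) (y : Z) :
    pullback.lift g k h y ∈ tO C ↔
      pullback.lift (mul G g (k ≫ zz C) (by rw [h, Category.assoc])) (k ≫ pp C)
        (by rw [mul_s, Category.assoc, Category.assoc, zz_s]) y ∈ C.O := by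
  show (pullback.lift g k h ≫ shift (zz C) rfl (zz_s C)) y ∈ pull G.s (pp C) rfl C.O ↔ _
  rw [mem_shift, mem_pull]

theorem unit_mem_tO {Z : Scheme.{u}} (k : Z ⟶ C.O.toScheme) (h : ((k ≫ zz C ≫ G.t) ≫ G.e) ≫ G.s = k ≫ zz C ≫ G.t)
    (y : Z) : pullback.lift ((k ≫ zz C ≫ G.t) ≫ G.e) k h y ∈ tO C := by
  rw [mem_tO C _ k]
  refine (mem_congr ?_ rfl).1 (obj_mem C k (by rw [Category.assoc, Category.assoc, zz_s]) y)
  refine ((mul_congr G ?_ rfl _ ?_).trans (G.e_comp (k ≫ zz C))).symm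
  · simp only [Category.assoc]
  · simp only [Category.assoc, G.e_s, Category.comp_id]

theorem shift_unit_preimage {T : Scheme.{u}} {a : T ⟶ G.U} {z : T ⟶ G.R} (hz : z = a ≫ G.e) (hb : z ≫ G.t = a)
    (ha : z ≫ G.s = a) (O : (pullback G.s a).Opens) : shift z hb ha ⁻¹ᵁ O = O := by
  subst hz
  rw [shift_unit]
  exact Scheme.Hom.id_preimage O

theorem shift_shift_preimage {T : Scheme.{u}} (g z : T ⟶ G.R) {d b a : T ⟶ G.U} (hd : g ≫ G.t = d)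
    (hgb : g ≫ G.s = b) (hb : z ≫ G.t = b) (ha : z ≫ G.s = a) (O : (pullback G.s a).Opens) :
    shift g hd hgb ⁻¹ᵁ (shift z hb ha ⁻¹ᵁ O) =
      shift (mul G g z (hgb.trans hb.symm)) ((mul_t G _ _ _).trans hd) ((mul_s G _ _ _).trans ha) ⁻¹ᵁ O := by
  rw [← Scheme.Hom.comp_preimage, shift_shift]

theorem shift_preimage_congr {T : Scheme.{u}} {b a : T ⟶ G.U} {z z' : T ⟶ G.R} (hz : z = z') {hb : z ≫ G.t = b}
    {ha : z ≫ G.s = a} {hb' : z' ≫ G.t = b} {ha' : z' ≫ G.s = a} {O O' : (pullback G.s a).Opens} (hO : O = O') :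
    shift z hb ha ⁻¹ᵁ O = shift z' hb' ha' ⁻¹ᵁ O' := by
  subst hz hO; rfl

/-- Translation data over an open of the chart. -/
structure Tgt (W₂ : C.W.Opens) where
  /-- The target of a translation. -/
  τ : (pp C ⁻¹ᵁ W₂).toScheme ⟶ W₂.toScheme
  τa : (τ ≫ W₂.ι) ≫ C.a = (pp C ⁻¹ᵁ W₂).ι ≫ zz C ≫ G.t
  τO : pull G.s (τ ≫ W₂.ι) τa C.O = pull G.s (pp C ⁻¹ᵁ W₂).ι rfl (tO C)
  unit : ∀ x ∈ W₂, pullback.lift (C.a ≫ G.e) (𝟙 C.W)
    (by rw [Category.assoc, G.e_s, Category.comp_id, Category.id_comp]) x ∈ C.O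

/-- The source of the new groupoid. -/
def sH (W₂ : C.W.Opens) : (pp C ⁻¹ᵁ W₂).toScheme ⟶ W₂.toScheme := pp C ∣_ W₂

theorem sH_ι (W₂ : C.W.Opens) : sH C W₂ ≫ W₂.ι = (pp C ⁻¹ᵁ W₂).ι ≫ pp C := morphismRestrict_ι _ _

/-- The arrow of the new groupoid. -/
def zH (W₂ : C.W.Opens) : (pp C ⁻¹ᵁ W₂).toScheme ⟶ G.R := (pp C ⁻¹ᵁ W₂).ι ≫ zz C

theorem zH_s (W₂ : C.W.Opens) : zH C W₂ ≫ G.s = sH C W₂ ≫ W₂.ι ≫ C.a := by
  rw [zH, Category.assoc, zz_s, reassoc_of% (sH_ι C W₂)]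

variable {C}

namespace Tgt

variable {W₂ : C.W.Opens} (D : Tgt C W₂)

include D

theorem zH_t : zH C W₂ ≫ G.t = D.τ ≫ W₂.ι ≫ C.a := by
  rw [zH, Category.assoc, ← D.τa, Category.assoc]

omit D in
theorem ext {Z : Scheme.{u}} {α β : Z ⟶ (pp C ⁻¹ᵁ W₂).toScheme} (h₁ : α ≫ zH C W₂ = β ≫ zH C W₂)
    (h₂ : α ≫ sH C W₂ = β ≫ sH C W₂) : α = β := by
  rw [← cancel_mono (pp C ⁻¹ᵁ W₂).ι]
  refine obj_ext C ?_ ?_
  · simpa only [zH, Category.assoc] using h₁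
  · rw [Category.assoc, Category.assoc, ← sH_ι, reassoc_of% h₂]

omit D in
theorem exists_arrow {Z : Scheme.{u}} (g : Z ⟶ G.R) (x : Z ⟶ W₂.toScheme) (h : g ≫ G.s = (x ≫ W₂.ι) ≫ C.a)
    (hm : ∀ y, pullback.lift g (x ≫ W₂.ι) h y ∈ C.O) :
    ∃ k : Z ⟶ (pp C ⁻¹ᵁ W₂).toScheme, k ≫ zH C W₂ = g ∧ k ≫ sH C W₂ = x := by
  obtain ⟨k₀, hk₁, hk₂⟩ := exists_obj C g _ h hm
  let k := IsOpenImmersion.lift (pp C ⁻¹ᵁ W₂).ι k₀ (by
    rw [Scheme.Opens.range_ι]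
    rintro _ ⟨y, rfl⟩
    show pp C (k₀ y) ∈ W₂
    rw [← Scheme.Hom.comp_apply, hk₂, Scheme.Hom.comp_apply]
    exact (x y).2)
  have hk : k ≫ (pp C ⁻¹ᵁ W₂).ι = k₀ := IsOpenImmersion.lift_fac _ _ _
  refine ⟨k, by rw [zH, reassoc_of% hk, hk₁], ?_⟩
  rw [← cancel_mono W₂.ι, Category.assoc, sH_ι, reassoc_of% hk, hk₂]

theorem unit' {Z : Scheme.{u}} (k : Z ⟶ W₂.toScheme) {h : ((k ≫ W₂.ι ≫ C.a) ≫ G.e) ≫ G.s = (k ≫ W₂.ι) ≫ C.a}
    (y : Z) : pullback.lift ((k ≫ W₂.ι ≫ C.a) ≫ G.e) (k ≫ W₂.ι) h y ∈ C.O :=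
  (mem_congr (by simp only [Category.assoc]) (Category.comp_id _)).1
    ((mem_comp (k ≫ W₂.ι) _ _ _ y C.O).1 (D.unit ((k ≫ W₂.ι) y) (by rw [Scheme.Hom.comp_apply]; exact (k y).2)))

theorem pull_τ {Z : Scheme.{u}} (k : Z ⟶ (pp C ⁻¹ᵁ W₂).toScheme) {b' a' : Z ⟶ G.U}
    (hb : (k ≫ zH C W₂) ≫ G.t = b') (ha : (k ≫ zH C W₂) ≫ G.s = a') :
    pull G.s ((k ≫ D.τ) ≫ W₂.ι) (b' := b') (by rw [← hb]; simp only [Category.assoc, D.zH_t]) C.O =
      shift (k ≫ zH C W₂) hb ha ⁻¹ᵁ pull G.s ((k ≫ sH C W₂) ≫ W₂.ι) (b' := a')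
        (by rw [← ha]; simp only [Category.assoc, zH_s]) C.O := by
  have hk : ((k ≫ (pp C ⁻¹ᵁ W₂).ι) ≫ zz C) = k ≫ zH C W₂ := Category.assoc _ _ _
  have h1 := pull_tO C (k ≫ (pp C ⁻¹ᵁ W₂).ι) (b' := b') (a' := a') (by rw [hk, hb]) (by rw [hk, ha])
  rw [← pull_pull G.s (pp C ⁻¹ᵁ W₂).ι rfl k (by rw [← hb, ← hk]; simp only [Category.assoc]), ← D.τO,
    pull_pull] at h1
  exact (pull_congr G.s (Category.assoc _ _ _) _ _).trans
    (h1.trans (shift_preimage_congr hk (pull_congr G.s (by simp only [Category.assoc, sH_ι]) _ _)))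

theorem mem_τ {Z : Scheme.{u}} (g : Z ⟶ G.R) (k : Z ⟶ (pp C ⁻¹ᵁ W₂).toScheme)
    (h : g ≫ G.s = ((k ≫ D.τ) ≫ W₂.ι) ≫ C.a) (y : Z) :
    pullback.lift g ((k ≫ D.τ) ≫ W₂.ι) h y ∈ C.O ↔
      pullback.lift (mul G g (k ≫ zH C W₂) (by rw [h]; simp only [Category.assoc, D.zH_t]))
        ((k ≫ sH C W₂) ≫ W₂.ι) (by rw [mul_s]; simp only [Category.assoc, zH_s]) y ∈ C.O := by
  have h' : g ≫ G.s = k ≫ (pp C ⁻¹ᵁ W₂).ι ≫ zz C ≫ G.t := by
    rw [h, ← D.τa]; simp only [Category.assoc]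
  have h1 := mem_pull (pp C ⁻¹ᵁ W₂).ι rfl g k h' (tO C) y
  rw [← D.τO, mem_pull] at h1
  refine (mem_congr rfl (Category.assoc _ _ _)).trans (h1.trans ((mem_tO C g (k ≫ (pp C ⁻¹ᵁ W₂).ι)
    (by rw [h', Category.assoc]) y).trans (mem_congr (mul_congr G rfl (Category.assoc _ _ _) _ _) ?_)))
  simp only [Category.assoc, sH_ι]

theorem exists_e : ∃ e : W₂.toScheme ⟶ (pp C ⁻¹ᵁ W₂).toScheme,
    e ≫ zH C W₂ = (W₂.ι ≫ C.a) ≫ G.e ∧ e ≫ sH C W₂ = 𝟙 _ :=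
  exists_arrow _ (𝟙 _) (by simp [G.e_s]) fun y =>
    (mem_congr (by simp only [Category.id_comp]) rfl).1
      (D.unit' (𝟙 _) (h := by simp [G.e_s]) y)

/-- Identities. -/
def eH : W₂.toScheme ⟶ (pp C ⁻¹ᵁ W₂).toScheme := D.exists_e.choose

theorem eH_z : D.eH ≫ zH C W₂ = (W₂.ι ≫ C.a) ≫ G.e := D.exists_e.choose_spec.1

theorem eH_s : D.eH ≫ sH C W₂ = 𝟙 _ := D.exists_e.choose_spec.2

omit D in
theorem τ_ext {Z : Scheme.{u}} {y y' : Z ⟶ W₂.toScheme} {b' : Z ⟶ G.U} (h : (y ≫ W₂.ι) ≫ C.a = b')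
    (h' : (y' ≫ W₂.ι) ≫ C.a = b')
    (he : pull G.s (y ≫ W₂.ι) h C.O = pull G.s (y' ≫ W₂.ι) h' C.O) : y = y' :=
  (cancel_mono W₂.ι).1 (C.hom_ext b' _ _ h h' he)

theorem eH_τ : D.eH ≫ D.τ = 𝟙 _ := by
  have hb : (D.eH ≫ zH C W₂) ≫ G.t = W₂.ι ≫ C.a := by
    rw [D.eH_z, Category.assoc _ G.e, G.e_t, Category.comp_id]
  have ha : (D.eH ≫ zH C W₂) ≫ G.s = W₂.ι ≫ C.a := by
    rw [D.eH_z, Category.assoc _ G.e, G.e_s, Category.comp_id]
  refine τ_ext (b' := W₂.ι ≫ C.a) (by rw [← hb]; simp only [Category.assoc, D.zH_t])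
    (by rw [Category.id_comp]) ((D.pull_τ D.eH hb ha).trans ?_)
  exact (shift_unit_preimage D.eH_z _ _ _).trans (pull_congr G.s (by rw [D.eH_s]) _ _)

theorem exists_i : ∃ i : (pp C ⁻¹ᵁ W₂).toScheme ⟶ (pp C ⁻¹ᵁ W₂).toScheme,
    i ≫ zH C W₂ = zH C W₂ ≫ G.i ∧ i ≫ sH C W₂ = D.τ := by
  have hm : ∀ y, pullback.lift (zH C W₂ ≫ G.i) ((𝟙 _ ≫ D.τ) ≫ W₂.ι)
      (by rw [Category.id_comp, inv_s, D.zH_t, Category.assoc]) y ∈ C.O := fun y => by
    refine (D.mem_τ (zH C W₂ ≫ G.i) (𝟙 _) (by rw [Category.id_comp, inv_s, D.zH_t, Category.assoc]) y).2 ?_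
    have h1 : pullback.lift ((sH C W₂ ≫ W₂.ι ≫ C.a) ≫ G.e) (sH C W₂ ≫ W₂.ι)
        (by simp [G.e_s]) y ∈ C.O := D.unit' (sH C W₂) y
    refine (mem_congr ?_ (by rw [Category.id_comp])).1 h1
    refine ((mul_congr G rfl (Category.id_comp _) _ (inv_s G (zH C W₂))).trans
      ((G.i_comp (zH C W₂)).trans ?_)).symm
    rw [← Category.assoc, zH_s]
  have hx : (𝟙 _ ≫ D.τ) ≫ W₂.ι = D.τ ≫ W₂.ι := by rw [Category.id_comp]
  exact exists_arrow _ D.τ (by rw [inv_s, D.zH_t, Category.assoc]) fun y => (mem_congr rfl hx).1 (hm y)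

/-- Inverses. -/
def iH : (pp C ⁻¹ᵁ W₂).toScheme ⟶ (pp C ⁻¹ᵁ W₂).toScheme := D.exists_i.choose

theorem iH_z : D.iH ≫ zH C W₂ = zH C W₂ ≫ G.i := D.exists_i.choose_spec.1

theorem iH_s : D.iH ≫ sH C W₂ = D.τ := D.exists_i.choose_spec.2

theorem iH_τ : D.iH ≫ D.τ = sH C W₂ := by
  have hb : (D.iH ≫ zH C W₂) ≫ G.t = zH C W₂ ≫ G.s := by rw [D.iH_z, inv_t]
  have ha : (D.iH ≫ zH C W₂) ≫ G.s = zH C W₂ ≫ G.t := by rw [D.iH_z, inv_s]
  refine τ_ext (b' := zH C W₂ ≫ G.s) (by rw [← hb]; simp only [Category.assoc, D.zH_t])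
    (by rw [zH_s, Category.assoc]) ((D.pull_τ D.iH hb ha).trans ?_)
  have h2 := D.pull_τ (𝟙 _) (b' := zH C W₂ ≫ G.t) (a' := zH C W₂ ≫ G.s) (by rw [Category.id_comp]) (by rw [Category.id_comp])
  refine (shift_preimage_congr (hb' := hb) (ha' := ha) rfl ((pull_congr G.s (by rw [D.iH_s, Category.id_comp]) _ _).trans h2)).trans
    ((shift_shift_preimage _ _ _ _ _ _ _).trans ((shift_unit_preimage ?_ _ _ _).trans
      (pull_congr G.s (by rw [Category.id_comp]) _ _)))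
  refine (mul_congr G D.iH_z (Category.id_comp _) _ (inv_s G (zH C W₂))).trans ((G.i_comp (zH C W₂)).trans ?_)
  rw [Category.assoc]

theorem exists_c : ∃ c : pullback (sH C W₂) D.τ ⟶ (pp C ⁻¹ᵁ W₂).toScheme,
    (∃ h, c ≫ zH C W₂ = mul G (pullback.fst (sH C W₂) D.τ ≫ zH C W₂) (pullback.snd (sH C W₂) D.τ ≫ zH C W₂) h) ∧
      c ≫ sH C W₂ = pullback.snd (sH C W₂) D.τ ≫ sH C W₂ := by
  have hc : (pullback.fst (sH C W₂) D.τ ≫ zH C W₂) ≫ G.s = (pullback.snd (sH C W₂) D.τ ≫ zH C W₂) ≫ G.t := by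
    rw [Category.assoc, Category.assoc, zH_s, D.zH_t, pullback.condition_assoc]
  obtain ⟨k, hk₁, hk₂⟩ := exists_arrow (mul G _ _ hc) (pullback.snd (sH C W₂) D.τ ≫ sH C W₂)
    (by rw [mul_s]; simp only [Category.assoc, zH_s]) fun y =>
      (D.mem_τ _ _ (by simp only [Category.assoc, zH_s, pullback.condition_assoc]) y).1
        ((mem_congr (Category.assoc _ _ _) (by
          rw [← pullback.condition]; simp only [Category.assoc, sH_ι])).1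
          (obj_mem C (pullback.fst (sH C W₂) D.τ ≫ (pp C ⁻¹ᵁ W₂).ι) (by simp only [Category.assoc, zz_s]) y))
  exact ⟨k, ⟨hc, hk₁⟩, hk₂⟩

/-- Composition. -/
def cH : pullback (sH C W₂) D.τ ⟶ (pp C ⁻¹ᵁ W₂).toScheme := D.exists_c.choose

theorem cH_s : D.cH ≫ (sH C W₂) = pullback.snd (sH C W₂) D.τ ≫ (sH C W₂) := D.exists_c.choose_spec.2

theorem lift_cH_z {Z : Scheme.{u}} (α β : Z ⟶ (pp C ⁻¹ᵁ W₂).toScheme) (h : α ≫ (sH C W₂) = β ≫ D.τ) :
    (pullback.lift α β h ≫ D.cH) ≫ (zH C W₂) =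
      mul G (α ≫ (zH C W₂)) (β ≫ (zH C W₂)) (by simp only [Category.assoc, zH_s, D.zH_t, reassoc_of% h]) := by
  obtain ⟨h', e⟩ := D.exists_c.choose_spec.1
  rw [Category.assoc, cH, e, comp_mul]
  exact mul_congr G (pullback.lift_fst_assoc _ _ _ _) (pullback.lift_snd_assoc _ _ _ _) _ _

theorem lift_cH_s {Z : Scheme.{u}} (α β : Z ⟶ (pp C ⁻¹ᵁ W₂).toScheme) (h : α ≫ (sH C W₂) = β ≫ D.τ) :
    (pullback.lift α β h ≫ D.cH) ≫ (sH C W₂) = β ≫ (sH C W₂) := by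
  rw [Category.assoc, D.cH_s, pullback.lift_snd_assoc]

theorem lift_cH_τ {Z : Scheme.{u}} (α β : Z ⟶ (pp C ⁻¹ᵁ W₂).toScheme) (h : α ≫ (sH C W₂) = β ≫ D.τ) :
    (pullback.lift α β h ≫ D.cH) ≫ D.τ = α ≫ D.τ := by
  let γ := pullback.lift α β h ≫ D.cH
  have hz : γ ≫ (zH C W₂) = mul G (α ≫ (zH C W₂)) (β ≫ (zH C W₂)) _ := D.lift_cH_z α β h
  have hb : (γ ≫ (zH C W₂)) ≫ G.t = (α ≫ (zH C W₂)) ≫ G.t := by rw [hz, mul_t]
  have ha : (γ ≫ (zH C W₂)) ≫ G.s = (β ≫ (zH C W₂)) ≫ G.s := by rw [hz, mul_s]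
  refine τ_ext (b' := (α ≫ (zH C W₂)) ≫ G.t) (by rw [← hb]; simp only [γ, Category.assoc, D.zH_t])
    (by simp only [Category.assoc, D.zH_t]) ((D.pull_τ γ hb ha).trans ?_)
  have hαs : (α ≫ (zH C W₂)) ≫ G.s = (β ≫ (zH C W₂)) ≫ G.t := by
    simp only [Category.assoc, zH_s, D.zH_t, reassoc_of% h]
  refine Eq.trans (shift_preimage_congr (hb' := hz ▸ hb) (ha' := hz ▸ ha) hz (pull_congr G.s (c₁ := (β ≫ sH C W₂) ≫ W₂.ι) (by
    rw [show γ ≫ (sH C W₂) = β ≫ (sH C W₂) from D.lift_cH_s α β h]) _ _)) ?_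
  refine (shift_shift_preimage (α ≫ zH C W₂) (β ≫ zH C W₂) rfl hαs rfl rfl _).symm.trans ?_
  refine Eq.trans ?_ (D.pull_τ α rfl hαs).symm
  exact shift_preimage_congr rfl ((D.pull_τ β rfl rfl).symm.trans (pull_congr G.s (by rw [h]) _ _))

/-- The groupoid. -/
def groupoid : Grpd.GroupoidScheme S where
  U := W₂.toScheme
  R := (pp C ⁻¹ᵁ W₂).toScheme
  pU := (W₂.ι ≫ C.a) ≫ G.pU
  pR := (zH C W₂) ≫ G.pR
  s := (sH C W₂)
  t := D.τ
  e := D.eH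
  i := D.iH
  c := D.cH
  s_over := by rw [← G.s_over, reassoc_of% (zH_s C W₂)]; simp only [Category.assoc]
  t_over := by rw [← G.t_over, reassoc_of% D.zH_t]; simp only [Category.assoc]
  comp_s := D.lift_cH_s
  comp_t := D.lift_cH_τ
  assoc α β γ h₁ h₂ := by
    refine ext ?_ (by rw [D.lift_cH_s, D.lift_cH_s, D.lift_cH_s])
    refine (D.lift_cH_z _ _ _).trans (Eq.trans ?_ (D.lift_cH_z _ _ _).symm)
    exact (mul_congr G (D.lift_cH_z α β h₁) rfl _ _).trans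
      ((mul_assoc' G (α ≫ (zH C W₂)) (β ≫ (zH C W₂)) (γ ≫ (zH C W₂)) (by simp only [Category.assoc, zH_s, D.zH_t, reassoc_of% h₁])
        (by simp only [Category.assoc, zH_s, D.zH_t, reassoc_of% h₂])).trans
        (mul_congr G rfl (D.lift_cH_z β γ h₂).symm _ _))
  e_s := D.eH_s
  e_t := D.eH_τ
  comp_e α := by
    refine ext ?_ (by rw [D.lift_cH_s, Category.assoc, Category.assoc, D.eH_s, Category.comp_id])
    rw [D.lift_cH_z]
    refine (mul_congr G rfl ?_ _ ?_).trans (G.comp_e (α ≫ (zH C W₂)))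
    · simp only [Category.assoc, D.eH_z, reassoc_of% (zH_s C W₂)]
    · simp only [Category.assoc, G.e_t, Category.comp_id]
  e_comp α := by
    refine ext ?_ (by rw [D.lift_cH_s])
    rw [D.lift_cH_z]
    refine (mul_congr G ?_ rfl _ ?_).trans (G.e_comp (α ≫ (zH C W₂)))
    · simp only [Category.assoc, D.eH_z, reassoc_of% D.zH_t]
    · simp only [Category.assoc, G.e_s, Category.comp_id]
  i_s := D.iH_s
  i_t := D.iH_τ
  comp_i α := by
    refine ext ?_ (by rw [D.lift_cH_s, Category.assoc, D.iH_s, Category.assoc, Category.assoc, D.eH_s, Category.comp_id])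
    rw [D.lift_cH_z]
    refine (mul_congr G rfl ?_ _ ?_).trans ((G.comp_i (α ≫ (zH C W₂))).trans ?_)
    · simp only [Category.assoc, D.iH_z]
    · simp only [Category.assoc, G.i_t]
    · simp only [Category.assoc, D.eH_z, reassoc_of% D.zH_t]
  i_comp α := by
    refine ext ?_ (by rw [D.lift_cH_s, Category.assoc, Category.assoc, D.eH_s, Category.comp_id])
    rw [D.lift_cH_z]
    refine (mul_congr G ?_ rfl _ ?_).trans ((G.i_comp (α ≫ (zH C W₂))).trans ?_)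
    · simp only [Category.assoc, D.iH_z]
    · simp only [Category.assoc, G.i_s]
    · simp only [Category.assoc, D.eH_z, reassoc_of% (zH_s C W₂)]

/-- The morphism to the original groupoid. -/
def hom : Grpd.GroupoidScheme.Hom D.groupoid G where
  fU := W₂.ι ≫ C.a
  fR := (zH C W₂)
  fU_over := rfl
  comm_s := zH_s C W₂
  comm_t := D.zH_t
  comm_c := D.lift_cH_z

theorem isFinite_s : IsFinite (sH C W₂) :=
  haveI := isFinite_pp C
  IsZariskiLocalAtTarget.restrict (P := @IsFinite) inferInstance W₂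

theorem flat_s [Flat G.s] : Flat (sH C W₂) :=
  IsZariskiLocalAtTarget.restrict (P := @Flat) (inferInstanceAs (Flat (C.O.ι ≫ pullback.snd G.s C.a))) W₂

theorem lfp_s [LocallyOfFinitePresentation G.s] : LocallyOfFinitePresentation (sH C W₂) :=
  IsZariskiLocalAtTarget.restrict (P := @LocallyOfFinitePresentation)
    (inferInstanceAs (LocallyOfFinitePresentation (C.O.ι ≫ pullback.snd G.s C.a))) W₂

instance : IsIso D.iH := by
  have h : D.iH ≫ D.iH = 𝟙 _ := by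
    refine ext ?_ ?_
    · rw [Category.assoc, D.iH_z, reassoc_of% D.iH_z, Category.id_comp]
      have h2 : G.i ≫ G.i = 𝟙 G.R := by
        have e1 := L02.Grpd.cancel_left G G.i (𝟙 G.R) (by rw [G.i_s, Category.id_comp])
        refine Eq.trans ?_ e1
        refine ((G.comp_e (G.i ≫ G.i)).symm.trans ?_)
        refine mul_congr G rfl ?_ _ _
        refine (((G.i_comp (𝟙 G.R)).trans ?_).symm.trans (mul_congr G (Category.id_comp _) rfl _ _))
        simp only [Category.id_comp, Category.assoc, reassoc_of% G.i_s, reassoc_of% G.i_t]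
      rw [h2, Category.comp_id]
    · rw [Category.assoc, D.iH_s, D.iH_τ, Category.id_comp]
  exact ⟨D.iH, h, h⟩

theorem τ_eq : D.τ = D.iH ≫ (sH C W₂) := D.iH_s.symm

end Tgt

end Groth.L24.Split
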